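import Groth.Agent.H54.AffineDim

set_option autoImplicit false
universe u

namespace Groth.Agent.H54

theorem exists_nat_eq_of_le {x : WithBot ℕ∞} (h0 : x ≠ ⊥) {n : ℕ}
    (hn : x ≤ (n : WithBot ℕ∞)) : ∃ b : ℕ, x = b := by
  induction x using WithBot.recBotCoe with
  | bot => exact absurd rfl h0
  | coe y =>
    have hy : y ≤ (n : ℕ∞) := by exact_mod_cast hn
    have hy' : y ≠ ⊤ := ne_top_of_le_ne_top (ENat.natCast_ne_top n) hy
    refine ⟨y.toNat, ?_⟩
    rw [← WithBot.coe_natCast, ENat.natCast_toNat hy']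

/-- Dimension formula for finitely generated domains over a field. -/
theorem height_add_ringKrullDim_quotient (k : Type u) [Field k] (A : Type u) [CommRing A]
    [IsDomain A] [Algebra k A] [Algebra.FiniteType k A] (P : PrimeSpectrum A) :
    (P.asIdeal.height : WithBot ℕ∞) + ringKrullDim (A ⧸ P.asIdeal) = ringKrullDim A := by
  haveI : IsNoetherianRing A := Algebra.FiniteType.isNoetherianRing k A
  have hfin : P.asIdeal.height ≠ ⊤ := Ideal.height_ne_top_of_isPrime
  obtain ⟨m, hm⟩ : ∃ m : ℕ, P.asIdeal.height = m := ⟨_, (ENat.natCast_toNat hfin).symm⟩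
  induction m generalizing P with
  | zero =>
    have h0 : Order.height P = 0 := by
      rw [← PrimeSpectrum.height_eq_orderHeight, hm]
      rfl
    have hmin : IsMin P := Order.height_eq_zero.mp h0
    have hbot : P.asIdeal = ⊥ := by
      have h1 : (⟨⊥, Ideal.isPrime_bot⟩ : PrimeSpectrum A) ≤ P := bot_le (a := P.asIdeal)
      have h2 : P.asIdeal ≤ ⊥ := hmin h1
      exact le_bot_iff.mp h2
    rw [hm]
    have e : (A ⧸ P.asIdeal) ≃+* A := (Ideal.quotEquivOfEq hbot).trans (RingEquiv.quotientBot A)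
    rw [ringKrullDim_eq_of_ringEquiv e]
    simp
  | succ m ih =>
    have h1 : Order.height P = m + 1 := by
      rw [← PrimeSpectrum.height_eq_orderHeight, hm]
      norm_cast
    obtain ⟨-, ⟨Q, hQP, hQ⟩, hall⟩ := Order.height_eq_coe_add_one_iff.mp h1
    have hcov : Q ⋖ P := by
      refine ⟨hQP, fun Z hQZ hZP => ?_⟩
      have h2 := Order.height_add_one_le hQZ
      have h3 := hall Z hZP
      rw [hQ] at h2
      have h4 : ((m : ℕ∞) + 1) ≤ m := h2.trans h3
      have h5 : m + 1 ≤ m := by exact_mod_cast h4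
      omega
    have hQm : Q.asIdeal.height = m := by rw [PrimeSpectrum.height_eq_orderHeight, hQ]
    have ihQ := ih Q (by rw [hQm]; exact ENat.natCast_ne_top m) hQm
    have hc := ringKrullDim_quotient_add_one_of_covBy k A Q P hcov
    rw [hm, ← ihQ, hQm, ← hc]
    push_cast
    rw [add_assoc, add_comm (1 : WithBot ℕ∞)]

end Groth.Agent.H54
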