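import Groth.Agent.H54.AffineDim
import Mathlib.RingTheory.AlgebraicIndependent.TranscendenceBasis
import Mathlib.RingTheory.AlgebraicIndependent.Transcendental
import Mathlib.RingTheory.Algebraic.Integral
import Mathlib.RingTheory.Localization.FractionRing

set_option autoImplicit false
universe u

namespace Groth.Agent.H54

/-- If `A` is a domain, finite and injective over `k[X₁..Xₛ]`, then `trdeg k A = s`. -/
theorem trdeg_eq_of_finite_injective (k : Type u) [Field k] (A : Type u) [CommRing A] [IsDomain A]
    [Algebra k A] (s : ℕ) (g : MvPolynomial (Fin s) k →ₐ[k] A) (hinj : Function.Injective g)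
    (hfin : g.Finite) : Algebra.trdeg k A = (s : Cardinal.{u}) := by
  letI : Algebra (MvPolynomial (Fin s) k) A := g.toRingHom.toAlgebra
  haveI : Module.Finite (MvPolynomial (Fin s) k) A := hfin
  haveI : IsScalarTower k (MvPolynomial (Fin s) k) A :=
    IsScalarTower.of_algebraMap_eq fun r => (g.commutes r).symm
  haveI : FaithfulSMul (MvPolynomial (Fin s) k) A :=
    (faithfulSMul_iff_algebraMap_injective _ _).mpr hinj
  have h1 := trdeg_add_eq k (MvPolynomial (Fin s) k) (A := A)
  rw [trdeg_eq_zero (R := MvPolynomial (Fin s) k) (A := A), add_zero,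
    MvPolynomial.trdeg_of_isDomain] at h1
  rw [← h1]
  simp

/-- The transcendence degree of a domain equals that of its fraction field. -/
theorem trdeg_eq_trdeg_of_isFractionRing (k : Type u) [Field k] (A : Type u) [CommRing A]
    [IsDomain A] [Algebra k A] (K : Type u) [Field K] [Algebra A K] [IsFractionRing A K]
    [Algebra k K] [IsScalarTower k A K] : Algebra.trdeg k K = Algebra.trdeg k A := by
  haveI : FaithfulSMul k A := inferInstance
  haveI : Algebra.IsAlgebraic A K := IsLocalization.isAlgebraic K (nonZeroDivisors A)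
  have h1 := trdeg_add_eq k A (A := K)
  rw [trdeg_eq_zero (R := A) (A := K), add_zero] at h1
  exact h1.symm

/-- For a domain of finite type over a field, `dim = trdeg`. -/
theorem exists_ringKrullDim_eq_trdeg (k : Type u) [Field k] (A : Type u) [CommRing A] [IsDomain A]
    [Algebra k A] [Algebra.FiniteType k A] :
    ∃ n : ℕ, Algebra.trdeg k A = (n : Cardinal.{u}) ∧ ringKrullDim A = (n : WithBot ℕ∞) := by
  obtain ⟨s, g, hinj, hfin⟩ := exists_finite_inj_algHom_of_fg k A
  refine ⟨s, trdeg_eq_of_finite_injective k A s g hinj hfin, ?_⟩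
  rw [ringKrullDim_eq_of_ringHom_isIntegral_of_injective g.toRingHom ?_ hinj,
    ringKrullDim_mvPolynomial_field]
  exact hfin.to_isIntegral

end Groth.Agent.H54
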