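import Mathlib.Topology.Sober
import Mathlib.Topology.Irreducible
import Mathlib.Topology.Inseparable
import Mathlib.Topology.Separation.Basic

set_option autoImplicit false

namespace Groth.Agent.H54

/-- If the closure of a point is an irreducible component, the point has no proper generization. -/
theorem eq_of_specializes_of_closure_mem_irreducibleComponents {A : Type*} [TopologicalSpace A]
    [T0Space A] {z : A} (h : closure ({z} : Set A) ∈ irreducibleComponents A) {z' : A}
    (hz : z' ⤳ z) : z' = z := by
  have h1 : closure ({z} : Set A) ⊆ closure {z'} := specializes_iff_closure_subset.mp hz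
  have h2 : closure ({z'} : Set A) ⊆ closure {z} := h.2 isIrreducible_singleton.closure h1
  exact (hz.antisymm (specializes_iff_closure_subset.mpr h2)).eq

/-- In a quasi-sober space, the closure of a point without proper generizations is an irreducible
component. -/
theorem closure_mem_irreducibleComponents_of_forall {A : Type*} [TopologicalSpace A]
    [QuasiSober A] {z : A} (h : ∀ z' : A, z' ⤳ z → z' = z) :
    closure ({z} : Set A) ∈ irreducibleComponents A := by
  refine ⟨isIrreducible_singleton.closure, fun T hT hsub => ?_⟩
  obtain ⟨z', hz'⟩ := QuasiSober.sober hT.closure isClosed_closure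
  have hzT : z ∈ closure T := subset_closure (hsub (subset_closure rfl))
  have hz'z : z' ⤳ z := specializes_iff_mem_closure.mpr (hz'.def.symm ▸ hzT)
  have := h z' hz'z
  subst this
  exact fun t ht => hz'.def.symm ▸ subset_closure ht

/-- Irreducible components through `x` correspond to irreducible components of the space of
generizations of `x`. -/
theorem bijOn_irreducibleComponents_of_range_eq {A B : Type*} [TopologicalSpace A]
    [TopologicalSpace B] [T0Space A] [QuasiSober A] [T0Space B] [QuasiSober B] (φ : A → B)
    (hφ : Topology.IsEmbedding φ) (x : B) (hr : Set.range φ = {y | y ⤳ x}) :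
    Set.BijOn (fun z : A => closure ({φ z} : Set B))
      {z | closure ({z} : Set A) ∈ irreducibleComponents A}
      {Z | Z ∈ irreducibleComponents B ∧ x ∈ Z} := by
  have hφx : ∀ z, φ z ⤳ x := fun z => by
    have : φ z ∈ Set.range φ := ⟨z, rfl⟩
    rwa [hr] at this
  refine ⟨?_, ?_, ?_⟩
  · intro z hz
    refine ⟨closure_mem_irreducibleComponents_of_forall fun ζ hζ => ?_,
      specializes_iff_mem_closure.mp (hφx z)⟩
    have : ζ ∈ Set.range φ := by rw [hr]; exact hζ.trans (hφx z)
    obtain ⟨z', rfl⟩ := this
    have h1 : z' ⤳ z := hφ.isInducing.specializes_iff.mp hζ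
    rw [eq_of_specializes_of_closure_mem_irreducibleComponents hz h1]
  · intro z _ z' _ h
    have h' : closure ({φ z} : Set B) = closure {φ z'} := h
    have h1 : φ z ⤳ φ z' := specializes_iff_closure_subset.mpr h'.ge
    have h2 : φ z' ⤳ φ z := specializes_iff_closure_subset.mpr h'.le
    exact hφ.injective (h1.antisymm h2).eq
  · rintro Z ⟨hZ, hxZ⟩
    obtain ⟨ζ, hζ⟩ := QuasiSober.sober hZ.1 (isClosed_of_mem_irreducibleComponents Z hZ)
    have hζx : ζ ⤳ x := specializes_iff_mem_closure.mpr (hζ.def.symm ▸ hxZ)
    have : ζ ∈ Set.range φ := by rw [hr]; exact hζx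
    obtain ⟨z, rfl⟩ := this
    have hZ' : closure ({φ z} : Set B) ∈ irreducibleComponents B := hζ.def.symm ▸ hZ
    refine ⟨z, closure_mem_irreducibleComponents_of_forall fun z' hz' => ?_, hζ.def⟩
    have h1 : φ z' ⤳ φ z := hz'.map hφ.continuous
    exact hφ.injective (eq_of_specializes_of_closure_mem_irreducibleComponents hZ' h1)

end Groth.Agent.H54
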