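import Mathlib.AlgebraicGeometry.ValuativeCriterion
import Mathlib.RingTheory.DiscreteValuationRing.TFAE
import Mathlib.RingTheory.KrullDimension.Basic
import Mathlib.AlgebraicGeometry.Noetherian
import Mathlib.AlgebraicGeometry.FunctionField

set_option autoImplicit false
universe u

namespace Groth.Agent.H54

/-- A Noetherian local integrally closed domain of Krull dimension at most one is a valuation ring
(a field or a discrete valuation ring). -/
lemma valuationRing_of_ringKrullDim_le_one (R : Type u) [CommRing R] [IsDomain R] [IsLocalRing R]
    [IsNoetherianRing R] (hic : IsIntegrallyClosed R) (hdim : ringKrullDim R ≤ 1) :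
    ValuationRing R := by
  have h := (tfae_of_isNoetherianRing_of_isLocalRing_of_isDomain R).out 3 1
  refine h.mp ⟨hic, fun P hP hP' => ?_⟩
  have h1 : Ring.KrullDimLE 1 R := (Ring.krullDimLE_iff (n := 1)).mpr (by exact_mod_cast hdim)
  exact IsLocalRing.eq_maximalIdeal (Ring.krullDimLE_one_iff_of_isPrime_bot.mp h1 P hP hP')

open AlgebraicGeometry CategoryTheory in
/-- Universally closed morphisms satisfy the existence part of the valuative criterion. -/
lemma existence_of_universallyClosed {X Y : Scheme.{u}} (f : X ⟶ Y) [UniversallyClosed f] :
    ValuativeCriterion.Existence f := by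
  have h : UniversallyClosed f := inferInstance
  rw [UniversallyClosed.eq_valuativeCriterion] at h
  exact h.1

end Groth.Agent.H54
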