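import Groth.Agent.H54.Extend
import Groth.Agent.H54.ValRing
import Mathlib.RingTheory.RegularLocalRing.Defs
import Mathlib.RingTheory.Nakayama
import Mathlib.AlgebraicGeometry.Morphisms.Separated
import Mathlib.AlgebraicGeometry.Morphisms.Proper
import Mathlib.AlgebraicGeometry.Morphisms.UnderlyingMap
import Mathlib.AlgebraicGeometry.ValuativeCriterion
import Mathlib.AlgebraicGeometry.SpreadingOut
import Mathlib.AlgebraicGeometry.Noetherian

set_option autoImplicit false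
universe u

namespace Groth.Agent.H54

open AlgebraicGeometry CategoryTheory Limits IsLocalRing

/-- In a regular local ring of dimension at most one, the zero ideal is prime and the maximal ideal
is principal. -/
lemma bot_isPrime_and_isPrincipal_of_isRegularLocalRing (R : Type*) [CommRing R]
    [IsRegularLocalRing R] (hdim : ringKrullDim R ≤ 1) :
    (⊥ : Ideal R).IsPrime ∧ (maximalIdeal R).IsPrincipal := by
  have hfg : (maximalIdeal R).FG := IsNoetherian.noetherian _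
  have hspan : ((maximalIdeal R).spanFinrank : WithBot ℕ∞) = ringKrullDim R :=
    IsRegularLocalRing.spanFinrank_maximalIdeal
  have hle : (maximalIdeal R).spanFinrank ≤ 1 := by
    have h1 : ((maximalIdeal R).spanFinrank : WithBot ℕ∞) ≤ 1 := hspan ▸ hdim
    exact Nat.cast_le_one.mp h1
  have hmprime : (maximalIdeal R).IsPrime := (maximalIdeal.isMaximal R).isPrime
  rcases Nat.le_one_iff_eq_zero_or_eq_one.mp hle with h0 | h1
  · have hbot : maximalIdeal R = ⊥ := (Submodule.spanFinrank_eq_zero_iff_eq_bot hfg).mp h0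
    refine ⟨?_, ?_⟩
    · rw [← hbot]; exact hmprime
    · rw [hbot]; exact bot_isPrincipal
  · obtain ⟨hprin, hne⟩ := (Submodule.spanFinrank_eq_one_iff _).mp h1
    refine ⟨?_, hprin⟩
    have hdim1 : ringKrullDim R = 1 := by rw [← hspan, h1, Nat.cast_one]
    obtain ⟨P, hP, hPm⟩ : ∃ P : Ideal R, P.IsPrime ∧ ¬ P.IsMaximal := by
      by_contra hcon
      push_neg at hcon
      have hK : Ring.KrullDimLE 0 R := Ring.KrullDimLE.mk₀ hcon
      have h0 : ringKrullDim R ≤ ((0 : ℕ) : WithBot ℕ∞) := (Ring.krullDimLE_iff (n := 0)).mp hK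
      have h0' : ((1 : ℕ) : WithBot ℕ∞) ≤ ((0 : ℕ) : WithBot ℕ∞) := by
        rw [Nat.cast_one, ← hdim1]; exact h0
      have h01 : (1 : ℕ) ≤ 0 := by exact_mod_cast h0'
      omega
    have hPle : P ≤ maximalIdeal R := IsLocalRing.le_maximalIdeal hP.ne_top
    have hPne : P ≠ maximalIdeal R := fun h => hPm (h ▸ maximalIdeal.isMaximal R)
    obtain ⟨⟨π, hπ⟩⟩ := hprin
    have hπm : π ∈ maximalIdeal R := by
      rw [hπ]; exact Submodule.mem_span_singleton_self π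
    have hπP : π ∉ P := by
      intro hπP
      apply hPne
      refine le_antisymm hPle ?_
      rw [hπ]
      exact (Submodule.span_singleton_le_iff_mem _ _).mpr hπP
    have hPsmul : P ≤ maximalIdeal R • P := by
      intro x hx
      have hxm : x ∈ maximalIdeal R := hPle hx
      rw [hπ] at hxm
      obtain ⟨a, rfl⟩ := Submodule.mem_span_singleton.mp hxm
      have ha : a ∈ P := by
        rcases hP.mem_or_mem (show a * π ∈ P from hx) with h | h
        · exact h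
        · exact absurd h hπP
      have h1 : π • a ∈ maximalIdeal R • P := Submodule.smul_mem_smul hπm ha
      have h2 : a • π = π • a := by simp only [smul_eq_mul, mul_comm]
      rw [h2]; exact h1
    have hPbot : P = ⊥ :=
      Submodule.eq_bot_of_le_smul_of_le_jacobson_bot (maximalIdeal R) P
        (IsNoetherian.noetherian P) hPsmul (IsLocalRing.maximalIdeal_le_jacobson ⊥)
    rw [← hPbot]; exact hP

/-- A regular local ring of dimension at most one is a valuation ring (a field or a discrete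
valuation ring). -/
lemma exists_isDomain_valuationRing_of_isRegularLocalRing (R : Type*) [CommRing R]
    [IsRegularLocalRing R] (hdim : ringKrullDim R ≤ 1) :
    ∃ hdom : IsDomain R, @ValuationRing R _ hdom := by
  obtain ⟨hbot, hprin⟩ := bot_isPrime_and_isPrincipal_of_isRegularLocalRing R hdim
  haveI := hbot
  haveI hdom : IsDomain R := IsDomain.of_bot_isPrime R
  exact ⟨hdom, ((tfae_of_isNoetherianRing_of_isLocalRing_of_isDomain R).out 4 1).mp hprin⟩

/-- In a locally Noetherian scheme, if `ξ` specializes to every generization of `x`, then some open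
neighbourhood of `x` lies in the closure of `ξ`. -/
theorem exists_open_subset_closure_of_isLocallyNoetherian (X : Scheme.{u}) [IsLocallyNoetherian X]
    (ξ x : X) (h2 : ∀ y, y ⤳ x → ξ ⤳ y) :
    ∃ X₁ : Set X, IsOpen X₁ ∧ x ∈ X₁ ∧ X₁ ⊆ closure {ξ} := by
  obtain ⟨W, hW, hxW, -⟩ := exists_isAffineOpen_mem_and_subset (X := X) (x := x) (U := ⊤) trivial
  haveI : IsNoetherianRing Γ(X, W) := IsLocallyNoetherian.component_noetherian ⟨W, hW⟩
  haveI : TopologicalSpace.NoetherianSpace W := noetherianSpace_of_isAffineOpen W hW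
  haveI : QuasiSober W := W.isOpenEmbedding'.quasiSober
  have hξW : ξ ∈ W := (h2 x specializes_rfl).mem_open W.2 hxW
  have hfin : (irreducibleComponents W).Finite :=
    TopologicalSpace.NoetherianSpace.finite_irreducibleComponents
  have h2' : ∀ y : W, y ⤳ (⟨x, hxW⟩ : W) → (⟨ξ, hξW⟩ : W) ⤳ y := by
    intro y hy
    have hyx : (y : X) ⤳ x := hy.map continuous_subtype_val
    exact (subtype_specializes_iff _ _).mpr (h2 _ hyx)
  obtain ⟨X₁, hX₁o, hxX₁, hX₁⟩ := exists_open_subset_closure hfin (⟨ξ, hξW⟩ : W) ⟨x, hxW⟩ h2'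
  refine ⟨Subtype.val '' X₁, W.2.isOpenMap_subtype_val _ hX₁o, ⟨⟨x, hxW⟩, hxX₁, rfl⟩, ?_⟩
  rintro _ ⟨z, hz, rfl⟩
  have hz' : (⟨ξ, hξW⟩ : W) ⤳ z := specializes_iff_mem_closure.mpr (hX₁ hz)
  exact specializes_iff_mem_closure.mp (hz'.map continuous_subtype_val)

/-- Let `p : X ⟶ S` and `q : Y ⟶ S` with `q` proper and `X` reduced and locally Noetherian, `x` a
point of `X` whose local ring is a valuation ring, `U ⊆ X` an open with `x` in its closure, and
`f : U ⟶ Y` a morphism over `S`. Then `f` extends over an open containing `U` and `x`. -/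
theorem exists_extension_of_valuationRing_stalk {X Y S : Scheme.{u}} (p : X ⟶ S) (q : Y ⟶ S)
    [IsProper q] [IsReduced X] [IsLocallyNoetherian X]
    (x : X) (U : X.Opens) (f : (U : Scheme.{u}) ⟶ Y) (hf : f ≫ q = U.ι ≫ p)
    (hx : x ∈ closure (U : Set ↥X))
    (hdom : IsDomain (X.presheaf.stalk x)) (hval : @ValuationRing (X.presheaf.stalk x) _ hdom) :
    ∃ (U' : X.Opens) (hUU' : U ≤ U'), x ∈ U' ∧
      ∃ f' : (U' : Scheme.{u}) ⟶ Y, f' ≫ q = U'.ι ≫ p ∧ X.homOfLE hUU' ≫ f' = f := by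
  classical
  haveI := hdom
  haveI := hval
  haveI hgi : X.IsGermInjectiveAt x := inferInstance
  obtain ⟨U₂, hxU₂, hU₂red⟩ : ∃ U₂ : X.Opens, x ∈ U₂ ∧ IsReduced (U₂ : Scheme.{u}) :=
    ⟨⊤, trivial, inferInstance⟩
  haveI := hU₂red
  -- the generic point of the local ring
  have hjφ : ∃ (j : Spec (CommRingCat.of (FractionRing (X.presheaf.stalk x))) ⟶
      Spec (X.presheaf.stalk x)), j = Spec.map (CommRingCat.ofHom
        (algebraMap (X.presheaf.stalk x) (FractionRing (X.presheaf.stalk x)))) := ⟨_, rfl⟩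
  obtain ⟨j, hj⟩ := hjφ
  set z₀ : ↥(Spec (CommRingCat.of (FractionRing (X.presheaf.stalk x)))) :=
    IsLocalRing.closedPoint (FractionRing (X.presheaf.stalk x)) with hz₀
  haveI hsub : Subsingleton ↥(Spec (CommRingCat.of (FractionRing (X.presheaf.stalk x)))) :=
    inferInstanceAs (Subsingleton (PrimeSpectrum (FractionRing (X.presheaf.stalk x))))
  set ξ : X := (j ≫ X.fromSpecStalk x) z₀ with hξ
  have hξx : ξ ⤳ x := by
    have : ξ ∈ Set.range (X.fromSpecStalk x) := ⟨j z₀, by rw [hξ, Scheme.Hom.comp_apply]⟩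
    rwa [Scheme.range_fromSpecStalk] at this
  have h2 : ∀ y, y ⤳ x → ξ ⤳ y := by
    intro y hy
    have hy' : y ∈ Set.range (X.fromSpecStalk x) := by rwa [Scheme.range_fromSpecStalk]
    obtain ⟨P, rfl⟩ := hy'
    have hle : PrimeSpectrum.asIdeal (j z₀) ≤ PrimeSpectrum.asIdeal P := by
      intro r hr
      have hr' : algebraMap (X.presheaf.stalk x) (FractionRing (X.presheaf.stalk x)) r ∈
          IsLocalRing.maximalIdeal (FractionRing (X.presheaf.stalk x)) := by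
        rw [hj] at hr; exact hr
      rw [IsLocalRing.maximalIdeal_eq_bot, Ideal.mem_bot] at hr'
      have : r = 0 := IsFractionRing.injective (X.presheaf.stalk x)
        (FractionRing (X.presheaf.stalk x)) (by rw [hr', map_zero])
      rw [this]; exact (PrimeSpectrum.asIdeal P).zero_mem
    have hsp : j z₀ ⤳ P :=
      (PrimeSpectrum.le_iff_specializes (j z₀) P).mp ((PrimeSpectrum.asIdeal_le_asIdeal _ _).mp hle)
    rw [hξ, Scheme.Hom.comp_apply]
    exact hsp.map (X.fromSpecStalk x).continuous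
  obtain ⟨X₁s, hX₁open, hxX₁, hX₁sub⟩ :=
    exists_open_subset_closure_of_isLocallyNoetherian X ξ x h2
  set X₁ : X.Opens := ⟨X₁s, hX₁open⟩ with hX₁
  have hξU : ξ ∈ U := by
    obtain ⟨z, hz1, hzU⟩ := mem_closure_iff.mp hx X₁s hX₁open hxX₁
    exact (specializes_iff_mem_closure.mpr (hX₁sub hz1)).mem_open U.2 hzU
  have hrangeU : Set.range (j ≫ X.fromSpecStalk x) ⊆ Set.range U.ι := by
    rintro _ ⟨z, rfl⟩
    rw [Scheme.Opens.range_ι, Subsingleton.elim z z₀]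
    exact hξU
  obtain ⟨gU, hgU⟩ : ∃ gU, gU ≫ U.ι = j ≫ X.fromSpecStalk x :=
    ⟨_, IsOpenImmersion.lift_fac _ _ hrangeU⟩
  -- the valuative criterion
  have hex : ValuativeCriterion.Existence q := existence_of_universallyClosed q
  have w : (gU ≫ f) ≫ q = Spec.map (CommRingCat.ofHom
        (algebraMap (X.presheaf.stalk x) (FractionRing (X.presheaf.stalk x)))) ≫
      (X.fromSpecStalk x ≫ p) := by
    rw [Category.assoc, hf, ← Category.assoc, hgU, ← hj, Category.assoc]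
  obtain ⟨⟨⟨t, ht₁, ht₂⟩⟩⟩ := hex (@ValuativeCommSq.mk _ _ q (X.presheaf.stalk x) _ hdom hval
    (FractionRing (X.presheaf.stalk x)) _ _ _ (gU ≫ f) (X.fromSpecStalk x ≫ p) ⟨w⟩)
  replace ht₁ : j ≫ t = gU ≫ f := by rw [hj]; exact ht₁
  -- spreading out
  obtain ⟨W, hxW, f'', ht, hf''⟩ := spread_out_of_isGermInjective' p q (x := x) t ht₂
  have hW'W : W ⊓ X₁ ⊓ U₂ ≤ W := inf_le_left.trans inf_le_left
  have hxW' : x ∈ W ⊓ X₁ ⊓ U₂ := ⟨⟨hxW, hxX₁⟩, hxU₂⟩
  have hg''q : (X.homOfLE hW'W ≫ f'') ≫ q = (W ⊓ X₁ ⊓ U₂).ι ≫ p := by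
    rw [Category.assoc, hf'', ← Category.assoc, X.homOfLE_ι]
  -- agreement on the intersection
  have hNU₂ : U ⊓ (W ⊓ X₁ ⊓ U₂) ≤ U₂ := inf_le_right.trans inf_le_right
  haveI : IsReduced ((U ⊓ (W ⊓ X₁ ⊓ U₂) : X.Opens) : Scheme.{u}) :=
    isReduced_of_isOpenImmersion (X.homOfLE hNU₂)
  have hξN : ξ ∈ U ⊓ (W ⊓ X₁ ⊓ U₂) :=
    ⟨hξU, ⟨⟨hξx.mem_open W.2 hxW, hξx.mem_open hX₁open hxX₁⟩, hξx.mem_open U₂.2 hxU₂⟩⟩
  have hrangeN : Set.range (j ≫ X.fromSpecStalk x) ⊆ Set.range (U ⊓ (W ⊓ X₁ ⊓ U₂)).ι := by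
    rintro _ ⟨z, rfl⟩
    rw [Scheme.Opens.range_ι, Subsingleton.elim z z₀]
    exact hξN
  obtain ⟨gN, hgN⟩ : ∃ gN, gN ≫ (U ⊓ (W ⊓ X₁ ⊓ U₂)).ι = j ≫ X.fromSpecStalk x :=
    ⟨_, IsOpenImmersion.lift_fac _ _ hrangeN⟩
  have hab : X.homOfLE (inf_le_left : U ⊓ (W ⊓ X₁ ⊓ U₂) ≤ U) ≫ f =
      X.homOfLE (inf_le_right : U ⊓ (W ⊓ X₁ ⊓ U₂) ≤ W ⊓ X₁ ⊓ U₂) ≫ (X.homOfLE hW'W ≫ f'') := by
    have H' : (X.homOfLE (inf_le_left : U ⊓ (W ⊓ X₁ ⊓ U₂) ≤ U) ≫ f) ≫ q =
        (X.homOfLE (inf_le_right : U ⊓ (W ⊓ X₁ ⊓ U₂) ≤ W ⊓ X₁ ⊓ U₂) ≫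
          (X.homOfLE hW'W ≫ f'')) ≫ q := by
      rw [Category.assoc, hf, ← Category.assoc, X.homOfLE_ι, Category.assoc, hg''q,
        ← Category.assoc, X.homOfLE_ι]
    have hga : gN ≫ (X.homOfLE (inf_le_left : U ⊓ (W ⊓ X₁ ⊓ U₂) ≤ U) ≫ f) =
        gN ≫ (X.homOfLE (inf_le_right : U ⊓ (W ⊓ X₁ ⊓ U₂) ≤ W ⊓ X₁ ⊓ U₂) ≫
          (X.homOfLE hW'W ≫ f'')) := by
      have e1 : gN ≫ X.homOfLE (inf_le_left : U ⊓ (W ⊓ X₁ ⊓ U₂) ≤ U) = gU := by
        rw [← cancel_mono U.ι, Category.assoc, X.homOfLE_ι, hgN, hgU]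
      have e2 : gN ≫ X.homOfLE (inf_le_right : U ⊓ (W ⊓ X₁ ⊓ U₂) ≤ W ⊓ X₁ ⊓ U₂) ≫
          X.homOfLE hW'W = j ≫ W.fromSpecStalkOfMem x hxW := by
        rw [← cancel_mono W.ι, Category.assoc, Category.assoc, X.homOfLE_ι, X.homOfLE_ι, hgN,
          Category.assoc, Scheme.Opens.fromSpecStalkOfMem_ι]
      rw [← Category.assoc, e1, ← ht₁, ht, ← Category.assoc, ← Category.assoc, ← e2]
      simp only [Category.assoc]
    refine ext_of_fromSpecResidueField_eq _ _ q {gN z₀} ?_ ?_ H'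
    · intro y
      have hy : ξ ⤳ (U ⊓ (W ⊓ X₁ ⊓ U₂)).ι y := by
        apply specializes_iff_mem_closure.mpr
        apply hX₁sub
        exact y.2.2.1.2
      have hξ' : (U ⊓ (W ⊓ X₁ ⊓ U₂)).ι (gN z₀) = ξ := by
        rw [hξ, ← hgN, Scheme.Hom.comp_apply]
      rw [← hξ'] at hy
      exact specializes_iff_mem_closure.mp
        ((U ⊓ (W ⊓ X₁ ⊓ U₂)).ι.isOpenEmbedding.isInducing.specializes_iff.mp hy)
    · rintro _ rfl
      exact fromSpecResidueField_comp_eq_of_field_point _ gN _ _ hga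
  -- gluing
  obtain ⟨G, hG⟩ := glue_family (X := X) (Y := Y)
    (fun b : Bool => cond b U (W ⊓ X₁ ⊓ U₂))
    (fun b => Bool.rec (motive := fun b => ((cond b U (W ⊓ X₁ ⊓ U₂) : X.Opens) : Scheme.{u}) ⟶ Y)
      (X.homOfLE hW'W ≫ f'') f b)
    (by
      rintro (_ | _) (_ | _)
      · rfl
      · have hsw : (W ⊓ X₁ ⊓ U₂) ⊓ U ≤ U ⊓ (W ⊓ X₁ ⊓ U₂) := le_of_eq (inf_comm _ _)
        show X.homOfLE (inf_le_left : (W ⊓ X₁ ⊓ U₂) ⊓ U ≤ W ⊓ X₁ ⊓ U₂) ≫ (X.homOfLE hW'W ≫ f'') =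
          X.homOfLE (inf_le_right : (W ⊓ X₁ ⊓ U₂) ⊓ U ≤ U) ≫ f
        rw [← X.homOfLE_homOfLE hsw inf_le_right, ← X.homOfLE_homOfLE hsw inf_le_left,
          Category.assoc, Category.assoc, hab]
      · exact hab
      · rfl)
  refine ⟨⨆ b : Bool, cond b U (W ⊓ X₁ ⊓ U₂), le_iSup (fun b : Bool => cond b U (W ⊓ X₁ ⊓ U₂)) true,
    TopologicalSpace.Opens.mem_iSup.mpr ⟨false, hxW'⟩, G, ?_, hG true⟩
  refine Scheme.Cover.hom_ext (Scheme.Opens.iSupOpenCover
    (fun b : Bool => cond b U (W ⊓ X₁ ⊓ U₂))) _ _ fun b => ?_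
  show X.homOfLE (le_iSup (fun b : Bool => cond b U (W ⊓ X₁ ⊓ U₂)) b) ≫ G ≫ q =
    X.homOfLE (le_iSup (fun b : Bool => cond b U (W ⊓ X₁ ⊓ U₂)) b) ≫ _ ≫ p
  rw [← Category.assoc, hG b, ← Category.assoc, X.homOfLE_ι]
  cases b
  · exact hg''q
  · exact hf

/-- A rational map from a reduced locally Noetherian scheme to a proper scheme, defined on a dense
open, extends over every point whose local ring is a regular local ring of dimension at most one. -/
theorem exists_extension_codim_one {S X Y : Scheme.{u}}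
    (p : X ⟶ S) [IsProper p] (q : Y ⟶ S) [IsLocallyNoetherian Y] [IsReduced Y]
    (hreg : ∀ y : Y, ringKrullDim (Y.presheaf.stalk y) ≤ 1 →
      IsRegularLocalRing (Y.presheaf.stalk y))
    (V : Y.Opens) (hV : Dense (V : Set Y)) (g : (V : Scheme.{u}) ⟶ X) (hg : g ≫ p = V.ι ≫ q) :
    ∃ (U : Y.Opens) (hVU : V ≤ U) (g' : (U : Scheme.{u}) ⟶ X),
      g' ≫ p = U.ι ≫ q ∧ Y.homOfLE hVU ≫ g' = g ∧
      ∀ y : Y, ringKrullDim (Y.presheaf.stalk y) ≤ 1 → y ∈ U := by
  classical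
  have hext : ∀ d : {y : Y // ringKrullDim (Y.presheaf.stalk y) ≤ 1},
      ∃ (U' : Y.Opens) (hUU' : V ≤ U'), d.1 ∈ U' ∧
        ∃ f' : (U' : Scheme.{u}) ⟶ X, f' ≫ p = U'.ι ≫ q ∧ Y.homOfLE hUU' ≫ f' = g := by
    intro d
    haveI := hreg d.1 d.2
    obtain ⟨hdom, hval⟩ :=
      exists_isDomain_valuationRing_of_isRegularLocalRing (Y.presheaf.stalk d.1) d.2
    exact exists_extension_of_valuationRing_stalk q p d.1 V g hg (hV d.1) hdom hval
  choose U' hVU' hdU' f' hf'p hf'g using hext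
  by_cases hD : Nonempty {y : Y // ringKrullDim (Y.presheaf.stalk y) ≤ 1}
  · obtain ⟨d₀⟩ := hD
    have hcompat : ∀ i j, Y.homOfLE (inf_le_left : U' i ⊓ U' j ≤ U' i) ≫ f' i =
        Y.homOfLE (inf_le_right : U' i ⊓ U' j ≤ U' j) ≫ f' j := by
      intro i j
      haveI : IsDominant (Y.homOfLE (le_inf (hVU' i) (hVU' j))) :=
        Opens.isDominant_homOfLE hV _
      refine ext_of_isDominant_of_isSeparated p ?_ (Y.homOfLE (le_inf (hVU' i) (hVU' j))) ?_
      · rw [Category.assoc, hf'p, ← Category.assoc, Y.homOfLE_ι, Category.assoc, hf'p,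
          ← Category.assoc, Y.homOfLE_ι]
      · rw [← Category.assoc, Y.homOfLE_homOfLE, hf'g, ← Category.assoc, Y.homOfLE_homOfLE, hf'g]
    obtain ⟨G, hG⟩ := glue_family U' f' hcompat
    refine ⟨⨆ d, U' d, (hVU' d₀).trans (le_iSup U' d₀), G, ?_, ?_, ?_⟩
    · refine Scheme.Cover.hom_ext (Scheme.Opens.iSupOpenCover U') _ _ fun d => ?_
      show Y.homOfLE (le_iSup U' d) ≫ G ≫ p = Y.homOfLE (le_iSup U' d) ≫ _ ≫ q
      rw [← Category.assoc, hG d, ← Category.assoc, Y.homOfLE_ι]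
      exact hf'p d
    · rw [← Y.homOfLE_homOfLE (hVU' d₀) (le_iSup U' d₀), Category.assoc, hG d₀, hf'g d₀]
    · exact fun y hy => TopologicalSpace.Opens.mem_iSup.mpr ⟨⟨y, hy⟩, hdU' ⟨y, hy⟩⟩
  · refine ⟨V, le_rfl, g, hg, ?_, fun y hy => absurd ⟨⟨y, hy⟩⟩ hD⟩
    rw [Y.homOfLE_rfl]; exact Category.id_comp g

end Groth.Agent.H54
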