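import Mathlib
import Groth.Agent.H54.CodimOne

/-!
# Curves: local rings of normal curves are valuation rings, morphisms from normal curves
-/

set_option autoImplicit false
universe u

open CategoryTheory CategoryTheory.Limits AlgebraicGeometry IsLocalRing

namespace Groth.Agent.H54

/-- On a quasi-compact integral scheme whose local rings at closed points are one-dimensional,
every point other than the generic point is closed. -/
theorem isClosed_singleton_of_ne_genericPoint {X : Scheme.{u}} [IsIntegral X] [CompactSpace X]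
    (hX : ∀ x : X, IsClosed ({x} : Set X) → ringKrullDim (X.presheaf.stalk x) = 1)
    (x : X) (hx : x ≠ genericPoint X) : IsClosed ({x} : Set X) := by
  have hgen : ∀ x : X, genericPoint X ⤳ x := fun x => (genericPoint_spec X).specializes trivial
  obtain ⟨y, hy, hyc⟩ := (isClosed_closure (s := ({x} : Set X))).exists_closed_singleton
    ⟨x, subset_closure rfl⟩
  have hxy : x ⤳ y := specializes_iff_mem_closure.mpr hy
  have hdim := hX y hyc
  have hmem : x ∈ Set.range (X.fromSpecStalk y) := by
    rw [Scheme.range_fromSpecStalk]; exact hxy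
  obtain ⟨p, hp⟩ := hmem
  have hmemη : genericPoint X ∈ Set.range (X.fromSpecStalk y) := by
    rw [Scheme.range_fromSpecStalk]; exact hgen y
  obtain ⟨q, hq⟩ := hmemη
  by_cases hp0 : (p : PrimeSpectrum (X.presheaf.stalk y)).asIdeal = ⊥
  · exfalso
    apply hx
    have hpq : p ⤳ q := by
      refine (PrimeSpectrum.le_iff_specializes (p : PrimeSpectrum (X.presheaf.stalk y)) q).mp ?_
      show (p : PrimeSpectrum (X.presheaf.stalk y)).asIdeal ≤
        (q : PrimeSpectrum (X.presheaf.stalk y)).asIdeal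
      rw [hp0]; exact bot_le
    have h1 : x ⤳ genericPoint X := by
      rw [← hp, ← hq]
      exact hpq.map (X.fromSpecStalk y).continuous
    exact (h1.antisymm (hgen x)).eq
  · have h1 : Ring.KrullDimLE 1 (X.presheaf.stalk y) :=
      (Ring.krullDimLE_iff (n := 1)).mpr (by exact_mod_cast hdim.le)
    have hmax := Ring.krullDimLE_one_iff_of_isPrime_bot.mp h1 _ hp0
      (p : PrimeSpectrum (X.presheaf.stalk y)).isPrime
    have hpc : p = closedPoint (X.presheaf.stalk y) := by
      apply PrimeSpectrum.ext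
      exact IsLocalRing.eq_maximalIdeal hmax
    have hxy' : x = y := by
      rw [← hp, hpc, Scheme.fromSpecStalk_closedPoint]
    rw [hxy']; exact hyc

/-- On a quasi-compact integral scheme whose local rings at closed points are one-dimensional,
all local rings have dimension at most one. -/
theorem ringKrullDim_stalk_le_one {X : Scheme.{u}} [IsIntegral X] [CompactSpace X]
    (hX : ∀ x : X, IsClosed ({x} : Set X) → ringKrullDim (X.presheaf.stalk x) = 1)
    (x : X) : ringKrullDim (X.presheaf.stalk x) ≤ 1 := by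
  by_cases hx : x = genericPoint X
  · subst hx
    have h0 : ringKrullDim (X.presheaf.stalk (genericPoint X)) = 0 :=
      ringKrullDim_eq_zero_of_isField (Field.toIsField X.functionField)
    rw [h0]; exact zero_le_one
  · exact (hX x (isClosed_singleton_of_ne_genericPoint hX x hx)).le

/-- The local rings of a normal, quasi-compact, locally Noetherian integral curve are valuation
rings. -/
theorem valuationRing_stalk_of_curve {X : Scheme.{u}} [IsIntegral X] [CompactSpace X]
    [IsLocallyNoetherian X]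
    (hX : ∀ x : X, IsClosed ({x} : Set X) → ringKrullDim (X.presheaf.stalk x) = 1)
    (hN : ∀ x : X, IsIntegrallyClosed (X.presheaf.stalk x)) (x : X) :
    ValuationRing (X.presheaf.stalk x) :=
  valuationRing_of_ringKrullDim_le_one _ (hN x) (ringKrullDim_stalk_le_one hX x)

/-- The composite of `Spec O_{X,x} ⟶ X` with a morphism to an affine scheme, as `Spec` of a ring
map. -/
theorem fromSpecStalk_comp_toSpec {X : Scheme.{u}} {A : CommRingCat.{u}} (s : X ⟶ Spec A) (x : X) :
    X.fromSpecStalk x ≫ s =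
      Spec.map ((Scheme.ΓSpecIso A).inv ≫ s.appTop ≫ X.presheaf.germ ⊤ x trivial) := by
  calc X.fromSpecStalk x ≫ s
      = X.fromSpecStalk x ≫ s ≫ (Spec A).toSpecΓ ≫ Spec.map (Scheme.ΓSpecIso A).inv := by
        rw [toSpecΓ_SpecMap_ΓSpecIso_inv, Category.comp_id]
    _ = X.fromSpecStalk x ≫ X.toSpecΓ ≫ Spec.map s.appTop ≫
          Spec.map (Scheme.ΓSpecIso A).inv := by
        rw [Scheme.toSpecΓ_naturality_assoc]
    _ = Spec.map (X.presheaf.germ ⊤ x trivial) ≫ Spec.map s.appTop ≫
          Spec.map (Scheme.ΓSpecIso A).inv := by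
        rw [Scheme.fromSpecStalk_toSpecΓ_assoc]
    _ = _ := by
        rw [← Spec.map_comp, ← Spec.map_comp, Category.assoc]

/-- The canonical morphism from the spectrum of the function field is dominant. -/
theorem isDominant_fromSpecStalk_genericPoint (X : Scheme.{u}) [IrreducibleSpace X] :
    IsDominant (X.fromSpecStalk (genericPoint X)) := by
  refine ⟨?_⟩
  have hd : Dense ({genericPoint X} : Set X) := by
    rw [dense_iff_closure_eq]
    exact (genericPoint_spec X).def
  refine hd.mono ?_
  rintro _ rfl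
  exact ⟨closedPoint _, Scheme.fromSpecStalk_closedPoint⟩

/-- A rational map from a reduced locally Noetherian scheme all of whose local rings are valuation
rings to a proper scheme is everywhere defined. -/
theorem exists_extension_of_forall_valuationRing {S X Y : Scheme.{u}}
    (p : X ⟶ S) [IsProper p] (q : Y ⟶ S) [IsLocallyNoetherian Y] [IsReduced Y]
    (hval : ∀ y : Y, ∃ hdom : IsDomain (Y.presheaf.stalk y),
      @ValuationRing (Y.presheaf.stalk y) _ hdom)
    (V : Y.Opens) (hV : Dense (V : Set Y)) (g : (V : Scheme.{u}) ⟶ X) (hg : g ≫ p = V.ι ≫ q) :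
    ∃ g' : Y ⟶ X, g' ≫ p = q ∧ V.ι ≫ g' = g := by
  classical
  have hext : ∀ d : Y, ∃ (U' : Y.Opens) (hUU' : V ≤ U'), d ∈ U' ∧
      ∃ f' : (U' : Scheme.{u}) ⟶ X, f' ≫ p = U'.ι ≫ q ∧ Y.homOfLE hUU' ≫ f' = g := by
    intro d
    obtain ⟨hdom, hv⟩ := hval d
    exact exists_extension_of_valuationRing_stalk q p d V g hg (hV d) hdom hv
  choose U' hVU' hdU' f' hf'p hf'g using hext
  by_cases hD : Nonempty Y
  · obtain ⟨d₀⟩ := hD
    have hcompat : ∀ i j, Y.homOfLE (inf_le_left : U' i ⊓ U' j ≤ U' i) ≫ f' i =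
        Y.homOfLE (inf_le_right : U' i ⊓ U' j ≤ U' j) ≫ f' j := by
      intro i j
      haveI : IsDominant (Y.homOfLE (le_inf (hVU' i) (hVU' j))) :=
        Opens.isDominant_homOfLE hV _
      refine ext_of_isDominant_of_isSeparated p ?_ (Y.homOfLE (le_inf (hVU' i) (hVU' j))) ?_
      · rw [Category.assoc, hf'p, ← Category.assoc, Y.homOfLE_ι, Category.assoc, hf'p,
          ← Category.assoc, Y.homOfLE_ι]
      · rw [← Category.assoc, Y.homOfLE_homOfLE, hf'g, ← Category.assoc, Y.homOfLE_homOfLE, hf'g]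
    obtain ⟨G, hG⟩ := glue_family U' f' hcompat
    have hTtop : (⨆ d, U' d) = ⊤ :=
      eq_top_iff.mpr fun y _ => TopologicalSpace.Opens.mem_iSup.mpr ⟨y, hdU' y⟩
    haveI : IsIso (⨆ d, U' d).ι := by
      rw [isIso_iff_isOpenImmersion_and_surjective]
      exact ⟨inferInstance, ⟨fun x => ⟨⟨x, hTtop ▸ trivial⟩, rfl⟩⟩⟩
    have hGp : G ≫ p = (⨆ d, U' d).ι ≫ q := by
      refine Scheme.Cover.hom_ext (Scheme.Opens.iSupOpenCover U') _ _ fun d => ?_
      show Y.homOfLE (le_iSup U' d) ≫ G ≫ p = Y.homOfLE (le_iSup U' d) ≫ _ ≫ q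
      rw [← Category.assoc, hG d, ← Category.assoc, Y.homOfLE_ι]
      exact hf'p d
    refine ⟨inv (⨆ d, U' d).ι ≫ G, ?_, ?_⟩
    · rw [Category.assoc, hGp, IsIso.inv_hom_id_assoc]
    · have hVT : V ≤ ⨆ d, U' d := (hVU' d₀).trans (le_iSup U' d₀)
      have h1 : V.ι ≫ inv (⨆ d, U' d).ι = Y.homOfLE hVT := by
        rw [IsIso.comp_inv_eq, Y.homOfLE_ι]
      rw [← Category.assoc, h1, ← Y.homOfLE_homOfLE (hVU' d₀) (le_iSup U' d₀), Category.assoc,
        hG d₀, hf'g d₀]
  · haveI : IsIso V.ι := by
      rw [isIso_iff_isOpenImmersion_and_surjective]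
      exact ⟨inferInstance, ⟨fun y => (hD ⟨y⟩).elim⟩⟩
    refine ⟨inv V.ι ≫ g, ?_, ?_⟩
    · rw [Category.assoc, hg, IsIso.inv_hom_id_assoc]
    · rw [IsIso.hom_inv_id_assoc]

end Groth.Agent.H54
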