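import Groth.Agent.H54.IntegralDim
import Mathlib.RingTheory.KrullDimension.Polynomial
import Mathlib.RingTheory.NoetherNormalization
import Mathlib.RingTheory.IntegralClosure.GoingDown
import Mathlib.RingTheory.Jacobson.Ring
import Mathlib.RingTheory.Polynomial.UniqueFactorization
import Mathlib.RingTheory.Polynomial.RationalRoot
import Mathlib.RingTheory.Ideal.KrullsHeightTheorem
import Mathlib.RingTheory.Ideal.GoingUp
import Mathlib.RingTheory.Ideal.GoingDown

set_option autoImplicit false
universe u

namespace Groth.Agent.H54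

open Polynomial in
/-- Every maximal ideal of `k[X₁, …, Xₙ]` has height `n`. -/
theorem height_eq_of_isMaximal_mvPolynomial (k : Type u) [Field k] (n : ℕ)
    (M : Ideal (MvPolynomial (Fin n) k)) [hM : M.IsMaximal] : M.height = n := by
  induction n with
  | zero =>
    have h1 : (M.height : WithBot ℕ∞) ≤ ringKrullDim (MvPolynomial (Fin 0) k) :=
      Ideal.height_le_ringKrullDim_of_ne_top hM.ne_top
    rw [ringKrullDim_mvPolynomial_field] at h1
    have h2 : M.height ≤ 0 := by exact_mod_cast h1
    simpa using h2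
  | succ n ih =>
    let e := (MvPolynomial.finSuccEquiv k n).toRingEquiv
    have hM' : (M.map e).IsMaximal := Ideal.map_isMaximal_of_equiv e
    let p : Ideal (MvPolynomial (Fin n) k) := (M.map e).comap (C : _ →+* (MvPolynomial (Fin n) k)[X])
    have hp : p.IsMaximal := Polynomial.isMaximal_comap_C_of_isJacobsonRing (M.map e)
    haveI : (M.map e).LiesOver p := ⟨rfl⟩
    have h1 := Polynomial.height_eq_height_add_one p (M.map e)
    rw [e.height_map M, ih p] at h1
    rw [h1]
    push_cast
    rfl

/-- Going down preserves heights from below: if `S` has going down over `R` and `P` lies over `p`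
then `p.height ≤ P.height`. -/
theorem height_le_height_of_hasGoingDown {R S : Type*} [CommRing R] [CommRing S] [Algebra R S]
    [Algebra.HasGoingDown R S] (p : Ideal R) [p.IsPrime] [p.FiniteHeight]
    (P : Ideal S) [P.IsPrime] [P.LiesOver p] : p.height ≤ P.height := by
  obtain ⟨l, hlast, hlen⟩ := p.exists_ltSeries_length_eq_height
  haveI : P.LiesOver l.last.asIdeal := by rw [hlast]; infer_instance
  obtain ⟨L, hLlen, hLlast, -⟩ := Ideal.exists_ltSeries_of_hasGoingDown l P
  rw [← hlen, ← hLlen]
  have h := Order.length_le_height_last (p := L)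
  rw [hLlast, ← PrimeSpectrum.height_eq_orderHeight] at h
  exact h

/-- In a domain of finite type over a field, every maximal ideal has height equal to the Krull
dimension. -/
theorem height_eq_ringKrullDim_of_isMaximal (k : Type u) [Field k] (A : Type u) [CommRing A]
    [IsDomain A] [Algebra k A] [Algebra.FiniteType k A] (m : Ideal A) [hm : m.IsMaximal] :
    (m.height : WithBot ℕ∞) = ringKrullDim A := by
  obtain ⟨s, g, hinj, hfin⟩ := exists_finite_inj_algHom_of_fg k A
  letI : Algebra (MvPolynomial (Fin s) k) A := g.toRingHom.toAlgebra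
  haveI : Module.Finite (MvPolynomial (Fin s) k) A := hfin
  haveI : Algebra.IsIntegral (MvPolynomial (Fin s) k) A := inferInstance
  haveI : FaithfulSMul (MvPolynomial (Fin s) k) A :=
    (faithfulSMul_iff_algebraMap_injective _ _).mpr hinj
  have hdim : ringKrullDim A = (s : WithBot ℕ∞) := by
    rw [ringKrullDim_eq_of_isIntegral_of_injective (R := MvPolynomial (Fin s) k) hinj,
      ringKrullDim_mvPolynomial_field]
  let n : Ideal (MvPolynomial (Fin s) k) := m.under _
  haveI : n.IsMaximal := Ideal.isMaximal_comap_of_isIntegral_of_isMaximal m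
  haveI : m.LiesOver n := ⟨rfl⟩
  have h1 : n.height = s := height_eq_of_isMaximal_mvPolynomial k s n
  have h2 : n.height ≤ m.height := height_le_height_of_hasGoingDown n m
  apply le_antisymm (Ideal.height_le_ringKrullDim_of_ne_top hm.ne_top)
  rw [hdim]
  have h3 : (s : ℕ∞) ≤ m.height := h1 ▸ h2
  exact_mod_cast h3

/-- `dim k[X₁..Xₙ]/(g) + 1 = n` for `g` nonzero and not a unit. -/
theorem ringKrullDim_mvPolynomial_quotient_span_singleton (k : Type u) [Field k] (n : ℕ)
    (g : MvPolynomial (Fin n) k) (hg0 : g ≠ 0) (hgu : ¬ IsUnit g) :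
    ringKrullDim (MvPolynomial (Fin n) k ⧸ Ideal.span {g}) + 1 = (n : WithBot ℕ∞) := by
  apply le_antisymm
  · rw [← ringKrullDim_mvPolynomial_field k n]
    exact ringKrullDim_quotient_succ_le_of_nonZeroDivisor (mem_nonZeroDivisors_of_ne_zero hg0)
  · have hne : Ideal.span {g} ≠ ⊤ := by
      rwa [Ne, Ideal.span_singleton_eq_top]
    obtain ⟨M, hM, hle⟩ := Ideal.exists_le_maximal _ hne
    have hgM : g ∈ M := hle (Ideal.mem_span_singleton_self g)
    have h1 := Ideal.height_le_ringKrullDim_quotient_add_one (p := M) hgM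
    rw [height_eq_of_isMaximal_mvPolynomial k n M] at h1
    exact_mod_cast h1

/-- In a domain of finite type over a field, quotienting by a height one prime drops the dimension
by exactly one. -/
theorem ringKrullDim_quotient_add_one_of_height_eq_one (k : Type u) [Field k] (A : Type u)
    [CommRing A] [IsDomain A] [Algebra k A] [Algebra.FiniteType k A] (p : Ideal A) [hp : p.IsPrime]
    (h1 : p.height = 1) : ringKrullDim (A ⧸ p) + 1 = ringKrullDim A := by
  obtain ⟨s, g, hinj, hfin⟩ := exists_finite_inj_algHom_of_fg k A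
  letI : Algebra (MvPolynomial (Fin s) k) A := g.toRingHom.toAlgebra
  haveI : Module.Finite (MvPolynomial (Fin s) k) A := hfin
  haveI : Algebra.IsIntegral (MvPolynomial (Fin s) k) A := inferInstance
  haveI : FaithfulSMul (MvPolynomial (Fin s) k) A :=
    (faithfulSMul_iff_algebraMap_injective _ _).mpr hinj
  have hdim : ringKrullDim A = (s : WithBot ℕ∞) := by
    rw [ringKrullDim_eq_of_isIntegral_of_injective (R := MvPolynomial (Fin s) k) hinj,
      ringKrullDim_mvPolynomial_field]
  let q : Ideal (MvPolynomial (Fin s) k) := p.under _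
  haveI : q.IsPrime := inferInstance
  haveI : p.LiesOver q := ⟨rfl⟩
  have hp0 : p ≠ ⊥ := by
    intro h
    rw [h, Ideal.height_bot] at h1
    exact zero_ne_one h1
  have hq0 : q ≠ ⊥ := Ideal.under_ne_bot _ hp0
  have hq1 : q.height = 1 := by
    apply le_antisymm
    · rw [← h1]
      exact height_le_height_of_hasGoingDown q p
    · rw [Order.one_le_iff_pos, pos_iff_ne_zero, Ne, Ideal.height_eq_zero_iff_eq_bot]
      exact hq0
  obtain ⟨x, hxq, hx⟩ := Ideal.IsPrime.exists_mem_prime_of_ne_bot (inferInstance : q.IsPrime) hq0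
  have hqx : q = Ideal.span {x} := Ideal.eq_span_singleton_of_height_eq_one hq1 hxq hx
  have h3 : ringKrullDim (A ⧸ p) = ringKrullDim (MvPolynomial (Fin s) k ⧸ q) :=
    ringKrullDim_eq_of_isIntegral_of_injective
      (FaithfulSMul.algebraMap_injective (MvPolynomial (Fin s) k ⧸ q) (A ⧸ p))
  rw [h3, hdim, hqx]
  exact ringKrullDim_mvPolynomial_quotient_span_singleton k s x hx.ne_zero hx.not_isUnit

/-- For primes `P ⋖ Q` in an algebra of finite type over a field, `dim A/Q + 1 = dim A/P`. -/
theorem ringKrullDim_quotient_add_one_of_covBy (k : Type u) [Field k] (A : Type u) [CommRing A]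
    [Algebra k A] [Algebra.FiniteType k A] (P Q : PrimeSpectrum A) (h : P ⋖ Q) :
    ringKrullDim (A ⧸ Q.asIdeal) + 1 = ringKrullDim (A ⧸ P.asIdeal) := by
  have hPQ : P.asIdeal < Q.asIdeal := h.lt
  have hsurj : Function.Surjective (Ideal.Quotient.mk P.asIdeal) := Ideal.Quotient.mk_surjective
  let Q' : Ideal (A ⧸ P.asIdeal) := Q.asIdeal.map (Ideal.Quotient.mk P.asIdeal)
  haveI hQ' : Q'.IsPrime := Ideal.map_isPrime_of_surjective hsurj
    (by rw [Ideal.mk_ker]; exact hPQ.le)
  have hcomap : Q'.comap (Ideal.Quotient.mk P.asIdeal) = Q.asIdeal := by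
    rw [Ideal.comap_map_of_surjective _ hsurj, ← RingHom.ker_eq_comap_bot, Ideal.mk_ker,
      sup_eq_left.mpr hPQ.le]
  have hcomap_bot : (⊥ : Ideal (A ⧸ P.asIdeal)).comap (Ideal.Quotient.mk P.asIdeal) = P.asIdeal := by
    rw [← RingHom.ker_eq_comap_bot, Ideal.mk_ker]
  have h1 : Q'.height = 1 := by
    apply le_antisymm
    · change Q'.height ≤ ((1 : ℕ) : ℕ∞)
      rw [Ideal.height_le_iff]
      intro q' hq' hlt
      let P'' : PrimeSpectrum A := ⟨q'.comap (Ideal.Quotient.mk P.asIdeal), inferInstance⟩
      have hle : P ≤ P'' := by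
        change P.asIdeal ≤ q'.comap _
        exact hcomap_bot.ge.trans (Ideal.comap_mono bot_le)
      have hlt' : P'' < Q := by
        change q'.comap _ < Q.asIdeal
        exact lt_of_lt_of_eq (lt_of_le_of_ne (Ideal.comap_mono hlt.le) (fun heq => hlt.ne
          (Ideal.comap_injective_of_surjective _ hsurj heq))) hcomap
      rcases h.eq_or_eq hle hlt'.le with h3 | h3
      · have h4 : q'.comap (Ideal.Quotient.mk P.asIdeal) = P.asIdeal := congrArg (·.asIdeal) h3
        have h5 : q' = ⊥ :=
          Ideal.comap_injective_of_surjective _ hsurj (h4.trans hcomap_bot.symm)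
        rw [h5, Ideal.height_bot]
        simp
      · exact absurd h3 hlt'.ne
    · rw [Order.one_le_iff_pos, pos_iff_ne_zero, Ne, Ideal.height_eq_zero_iff_eq_bot]
      intro h6
      have h7 : Q.asIdeal = P.asIdeal :=
        hcomap.symm.trans ((congrArg (Ideal.comap (Ideal.Quotient.mk P.asIdeal)) h6).trans
          hcomap_bot)
      exact hPQ.ne' h7
  have h2 := ringKrullDim_quotient_add_one_of_height_eq_one k (A ⧸ P.asIdeal) Q' h1
  rw [← h2, ringKrullDim_eq_of_ringEquiv (DoubleQuot.quotQuotEquivQuotOfLE hPQ.le)]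

end Groth.Agent.H54
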