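import Mathlib
import Groth.Agent.H54.AffineTrdeg
import Groth.Agent.H54.AffineDim
import Groth.Agent.H54.AffineDim2

/-!
# Dimension theory for schemes locally of finite type over a field
-/

set_option autoImplicit false
universe u

open CategoryTheory CategoryTheory.Limits AlgebraicGeometry

namespace Groth.Agent.H54

/-- The ring map from a base field to the residue field at a point of a `k`-scheme. -/
noncomputable def resMapOf {k : Type u} [Field k] {X : Scheme.{u}}
    (s : X ⟶ Spec (CommRingCat.of k)) (x : X) : k →+* X.residueField x :=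
  (X.residue x).hom.comp ((X.presheaf.germ ⊤ x trivial).hom.comp
    (s.appTop.hom.comp (Scheme.ΓSpecIso (CommRingCat.of k)).inv.hom))

/-- Compatibility of the structure map to a residue field with an affine chart. -/
theorem resMapOf_comp_chart {k : Type u} [Field k] {X : Scheme.{u}}
    (s : X ⟶ Spec (CommRingCat.of k)) {A : CommRingCat.{u}} (j : Spec A ⟶ X) [IsOpenImmersion j]
    (ψ : CommRingCat.of k ⟶ A) (hψ : Spec.map ψ = j ≫ s) (P : Spec A) :
    CommRingCat.ofHom (resMapOf s (j P)) ≫ j.residueFieldMap P ≫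
        (Scheme.Spec.residueFieldIso A P).hom =
      ψ ≫ CommRingCat.ofHom (algebraMap A (P : PrimeSpectrum A).asIdeal.ResidueField) := by
  have h1 : CommRingCat.ofHom (resMapOf s (j P)) =
      (Scheme.ΓSpecIso (CommRingCat.of k)).inv ≫ s.appTop ≫
        X.presheaf.germ ⊤ (j P) trivial ≫ X.residue (j P) := rfl
  have h2 : ψ ≫ (Scheme.ΓSpecIso A).inv =
      (Scheme.ΓSpecIso (CommRingCat.of k)).inv ≫ s.appTop ≫ j.appTop := by
    rw [Scheme.ΓSpecIso_inv_naturality, hψ, Scheme.Hom.comp_appTop]
  have h3 : X.presheaf.germ ⊤ (j P) trivial ≫ j.stalkMap P =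
      j.appTop ≫ (Spec A).presheaf.germ ⊤ P trivial := j.germ_stalkMap ⊤ P trivial
  have e1 : X.residue (j P) ≫ j.residueFieldMap P = j.stalkMap P ≫ (Spec A).residue P :=
    Scheme.residue_residueFieldMap j P
  have h4 := Scheme.Spec.algebraMap_residueFieldIso_inv A P
  have h5 : CommRingCat.ofHom (algebraMap A (P : PrimeSpectrum A).asIdeal.ResidueField) =
      ((Scheme.ΓSpecIso A).inv ≫ (Spec A).presheaf.germ ⊤ P trivial ≫ (Spec A).residue P) ≫
        (Scheme.Spec.residueFieldIso A P).hom := by
    rw [← h4, Category.assoc, Iso.inv_hom_id, Category.comp_id]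
  calc CommRingCat.ofHom (resMapOf s (j P)) ≫ j.residueFieldMap P ≫
        (Scheme.Spec.residueFieldIso A P).hom
      = (Scheme.ΓSpecIso (CommRingCat.of k)).inv ≫ s.appTop ≫
          X.presheaf.germ ⊤ (j P) trivial ≫ (X.residue (j P) ≫ j.residueFieldMap P) ≫
            (Scheme.Spec.residueFieldIso A P).hom := by
        rw [h1]; simp only [Category.assoc]
    _ = (Scheme.ΓSpecIso (CommRingCat.of k)).inv ≫ s.appTop ≫
          (X.presheaf.germ ⊤ (j P) trivial ≫ j.stalkMap P) ≫ (Spec A).residue P ≫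
            (Scheme.Spec.residueFieldIso A P).hom := by
        rw [e1]; simp only [Category.assoc]
    _ = ((Scheme.ΓSpecIso (CommRingCat.of k)).inv ≫ s.appTop ≫ j.appTop) ≫
          (Spec A).presheaf.germ ⊤ P trivial ≫ (Spec A).residue P ≫
            (Scheme.Spec.residueFieldIso A P).hom := by
        rw [h3]; simp only [Category.assoc]
    _ = ψ ≫ CommRingCat.ofHom (algebraMap A (P : PrimeSpectrum A).asIdeal.ResidueField) := by
        rw [← h2, h5]; simp only [Category.assoc]

/-- The transcendence degree of the residue field at a point of an affine chart equals that of the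
quotient by the corresponding prime. -/
theorem trdeg_residueField_eq_chart {k : Type u} [Field k] {X : Scheme.{u}}
    (s : X ⟶ Spec (CommRingCat.of k)) {A : CommRingCat.{u}} (j : Spec A ⟶ X) [IsOpenImmersion j]
    (ψ : CommRingCat.of k ⟶ A) (hψ : Spec.map ψ = j ≫ s) (P : Spec A) :
    letI := ψ.hom.toAlgebra
    letI := (resMapOf s (j P)).toAlgebra
    Algebra.trdeg k (X.residueField (j P)) =
      Algebra.trdeg k (A ⧸ (P : PrimeSpectrum A).asIdeal) := by
  letI := ψ.hom.toAlgebra
  letI := (resMapOf s (j P)).toAlgebra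
  let e₀ : X.residueField (j P) ≃+* (P : PrimeSpectrum A).asIdeal.ResidueField :=
    (asIso (j.residueFieldMap P) ≪≫ Scheme.Spec.residueFieldIso A P).commRingCatIsoToRingEquiv
  have hcomm : ∀ c : k, e₀ (algebraMap k (X.residueField (j P)) c) =
      algebraMap k (P : PrimeSpectrum A).asIdeal.ResidueField c := by
    intro c
    have h := congrArg (fun φ => φ.hom c) (resMapOf_comp_chart s j ψ hψ P)
    rw [IsScalarTower.algebraMap_apply k A (P : PrimeSpectrum A).asIdeal.ResidueField]
    exact h
  let e : X.residueField (j P) ≃ₐ[k] (P : PrimeSpectrum A).asIdeal.ResidueField :=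
    AlgEquiv.ofRingEquiv hcomm
  rw [e.trdeg_eq]
  exact trdeg_eq_trdeg_of_isFractionRing k (A ⧸ (P : PrimeSpectrum A).asIdeal) _

/-- Affine charts of a scheme locally of finite type over a field, inside a given open. -/
theorem exists_chart {k : Type u} [Field k] {X : Scheme.{u}}
    (s : X ⟶ Spec (CommRingCat.of k)) [LocallyOfFiniteType s] (x : X) (U : X.Opens) (hxU : x ∈ U) :
    ∃ (A : CommRingCat.{u}) (j : Spec A ⟶ X) (_ : IsOpenImmersion j) (ψ : CommRingCat.of k ⟶ A),
      Spec.map ψ = j ≫ s ∧ ψ.hom.FiniteType ∧ x ∈ Set.range j ∧ Set.range j ⊆ (U : Set X) := by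
  obtain ⟨W, hW, hxW, hWU⟩ := exists_isAffineOpen_mem_and_subset (X := X) (x := x) (U := U) hxU
  refine ⟨Γ(X, W), hW.fromSpec, inferInstance, Spec.preimage (hW.fromSpec ≫ s),
    Spec.map_preimage _, ?_, ?_, ?_⟩
  · have h : LocallyOfFiniteType (Spec.map (Spec.preimage (hW.fromSpec ≫ s))) := by
      rw [Spec.map_preimage]; infer_instance
    exact (HasRingHomProperty.Spec_iff (P := @LocallyOfFiniteType)).mp h
  · rw [hW.range_fromSpec]; exact hxW
  · rw [hW.range_fromSpec]; exact hWU

/-- In a chart, the transcendence degree of a residue field is a natural number, equal to the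
dimension of the quotient by the prime. -/
theorem exists_trdeg_eq_ringKrullDim_chart {k : Type u} [Field k] {X : Scheme.{u}}
    (s : X ⟶ Spec (CommRingCat.of k)) {A : CommRingCat.{u}} (j : Spec A ⟶ X) [IsOpenImmersion j]
    (ψ : CommRingCat.of k ⟶ A) (hψ : Spec.map ψ = j ≫ s) (hft : ψ.hom.FiniteType) (P : Spec A) :
    letI := (resMapOf s (j P)).toAlgebra
    ∃ n : ℕ, Algebra.trdeg k (X.residueField (j P)) = (n : Cardinal.{u}) ∧
      ringKrullDim (A ⧸ (P : PrimeSpectrum A).asIdeal) = (n : WithBot ℕ∞) := by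
  letI := ψ.hom.toAlgebra
  letI := (resMapOf s (j P)).toAlgebra
  haveI : Algebra.FiniteType k A := hft
  obtain ⟨n, h1, h2⟩ := exists_ringKrullDim_eq_trdeg k (A ⧸ (P : PrimeSpectrum A).asIdeal)
  exact ⟨n, (trdeg_residueField_eq_chart s j ψ hψ P).trans h1, h2⟩

theorem exists_tdeg {k : Type u} [Field k] {X : Scheme.{u}}
    (s : X ⟶ Spec (CommRingCat.of k)) [LocallyOfFiniteType s] (x : X) :
    letI := (resMapOf s x).toAlgebra
    ∃ n : ℕ, Algebra.trdeg k (X.residueField x) = (n : Cardinal.{u}) := by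
  obtain ⟨A, j, hj, ψ, hψ, hft, ⟨P, rfl⟩, -⟩ := exists_chart s x ⊤ trivial
  obtain ⟨n, h1, -⟩ := exists_trdeg_eq_ringKrullDim_chart s j ψ hψ hft P
  exact ⟨n, h1⟩

/-- The transcendence degree over `k` of the residue field at a point, as a natural number. -/
noncomputable def tdeg {k : Type u} [Field k] {X : Scheme.{u}}
    (s : X ⟶ Spec (CommRingCat.of k)) [LocallyOfFiniteType s] (x : X) : ℕ :=
  (exists_tdeg s x).choose

theorem tdeg_spec {k : Type u} [Field k] {X : Scheme.{u}}
    (s : X ⟶ Spec (CommRingCat.of k)) [LocallyOfFiniteType s] (x : X) :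
    letI := (resMapOf s x).toAlgebra
    Algebra.trdeg k (X.residueField x) = (tdeg s x : Cardinal.{u}) :=
  (exists_tdeg s x).choose_spec

theorem ringKrullDim_quotient_chart {k : Type u} [Field k] {X : Scheme.{u}}
    (s : X ⟶ Spec (CommRingCat.of k)) [LocallyOfFiniteType s] {A : CommRingCat.{u}}
    (j : Spec A ⟶ X) [IsOpenImmersion j]
    (ψ : CommRingCat.of k ⟶ A) (hψ : Spec.map ψ = j ≫ s) (hft : ψ.hom.FiniteType) (P : Spec A) :
    ringKrullDim (A ⧸ (P : PrimeSpectrum A).asIdeal) = (tdeg s (j P) : WithBot ℕ∞) := by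
  obtain ⟨n, h1, h2⟩ := exists_trdeg_eq_ringKrullDim_chart s j ψ hψ hft P
  have h3 := tdeg_spec s (j P)
  have h4 : (n : Cardinal.{u}) = (tdeg s (j P) : Cardinal.{u}) := h1.symm.trans h3
  have h5 : n = tdeg s (j P) := by exact_mod_cast h4
  rw [h2, h5]

/-- Passing to a larger prime drops the dimension of the quotient. -/
theorem ringKrullDim_quotient_succ_le_of_lt {A : Type*} [CommRing A] (P P' : Ideal A)
    [P.IsPrime] [P'.IsPrime] (h : P < P') :
    ringKrullDim (A ⧸ P') + 1 ≤ ringKrullDim (A ⧸ P) := by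
  obtain ⟨r, hrP', hrP⟩ := SetLike.exists_of_lt h
  have hr0 : Ideal.Quotient.mk P r ≠ 0 := by
    rwa [Ne, Ideal.Quotient.eq_zero_iff_mem]
  have hnz : Ideal.Quotient.mk P r ∈ nonZeroDivisors (A ⧸ P) := mem_nonZeroDivisors_of_ne_zero hr0
  have h1 := ringKrullDim_quotient_succ_le_of_nonZeroDivisor hnz
  have hker : ∀ a : A ⧸ P, a ∈ Ideal.span {Ideal.Quotient.mk P r} →
      Ideal.Quotient.factor h.le a = 0 := by
    intro a ha
    obtain ⟨b, rfl⟩ := Ideal.mem_span_singleton'.mp ha
    rw [map_mul, Ideal.Quotient.factor_mk, Ideal.Quotient.eq_zero_iff_mem.mpr hrP', mul_zero]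
  have hg : Function.Surjective
      (Ideal.Quotient.lift (Ideal.span {Ideal.Quotient.mk P r}) (Ideal.Quotient.factor h.le) hker) :=
    Ideal.Quotient.lift_surjective_of_surjective _ hker (Ideal.Quotient.factor_surjective h.le)
  have h2 : ringKrullDim (A ⧸ P') ≤
      ringKrullDim ((A ⧸ P) ⧸ Ideal.span {Ideal.Quotient.mk P r}) :=
    ringKrullDim_le_of_surjective _ hg
  exact (add_le_add_left h2 1).trans h1

/-- Transcendence degrees of residue fields drop strictly under proper specialization. -/
theorem tdeg_lt_of_specializes {k : Type u} [Field k] {X : Scheme.{u}}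
    (s : X ⟶ Spec (CommRingCat.of k)) [LocallyOfFiniteType s] {x x' : X} (hsp : x ⤳ x')
    (hne : x ≠ x') : tdeg s x' < tdeg s x := by
  obtain ⟨A, j, hj, ψ, hψ, hft, ⟨P', rfl⟩, -⟩ := exists_chart s x' ⊤ trivial
  have hxr : x ∈ Set.range j := hsp.mem_open j.isOpenEmbedding.isOpen_range ⟨P', rfl⟩
  obtain ⟨P, rfl⟩ := hxr
  have hPP' : P ⤳ P' := j.isOpenEmbedding.isInducing.specializes_iff.mp hsp
  have hle : (P : PrimeSpectrum A).asIdeal ≤ (P' : PrimeSpectrum A).asIdeal :=
    (PrimeSpectrum.le_iff_specializes (P : PrimeSpectrum A) (P' : PrimeSpectrum A)).mpr hPP'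
  have hne' : P ≠ P' := fun h => hne (congrArg j h)
  have hlt : (P : PrimeSpectrum A).asIdeal < (P' : PrimeSpectrum A).asIdeal :=
    lt_of_le_of_ne hle (fun h => hne' (PrimeSpectrum.ext h))
  have h1 := ringKrullDim_quotient_succ_le_of_lt _ _ hlt
  rw [ringKrullDim_quotient_chart s j ψ hψ hft P, ringKrullDim_quotient_chart s j ψ hψ hft P'] at h1
  have h2 : tdeg s (j P') + 1 ≤ tdeg s (j P) := by exact_mod_cast h1
  omega

theorem tdeg_le_of_specializes {k : Type u} [Field k] {X : Scheme.{u}}
    (s : X ⟶ Spec (CommRingCat.of k)) [LocallyOfFiniteType s] {x x' : X} (hsp : x ⤳ x') :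
    tdeg s x' ≤ tdeg s x := by
  by_cases h : x = x'
  · rw [h]
  · exact (tdeg_lt_of_specializes s hsp h).le

/-- The transcendence degree of any residue field is at most the dimension. -/
theorem tdeg_le_topologicalKrullDim {k : Type u} [Field k] {X : Scheme.{u}}
    (s : X ⟶ Spec (CommRingCat.of k)) [LocallyOfFiniteType s] (x : X) (U : X.Opens) (hxU : x ∈ U) :
    (tdeg s x : WithBot ℕ∞) ≤ topologicalKrullDim U := by
  obtain ⟨A, j, hj, ψ, hψ, hft, ⟨P, rfl⟩, hsub⟩ := exists_chart s x U hxU
  rw [← ringKrullDim_quotient_chart s j ψ hψ hft P]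
  refine (ringKrullDim_quotient_le _).trans ?_
  rw [← PrimeSpectrum.topologicalKrullDim_eq_ringKrullDim]
  have hind : Topology.IsInducing (Set.codRestrict j (U : Set X) (fun Q => hsub ⟨Q, rfl⟩)) :=
    j.isOpenEmbedding.isInducing.codRestrict _
  exact hind.topologicalKrullDim_le

/-- The dimension of a scheme locally of finite type over a field is bounded by any bound for the
transcendence degrees of its residue fields. -/
theorem topologicalKrullDim_le_of_forall_tdeg_le {k : Type u} [Field k] {X : Scheme.{u}}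
    (s : X ⟶ Spec (CommRingCat.of k)) [LocallyOfFiniteType s] (n : ℕ)
    (h : ∀ x : X, tdeg s x ≤ n) : topologicalKrullDim X ≤ n := by
  classical
  let g : TopologicalSpace.IrreducibleCloseds X → ℕ := fun Z => tdeg s Z.isIrreducible.genericPoint
  have hgen : ∀ Z : TopologicalSpace.IrreducibleCloseds X,
      closure ({Z.isIrreducible.genericPoint} : Set X) = (Z : Set X) :=
    fun Z => Z.isIrreducible.closure_genericPoint Z.isClosed
  have hg : StrictMono g := by
    intro Z Z' hlt
    have hsub : (Z : Set X) ⊆ (Z' : Set X) := hlt.le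
    have hmem : Z.isIrreducible.genericPoint ∈ (Z' : Set X) :=
      hsub ((hgen Z).subset (subset_closure rfl))
    have hsp : Z'.isIrreducible.genericPoint ⤳ Z.isIrreducible.genericPoint :=
      specializes_iff_mem_closure.mpr ((hgen Z').symm.subset hmem)
    have hne : Z'.isIrreducible.genericPoint ≠ Z.isIrreducible.genericPoint := by
      intro heq
      apply hlt.ne
      apply TopologicalSpace.IrreducibleCloseds.ext
      exact (hgen Z).symm.trans
        ((congrArg (fun y => closure ({y} : Set X)) heq.symm).trans (hgen Z'))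
    exact tdeg_lt_of_specializes s hsp hne
  unfold topologicalKrullDim
  rw [Order.krullDim]
  apply iSup_le
  intro p
  have h1 := LTSeries.head_add_length_le_nat (p.map g hg)
  have h2 : (p.map g hg).last ≤ n := h _
  have h3 : p.length ≤ n := by
    have : (p.map g hg).length = p.length := rfl
    omega
  exact_mod_cast h3

/-- For an immediate specialization, the transcendence degree of the residue field drops by
exactly one. -/
theorem tdeg_eq_succ_of_covBy {k : Type u} [Field k] {X : Scheme.{u}}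
    (s : X ⟶ Spec (CommRingCat.of k)) [LocallyOfFiniteType s] {x x' : X} (hsp : x ⤳ x')
    (hne : x ≠ x') (himm : ∀ y : X, x ⤳ y → y ⤳ x' → y = x ∨ y = x') :
    tdeg s x = tdeg s x' + 1 := by
  obtain ⟨A, j, hj, ψ, hψ, hft, ⟨P', rfl⟩, -⟩ := exists_chart s x' ⊤ trivial
  have hxr : x ∈ Set.range j := hsp.mem_open j.isOpenEmbedding.isOpen_range ⟨P', rfl⟩
  obtain ⟨P, rfl⟩ := hxr
  have hPP' : P ⤳ P' := j.isOpenEmbedding.isInducing.specializes_iff.mp hsp
  have hle : (P : PrimeSpectrum A).asIdeal ≤ (P' : PrimeSpectrum A).asIdeal :=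
    (PrimeSpectrum.le_iff_specializes (P : PrimeSpectrum A) (P' : PrimeSpectrum A)).mpr hPP'
  have hne' : P ≠ P' := fun h => hne (congrArg j h)
  have hlt : (P : PrimeSpectrum A).asIdeal < (P' : PrimeSpectrum A).asIdeal :=
    lt_of_le_of_ne hle (fun h => hne' (PrimeSpectrum.ext h))
  letI := ψ.hom.toAlgebra
  haveI : Algebra.FiniteType k A := hft
  have hcov : @CovBy (PrimeSpectrum A) _ P P' := by
    refine ⟨hlt, fun Q hPQ hQP' => ?_⟩
    have h1 : P ⤳ (Q : Spec A) :=
      (PrimeSpectrum.le_iff_specializes (P : PrimeSpectrum A) Q).mp hPQ.le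
    have h2 : (Q : Spec A) ⤳ P' :=
      (PrimeSpectrum.le_iff_specializes Q (P' : PrimeSpectrum A)).mp hQP'.le
    rcases himm (j Q) (h1.map j.continuous) (h2.map j.continuous) with h | h
    · have hQ : Q = P := j.isOpenEmbedding.injective h
      exact hPQ.ne hQ.symm
    · have hQ : Q = P' := j.isOpenEmbedding.injective h
      exact hQP'.ne hQ
  have h1 := ringKrullDim_quotient_add_one_of_covBy k A P P' hcov
  rw [ringKrullDim_quotient_chart s j ψ hψ hft P, ringKrullDim_quotient_chart s j ψ hψ hft P'] at h1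
  have h2 : tdeg s (j P') + 1 = tdeg s (j P) := by exact_mod_cast h1
  omega

/-- Compatibility of the structure maps to residue fields with a morphism of `k`-schemes. -/
theorem resMapOf_comp_residueFieldMap {k : Type u} [Field k] {X Y : Scheme.{u}}
    (p : X ⟶ Spec (CommRingCat.of k)) (q : Y ⟶ Spec (CommRingCat.of k)) (f : Y ⟶ X)
    (hf : f ≫ p = q) (y : Y) :
    CommRingCat.ofHom (resMapOf p (f y)) ≫ f.residueFieldMap y = CommRingCat.ofHom (resMapOf q y) := by
  have h1 : CommRingCat.ofHom (resMapOf p (f y)) =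
      (Scheme.ΓSpecIso (CommRingCat.of k)).inv ≫ p.appTop ≫
        X.presheaf.germ ⊤ (f y) trivial ≫ X.residue (f y) := rfl
  have h2 : CommRingCat.ofHom (resMapOf q y) =
      (Scheme.ΓSpecIso (CommRingCat.of k)).inv ≫ q.appTop ≫
        Y.presheaf.germ ⊤ y trivial ≫ Y.residue y := rfl
  have h3 : X.presheaf.germ ⊤ (f y) trivial ≫ f.stalkMap y =
      f.appTop ≫ Y.presheaf.germ ⊤ y trivial := f.germ_stalkMap ⊤ y trivial
  have e1 : X.residue (f y) ≫ f.residueFieldMap y = f.stalkMap y ≫ Y.residue y :=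
    Scheme.residue_residueFieldMap f y
  have h4 : q.appTop = p.appTop ≫ f.appTop := by rw [← hf, Scheme.Hom.comp_appTop]
  calc CommRingCat.ofHom (resMapOf p (f y)) ≫ f.residueFieldMap y
      = (Scheme.ΓSpecIso (CommRingCat.of k)).inv ≫ p.appTop ≫
          X.presheaf.germ ⊤ (f y) trivial ≫ (X.residue (f y) ≫ f.residueFieldMap y) := by
        rw [h1]; simp only [Category.assoc]
    _ = (Scheme.ΓSpecIso (CommRingCat.of k)).inv ≫ p.appTop ≫
          (X.presheaf.germ ⊤ (f y) trivial ≫ f.stalkMap y) ≫ Y.residue y := by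
        rw [e1]; simp only [Category.assoc]
    _ = CommRingCat.ofHom (resMapOf q y) := by
        rw [h3, h2, h4]; simp only [Category.assoc]

/-- Transcendence degrees of residue fields can only grow along a morphism of `k`-schemes. -/
theorem tdeg_le_of_hom {k : Type u} [Field k] {X Y : Scheme.{u}}
    (p : X ⟶ Spec (CommRingCat.of k)) (q : Y ⟶ Spec (CommRingCat.of k))
    [LocallyOfFiniteType p] [LocallyOfFiniteType q] (f : Y ⟶ X)
    (hf : f ≫ p = q) (y : Y) : tdeg p (f y) ≤ tdeg q y := by
  letI := (resMapOf p (f y)).toAlgebra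
  letI := (resMapOf q y).toAlgebra
  have hcomm : ∀ c : k, (f.residueFieldMap y).hom (algebraMap k (X.residueField (f y)) c) =
      algebraMap k (Y.residueField y) c := fun c =>
    congrArg (fun φ => φ.hom c) (resMapOf_comp_residueFieldMap p q f hf y)
  let g : X.residueField (f y) →ₐ[k] Y.residueField y :=
    { (f.residueFieldMap y).hom with commutes' := hcomm }
  have hinj : Function.Injective g := (f.residueFieldMap y).hom.injective
  have h1 := trdeg_le_of_injective g hinj
  rw [tdeg_spec p (f y), tdeg_spec q y] at h1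
  exact_mod_cast h1

end Groth.Agent.H54
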