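import Mathlib
import Groth.Prelude.Def_Flat
import Groth.Agent.H54.SchemeDim

/-!
# Dimension theory for schemes locally of finite type over a field, II:
local rings, coheights and local dimension
-/

set_option autoImplicit false
universe u

open CategoryTheory CategoryTheory.Limits AlgebraicGeometry

namespace Groth.Agent.H54

theorem scheme_lt_iff {X : Scheme.{u}} (x y : X) : x < y ↔ y ⤳ x ∧ x ≠ y := by
  rw [lt_iff_le_not_ge]
  constructor
  · rintro ⟨h1, h2⟩
    refine ⟨h1, fun h => h2 ?_⟩
    subst h
    exact le_refl _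
  · rintro ⟨h1, h2⟩
    refine ⟨h1, fun h3 => h2 ?_⟩
    exact (Specializes.antisymm h3 h1).eq

theorem tdeg_strictMono {k : Type u} [Field k] {X : Scheme.{u}}
    (s : X ⟶ Spec (CommRingCat.of k)) [LocallyOfFiniteType s] : StrictMono (tdeg s) := by
  intro x y h
  obtain ⟨h1, h2⟩ := (scheme_lt_iff x y).mp h
  exact tdeg_lt_of_specializes s h1 (Ne.symm h2)

/-- Closed points have residue field algebraic over the base field. -/
theorem tdeg_eq_zero_of_isClosed {k : Type u} [Field k] {X : Scheme.{u}}
    (s : X ⟶ Spec (CommRingCat.of k)) [LocallyOfFiniteType s] (x : X)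
    (hx : IsClosed ({x} : Set X)) : tdeg s x = 0 := by
  obtain ⟨A, j, hj, ψ, hψ, hft, ⟨P, rfl⟩, -⟩ := exists_chart s x ⊤ trivial
  have h1 := ringKrullDim_quotient_chart s j ψ hψ hft P
  have hcl : IsClosed ({P} : Set (Spec A)) := by
    have : ({P} : Set (Spec A)) = j ⁻¹' {j P} := by
      ext Q
      simp only [Set.mem_singleton_iff, Set.mem_preimage]
      exact ⟨fun h => congrArg _ h, fun h => j.isOpenEmbedding.injective h⟩
    rw [this]
    exact hx.preimage j.continuous
  have hmax : (P : PrimeSpectrum A).asIdeal.IsMaximal :=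
    (PrimeSpectrum.isClosed_singleton_iff_isMaximal _).mp hcl
  have hfield : IsField (A ⧸ (P : PrimeSpectrum A).asIdeal) :=
    (Ideal.Quotient.maximal_ideal_iff_isField_quotient _).mp hmax
  rw [ringKrullDim_eq_zero_of_isField hfield] at h1
  have h2 : ((tdeg s (j P) : ℕ) : WithBot ℕ∞) = ((0 : ℕ) : WithBot ℕ∞) := by
    rw [← h1, Nat.cast_zero]
  exact_mod_cast h2

/-- Every point is a specialization of the generic point of an irreducible component. -/
theorem exists_generic_specializes {X : Scheme.{u}} (x : X) :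
    ∃ ξ : X, ξ ⤳ x ∧ closure ({ξ} : Set X) ∈ irreducibleComponents (X : Type u) := by
  have hZ := irreducibleComponent_mem_irreducibleComponents x
  have hirr : IsIrreducible (irreducibleComponent x) := isIrreducible_irreducibleComponent
  have hcl : IsClosed (irreducibleComponent x) := isClosed_irreducibleComponent
  have hgen := hirr.closure_genericPoint hcl
  refine ⟨hirr.genericPoint, ?_, ?_⟩
  · exact specializes_iff_mem_closure.mpr (hgen.symm.subset mem_irreducibleComponent)
  · rw [hgen]; exact hZ

theorem eq_of_specializes_generic {X : Scheme.{u}} {ξ y : X}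
    (hξ : closure ({ξ} : Set X) ∈ irreducibleComponents (X : Type u)) (h : y ⤳ ξ) : y = ξ := by
  have h2 : closure ({y} : Set X) ≤ closure ({ξ} : Set X) :=
    hξ.2 isIrreducible_singleton.closure (specializes_iff_closure_subset.mp h)
  exact (h.antisymm (specializes_iff_closure_subset.mpr h2)).eq

theorem isMax_of_generic {X : Scheme.{u}} {ξ : X}
    (hξ : closure ({ξ} : Set X) ∈ irreducibleComponents (X : Type u)) : IsMax ξ := by
  intro y hy
  have : y = ξ := eq_of_specializes_generic hξ hy
  rw [this]

theorem tdeg_add_coheight_le_aux {k : Type u} [Field k] {X : Scheme.{u}}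
    (s : X ⟶ Spec (CommRingCat.of k)) [LocallyOfFiniteType s] (n : ℕ) :
    ∀ x ξ : X, ξ ⤳ x → tdeg s ξ ≤ tdeg s x + n →
      (tdeg s ξ : ℕ∞) + Order.coheight ξ ≤ (tdeg s x : ℕ∞) + Order.coheight x := by
  induction n with
  | zero =>
    intro x ξ hsp hle
    by_cases hne : ξ = x
    · rw [hne]
    · have := tdeg_lt_of_specializes s hsp hne
      omega
  | succ n ih =>
    intro x ξ hsp hle
    by_cases hne : ξ = x
    · rw [hne]
    by_cases himm : ∀ y : X, ξ ⤳ y → y ⤳ x → y = ξ ∨ y = x
    · have h1 := tdeg_eq_succ_of_covBy s hsp hne himm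
      have hlt : x < ξ := (scheme_lt_iff x ξ).mpr ⟨hsp, Ne.symm hne⟩
      have h2 := Order.coheight_add_one_le hlt
      rw [h1]
      push_cast
      calc (tdeg s x : ℕ∞) + 1 + Order.coheight ξ
          = (tdeg s x : ℕ∞) + (Order.coheight ξ + 1) := by ring
        _ ≤ (tdeg s x : ℕ∞) + Order.coheight x := by gcongr
    · push_neg at himm
      obtain ⟨y, h1, h2, h3, h4⟩ := himm
      have t1 := tdeg_lt_of_specializes s h2 h4
      have t2 := tdeg_lt_of_specializes s h1 (Ne.symm h3)
      exact (ih y ξ h1 (by omega)).trans (ih x y h2 (by omega))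

/-- `x ↦ trdeg κ(x) + dim O_x` can only drop under generization. -/
theorem tdeg_add_coheight_le {k : Type u} [Field k] {X : Scheme.{u}}
    (s : X ⟶ Spec (CommRingCat.of k)) [LocallyOfFiniteType s] {x ξ : X} (hsp : ξ ⤳ x) :
    (tdeg s ξ : ℕ∞) + Order.coheight ξ ≤ (tdeg s x : ℕ∞) + Order.coheight x :=
  tdeg_add_coheight_le_aux s (tdeg s ξ) x ξ hsp (by omega)

theorem tdeg_le_tdeg_add_coheight {k : Type u} [Field k] {X : Scheme.{u}}
    (s : X ⟶ Spec (CommRingCat.of k)) [LocallyOfFiniteType s] {x ξ : X} (hsp : ξ ⤳ x) :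
    (tdeg s ξ : ℕ∞) ≤ (tdeg s x : ℕ∞) + Order.coheight x :=
  le_trans le_self_add (tdeg_add_coheight_le s hsp)

/-- The dimension of an open subset is bounded by any bound for the transcendence degrees of the
residue fields at its points. -/
theorem topologicalKrullDim_opens_le_of_forall_tdeg_le {k : Type u} [Field k] {X : Scheme.{u}}
    (s : X ⟶ Spec (CommRingCat.of k)) [LocallyOfFiniteType s] (U : X.Opens) (n : ℕ)
    (h : ∀ x : X, x ∈ U → tdeg s x ≤ n) : topologicalKrullDim U ≤ n := by
  classical
  haveI : QuasiSober U := U.isOpenEmbedding'.quasiSober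
  let g : TopologicalSpace.IrreducibleCloseds U → ℕ :=
    fun Z => tdeg s (Z.isIrreducible.genericPoint).1
  have hgen : ∀ Z : TopologicalSpace.IrreducibleCloseds U,
      closure ({Z.isIrreducible.genericPoint} : Set U) = (Z : Set U) :=
    fun Z => Z.isIrreducible.closure_genericPoint Z.isClosed
  have hg : StrictMono g := by
    intro Z Z' hlt
    have hsub : (Z : Set U) ⊆ (Z' : Set U) := hlt.le
    have hmem : Z.isIrreducible.genericPoint ∈ (Z' : Set U) :=
      hsub ((hgen Z).subset (subset_closure rfl))
    have hsp : Z'.isIrreducible.genericPoint ⤳ Z.isIrreducible.genericPoint :=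
      specializes_iff_mem_closure.mpr ((hgen Z').symm.subset hmem)
    have hne : Z'.isIrreducible.genericPoint ≠ Z.isIrreducible.genericPoint := by
      intro heq
      apply hlt.ne
      apply TopologicalSpace.IrreducibleCloseds.ext
      exact (hgen Z).symm.trans
        ((congrArg (fun y => closure ({y} : Set U)) heq.symm).trans (hgen Z'))
    exact tdeg_lt_of_specializes s (hsp.map continuous_subtype_val)
      (fun h => hne (Subtype.ext h))
  unfold topologicalKrullDim
  rw [Order.krullDim]
  apply iSup_le
  intro p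
  have h1 := LTSeries.head_add_length_le_nat (p.map g hg)
  have h2 : g p.last ≤ n :=
    h (p.last.isIrreducible.genericPoint).1 (p.last.isIrreducible.genericPoint).2
  rw [LTSeries.last_map] at h1
  have h3 : p.length ≤ n := by
    have : (p.map g hg).length = p.length := rfl
    omega
  exact_mod_cast h3

/-- Around any point there is an open neighbourhood all of whose points have a common
generization with the given point. -/
theorem exists_open_generic {k : Type u} [Field k] {X : Scheme.{u}}
    (s : X ⟶ Spec (CommRingCat.of k)) [LocallyOfFiniteType s] (x : X) :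
    ∃ U : X.Opens, x ∈ U ∧ ∀ y ∈ U, ∃ ξ : X, ξ ⤳ y ∧ ξ ⤳ x := by
  obtain ⟨A, j, hj, ψ, hψ, hft, ⟨P, rfl⟩, -⟩ := exists_chart s x ⊤ trivial
  letI := ψ.hom.toAlgebra
  haveI : Algebra.FiniteType k A := hft
  haveI : IsNoetherianRing A := Algebra.FiniteType.isNoetherianRing k A
  have hfin : (irreducibleComponents (Spec A)).Finite :=
    TopologicalSpace.NoetherianSpace.finite_irreducibleComponents
  let T : Set (Set (Spec A)) := {Z | Z ∈ irreducibleComponents (Spec A) ∧ P ∉ Z}
  have hTfin : T.Finite := hfin.subset (fun Z hZ => hZ.1)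
  let C : Set (Spec A) := ⋃ Z ∈ T, Z
  have hC : IsClosed C :=
    hTfin.isClosed_biUnion (fun Z hZ => isClosed_of_mem_irreducibleComponents Z hZ.1)
  have hPC : P ∉ C := by
    intro h
    obtain ⟨Z, hZ, hPZ⟩ := Set.mem_iUnion₂.mp h
    exact hZ.2 hPZ
  refine ⟨⟨j '' Cᶜ, j.isOpenEmbedding.isOpenMap _ hC.isOpen_compl⟩, ⟨P, hPC, rfl⟩, ?_⟩
  rintro _ ⟨Q, hQ, rfl⟩
  have hZ := irreducibleComponent_mem_irreducibleComponents Q
  have hPZ : P ∈ irreducibleComponent Q := by
    by_contra hP
    exact hQ (Set.mem_iUnion₂.mpr ⟨irreducibleComponent Q, ⟨hZ, hP⟩, mem_irreducibleComponent⟩)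
  have hirr : IsIrreducible (irreducibleComponent Q) := isIrreducible_irreducibleComponent
  have hcl : IsClosed (irreducibleComponent Q) := isClosed_irreducibleComponent
  have hgen := hirr.closure_genericPoint hcl
  refine ⟨j hirr.genericPoint, Specializes.map ?_ j.continuous, Specializes.map ?_ j.continuous⟩
  · exact specializes_iff_mem_closure.mpr (hgen.symm.subset mem_irreducibleComponent)
  · exact specializes_iff_mem_closure.mpr (hgen.symm.subset hPZ)

theorem coheight_ne_top {k : Type u} [Field k] {X : Scheme.{u}}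
    (s : X ⟶ Spec (CommRingCat.of k)) [LocallyOfFiniteType s] (x : X) :
    Order.coheight x ≠ ⊤ := by
  obtain ⟨A, j, hj, ψ, hψ, hft, ⟨P, rfl⟩, -⟩ := exists_chart s x ⊤ trivial
  letI := ψ.hom.toAlgebra
  haveI : Algebra.FiniteType k A := hft
  haveI : IsNoetherianRing A := Algebra.FiniteType.isNoetherianRing k A
  have h1 : Order.coheight (j P) = Order.coheight P := coheight_eq_of_isOpenImmersion j
  have h2 : (P : PrimeSpectrum A).asIdeal.height = Order.coheight P := idealHeight_eq_coheight A P
  rw [h1, ← h2]
  exact Ideal.height_ne_top_of_isPrime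

/-- The local dimension at a point is `trdeg κ(x) + dim O_x`. -/
theorem localDim_eq {k : Type u} [Field k] {X : Scheme.{u}}
    (s : X ⟶ Spec (CommRingCat.of k)) [LocallyOfFiniteType s] (x : X) (b : ℕ)
    (hb : Order.coheight x = b) :
    FlatMor.localDim X x = ((tdeg s x + b : ℕ) : WithBot ℕ∞) := by
  unfold FlatMor.localDim
  apply le_antisymm
  · obtain ⟨U, hxU, hU⟩ := exists_open_generic s x
    refine iInf_le_of_le ⟨U, hxU⟩ ?_
    apply topologicalKrullDim_opens_le_of_forall_tdeg_le s U
    intro y hy
    obtain ⟨ξ, h1, h2⟩ := hU y hy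
    have h3 := tdeg_le_of_specializes s h1
    have h4 := tdeg_le_tdeg_add_coheight s h2
    rw [hb] at h4
    have h5 : tdeg s ξ ≤ tdeg s x + b := by exact_mod_cast h4
    omega
  · apply le_iInf
    rintro ⟨U, hxU⟩
    obtain ⟨p, hp1, hp2⟩ := Order.exists_series_of_le_coheight x (n := b) (by rw [hb])
    have h1 := LTSeries.head_add_length_le_nat (p.map (tdeg s) (tdeg_strictMono s))
    rw [LTSeries.last_map, LTSeries.head_map] at h1
    have h2 : (p.map (tdeg s) (tdeg_strictMono s)).length = p.length := rfl
    have hsp : p.last ⤳ x := by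
      have h : p.head ≤ p.last := LTSeries.head_le_last p
      rw [hp1] at h
      exact h
    have hmem : p.last ∈ U := hsp.mem_open U.isOpen hxU
    have h3 := tdeg_le_topologicalKrullDim s p.last U hmem
    refine le_trans ?_ h3
    have h4 : tdeg s x + b ≤ tdeg s p.last := by
      rw [hp1, h2, hp2] at h1
      exact h1
    exact_mod_cast h4

/-- Curves: all generic points have residue field of transcendence degree one iff all closed
points have one-dimensional local ring. -/
theorem tdeg_generic_eq_one_iff {k : Type u} [Field k] {X : Scheme.{u}}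
    (s : X ⟶ Spec (CommRingCat.of k)) [LocallyOfFiniteType s] [QuasiCompact s] :
    (∀ x : X, closure ({x} : Set X) ∈ irreducibleComponents (X : Type u) → tdeg s x = 1) ↔
      ∀ x : X, IsClosed ({x} : Set X) → Order.coheight x = 1 := by
  haveI : CompactSpace X := QuasiCompact.compactSpace_of_compactSpace s
  constructor
  · intro ha x hx
    have ht0 := tdeg_eq_zero_of_isClosed s x hx
    apply le_antisymm
    · refine Order.coheight_le_iff'.mpr (fun p hp => ?_)
      have h1 := LTSeries.head_add_length_le_nat (p.map (tdeg s) (tdeg_strictMono s))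
      rw [LTSeries.last_map] at h1
      have h2 : (p.map (tdeg s) (tdeg_strictMono s)).length = p.length := rfl
      obtain ⟨ξ, hξsp, hξ⟩ := exists_generic_specializes p.last
      have h3 := tdeg_le_of_specializes s hξsp
      have h4 := ha ξ hξ
      have h5 : p.length ≤ 1 := by omega
      exact_mod_cast h5
    · obtain ⟨ξ, hξsp, hξ⟩ := exists_generic_specializes x
      have h4 := ha ξ hξ
      have hne : x ≠ ξ := by
        intro h
        rw [← h] at h4
        omega
      have hlt : x < ξ := (scheme_lt_iff x ξ).mpr ⟨hξsp, hne⟩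
      exact le_trans le_add_self (Order.coheight_add_one_le hlt)
  · intro hb ξ hξ
    obtain ⟨x, hxmem, hxcl⟩ := IsClosed.exists_closed_singleton
      (isClosed_closure (s := ({ξ} : Set X))) ⟨ξ, subset_closure rfl⟩
    have hsp : ξ ⤳ x := specializes_iff_mem_closure.mpr hxmem
    have hco := hb x hxcl
    have ht0 := tdeg_eq_zero_of_isClosed s x hxcl
    have hne : ξ ≠ x := by
      intro h
      rw [← h] at hco
      have h0 : Order.coheight ξ = 0 := Order.coheight_eq_zero.mpr (isMax_of_generic hξ)
      rw [h0] at hco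
      exact zero_ne_one hco
    by_cases himm : ∀ y : X, ξ ⤳ y → y ⤳ x → y = ξ ∨ y = x
    · have := tdeg_eq_succ_of_covBy s hsp hne himm
      omega
    · exfalso
      push_neg at himm
      obtain ⟨y, h1, h2, h3, h4⟩ := himm
      have hxy : x < y := (scheme_lt_iff x y).mpr ⟨h2, Ne.symm h4⟩
      have hyξ : y < ξ := (scheme_lt_iff y ξ).mpr ⟨h1, h3⟩
      have h7 : Order.coheight x ≤ ((1 : ℕ) : ℕ∞) := by rw [hco, Nat.cast_one]
      have h8 := Order.coheight_le_coe_iff.mp h7 y hxy
      rw [Nat.cast_one, Order.lt_one_iff] at h8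
      exact (Order.coheight_eq_zero.mp h8).not_lt hyξ

end Groth.Agent.H54
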