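import Mathlib
import Groth.Agent.H54.SchemeDim2
import Groth.Agent.H54.Curve

/-!
# Transcendence degrees of residue fields in fibres
-/

set_option autoImplicit false
universe u

open CategoryTheory CategoryTheory.Limits AlgebraicGeometry

namespace Groth.Agent.H54

/-- Transcendence degree only depends on the extension up to isomorphism of both fields. -/
theorem trdeg_eq_of_comm_sq {k' k K L : Type u} [Field k'] [Field k] [Field K] [Field L]
    (α : k' →+* K) (β : K →+* L) (δ : k' →+* k) (γ : k →+* L)
    (hβ : Function.Bijective β) (hδ : Function.Bijective δ) (h : β.comp α = γ.comp δ) :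
    @Algebra.trdeg k' K _ _ α.toAlgebra = @Algebra.trdeg k L _ _ γ.toAlgebra := by
  letI a1 : Algebra k' K := α.toAlgebra
  letI a2 : Algebra k L := γ.toAlgebra
  letI a3 : Algebra k' L := (β.comp α).toAlgebra
  letI a4 : Algebra k' k := δ.toAlgebra
  haveI : IsScalarTower k' k L :=
    IsScalarTower.of_algebraMap_eq (fun x => congrArg (fun φ : k' →+* L => φ x) h)
  let e : K ≃ₐ[k'] L := AlgEquiv.ofBijective { β with commutes' := fun c => rfl } hβ
  have h1 : Algebra.trdeg k' K = Algebra.trdeg k' L := e.trdeg_eq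
  haveI : Algebra.IsAlgebraic k' k := ⟨fun x => by
    obtain ⟨y, rfl⟩ := hδ.2 x
    exact isAlgebraic_algebraMap y⟩
  have h2 : Algebra.trdeg k' k = 0 := _root_.trdeg_eq_zero
  have h3 := _root_.trdeg_add_eq k' k (A := L)
  rw [h2, zero_add] at h3
  exact h1.trans h3.symm

/-- The structure map to the residue field, geometrically. -/
theorem specMap_resMapOf {k : Type u} [Field k] {F : Scheme.{u}}
    (q : F ⟶ Spec (CommRingCat.of k)) (z : F) :
    Spec.map (CommRingCat.ofHom (resMapOf q z)) = F.fromSpecResidueField z ≫ q := by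
  have h1 : CommRingCat.ofHom (resMapOf q z) =
      ((Scheme.ΓSpecIso (CommRingCat.of k)).inv ≫ q.appTop ≫ F.presheaf.germ ⊤ z trivial) ≫
        F.residue z := by
    have : CommRingCat.ofHom (resMapOf q z) = (Scheme.ΓSpecIso (CommRingCat.of k)).inv ≫
        q.appTop ≫ F.presheaf.germ ⊤ z trivial ≫ F.residue z := rfl
    rw [this]; simp only [Category.assoc]
  rw [h1, Spec.map_comp, ← fromSpecStalk_comp_toSpec q z, ← Category.assoc]
  rfl

/-- The fibre as a scheme over the residue field, in the form used by `tdeg`. -/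
noncomputable def fiberQ {X S : Scheme.{u}} (f : X ⟶ S) (s : S) :
    f.fiber s ⟶ Spec (CommRingCat.of (S.residueField s)) :=
  f.fiberToSpecResidueField s

instance {X S : Scheme.{u}} (f : X ⟶ S) [LocallyOfFiniteType f] (s : S) :
    LocallyOfFiniteType (fiberQ f s) :=
  MorphismProperty.pullback_snd (P := @LocallyOfFiniteType) _ _ inferInstance

theorem fiberι_mem {X S : Scheme.{u}} (f : X ⟶ S) (s : S) (z : f.fiber s) :
    f.base (f.fiberι s z) = s := by
  have h : f.fiberι s z ∈ Set.range (f.fiberι s) := Set.mem_range_self z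
  rw [f.range_fiberι s] at h
  exact h

/-- The transcendence degree of `κ(x)` over `κ(f x)` computed in the fibre. -/
theorem trdeg_fiber_eq {X S : Scheme.{u}} (f : X ⟶ S) [LocallyOfFiniteType f] (s : S)
    (z : f.fiber s) :
    @Algebra.trdeg (S.residueField (f.base (f.fiberι s z))) (X.residueField (f.fiberι s z)) _ _
        (f.residueFieldMap (f.fiberι s z)).hom.toAlgebra =
      (tdeg (fiberQ f s) z : Cardinal.{u}) := by
  have hfx : f.base (f.fiberι s z) = s := fiberι_mem f s z
  obtain ⟨α, hα⟩ : ∃ α, α = f.residueFieldMap (f.fiberι s z) := ⟨_, rfl⟩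
  obtain ⟨β, hβ⟩ : ∃ β, β = (f.fiberι s).residueFieldMap z := ⟨_, rfl⟩
  obtain ⟨γ, hγ⟩ : ∃ γ, γ = CommRingCat.ofHom (resMapOf (fiberQ f s) z) := ⟨_, rfl⟩
  obtain ⟨δ, hδ⟩ : ∃ δ, δ = (S.residueFieldCongr hfx).hom := ⟨_, rfl⟩
  have hsq : α ≫ β = δ ≫ γ := by
    apply Spec.map_injective
    rw [← cancel_mono (S.fromSpecResidueField (f.base (f.fiberι s z)))]
    calc Spec.map (α ≫ β) ≫ S.fromSpecResidueField (f.base (f.fiberι s z))
        = Spec.map β ≫ Spec.map α ≫ S.fromSpecResidueField (f.base (f.fiberι s z)) := by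
          rw [Spec.map_comp, Category.assoc]
      _ = Spec.map β ≫ X.fromSpecResidueField (f.fiberι s z) ≫ f := by
          rw [hα, Scheme.Hom.SpecMap_residueFieldMap_fromSpecResidueField]
      _ = (f.fiber s).fromSpecResidueField z ≫ f.fiberι s ≫ f := by
          rw [hβ, ← Category.assoc, Scheme.Hom.SpecMap_residueFieldMap_fromSpecResidueField,
            Category.assoc]
      _ = (f.fiber s).fromSpecResidueField z ≫ fiberQ f s ≫ S.fromSpecResidueField s := by
          rw [f.fiber_fac s]; rfl
      _ = Spec.map γ ≫ S.fromSpecResidueField s := by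
          rw [hγ, ← Category.assoc, ← specMap_resMapOf]
      _ = Spec.map γ ≫ Spec.map δ ≫ S.fromSpecResidueField (f.base (f.fiberι s z)) := by
          rw [hδ, S.residueFieldCongr_fromSpecResidueField hfx]
      _ = Spec.map (δ ≫ γ) ≫ S.fromSpecResidueField (f.base (f.fiberι s z)) := by
          rw [Spec.map_comp, Category.assoc]
  have hβs : Function.Surjective β.hom := by
    intro l
    obtain ⟨t, rfl⟩ := (f.fiber s).residue_surjective z l
    obtain ⟨t', rfl⟩ := (f.fiberι s).stalkMap_surjective z t
    refine ⟨X.residue (f.fiberι s z) t', ?_⟩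
    have := congrArg (fun φ => φ.hom t') (Scheme.residue_residueFieldMap (f.fiberι s) z)
    rw [hβ]
    exact this
  have hδb : Function.Bijective δ.hom := by
    rw [hδ]
    exact ConcreteCategory.bijective_of_isIso (S.residueFieldCongr hfx).hom
  have hcomp : β.hom.comp α.hom = (resMapOf (fiberQ f s) z).comp δ.hom := by
    have := congrArg CommRingCat.Hom.hom hsq
    rw [hγ] at this
    exact this
  have h1 := trdeg_eq_of_comm_sq α.hom β.hom δ.hom (resMapOf (fiberQ f s) z)
    ⟨β.hom.injective, hβs⟩ hδb hcomp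
  have h2 := tdeg_spec (fiberQ f s) z
  rw [hα] at h1
  exact h1.trans h2

end Groth.Agent.H54
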