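import Groth.Agent.H9.BlowUpPullback
import Groth.Prelude.Def_CurvBase

/-!
# helper54: affine blow-up criterion, auxiliary lemmas (for S14090)
-/

set_option autoImplicit false
universe u
open CategoryTheory AlgebraicGeometry TopologicalSpace

namespace Groth.Agent.H54.BlowUpAffine

section Algebra

variable {A B C : Type u} [CommRing A] [CommRing B] [CommRing C] [Algebra A B]

/-- Key algebra lemma: if `I = fB` with `f` a nonzerodivisor of `B ⊇ A`, `f = t₀ ∈ I`, and `IC = cC`
with `c` a nonzerodivisor, then `ψ t₀` is a nonzerodivisor generating `IC`. -/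
theorem alg_key (hinj : Function.Injective (algebraMap A B)) (I : Ideal A)
    (hIB : (Ideal.map (algebraMap A B) I : Set B) ⊆ algebraMap A B '' (I : Set A))
    (f : B) (hgen : Ideal.map (algebraMap A B) I = Ideal.span {f})
    (t₀ : A) (ht₀ : algebraMap A B t₀ = f)
    (ψ : A →+* C) (c : C) (hc : c ∈ nonZeroDivisors C) (hC : Ideal.map ψ I = Ideal.span {c}) :
    ψ t₀ ∈ nonZeroDivisors C ∧ ∀ a ∈ I, ∃ x, ψ t₀ * x = ψ a := by
  have hmemB : ∀ b : B, ∃ a ∈ I, algebraMap A B a = f * b := by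
    intro b
    have : f * b ∈ Ideal.map (algebraMap A B) I := by
      rw [hgen]; exact Ideal.mul_mem_right _ _ (Ideal.mem_span_singleton_self f)
    obtain ⟨a, ha, hab⟩ := hIB this
    exact ⟨a, ha, hab⟩
  choose aOf haOfI haOf using hmemB
  have hψmem : ∀ a ∈ I, ψ a ∈ Ideal.span {c} := fun a ha => hC ▸ Ideal.mem_map_of_mem ψ ha
  have hv : ∀ b : B, ∃ v, ψ (aOf b) = c * v := fun b => by
    obtain ⟨z, hz⟩ := Ideal.mem_span_singleton'.1 (hψmem _ (haOfI b))
    exact ⟨z, by rw [← hz, mul_comm]⟩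
  choose v hv using hv
  have hsurj : ∀ a ∈ I, ∃ b, a = aOf b := by
    intro a ha
    have : algebraMap A B a ∈ Ideal.span {f} := hgen ▸ Ideal.mem_map_of_mem _ ha
    obtain ⟨b, hb⟩ := Ideal.mem_span_singleton'.1 this
    exact ⟨b, hinj (by rw [haOf, ← hb, mul_comm])⟩
  have htop : Ideal.span (Set.range v) = ⊤ := by
    have h1 : Ideal.map ψ I ≤ Ideal.span {c} * Ideal.span (Set.range v) := by
      rw [Ideal.map_le_iff_le_comap]
      intro a ha
      obtain ⟨b, rfl⟩ := hsurj a ha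
      rw [Ideal.mem_comap, hv b]
      exact Ideal.mul_mem_mul (Ideal.mem_span_singleton_self c) (Ideal.subset_span ⟨b, rfl⟩)
    have h2 : c ∈ Ideal.span {c} * Ideal.span (Set.range v) :=
      h1 (hC ▸ Ideal.mem_span_singleton_self c)
    obtain ⟨w, hw, hcw⟩ := Ideal.mem_span_singleton_mul.1 h2
    have hw1 : w = 1 := by
      have h3 : (w - 1) * c = 0 := by rw [sub_mul, one_mul, mul_comm, hcw, sub_self]
      exact sub_eq_zero.1 ((mem_nonZeroDivisors_iff_right.1 hc) _ h3)
    rw [Ideal.eq_top_iff_one, ← hw1]; exact hw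
  have hsq : ∀ b, v b ^ 2 = v 1 * v (b * b) := by
    intro b
    have h1 : aOf b * aOf b = aOf 1 * aOf (b * b) := hinj (by
      rw [map_mul, map_mul, haOf, haOf, haOf]; ring)
    have h2 : (v b ^ 2 - v 1 * v (b * b)) * (c * c) = 0 := by
      have := congrArg ψ h1
      rw [map_mul, map_mul, hv, hv, hv] at this
      linear_combination this
    have hcc : c * c ∈ nonZeroDivisors C := mul_mem hc hc
    exact sub_eq_zero.1 ((mem_nonZeroDivisors_iff_right.1 hcc) _ h2)
  have hunit : IsUnit (v 1) := by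
    rw [← Ideal.span_singleton_eq_top]
    have h1 := Ideal.span_pow_eq_top _ htop 2
    rw [eq_top_iff, ← h1, Ideal.span_le]
    rintro _ ⟨_, ⟨b, rfl⟩, rfl⟩
    rw [SetLike.mem_coe, Ideal.mem_span_singleton']
    exact ⟨v (b * b), by show v (b * b) * v 1 = v b ^ 2; rw [hsq b, mul_comm]⟩
  have ht : aOf 1 = t₀ := hinj (by rw [haOf, ht₀, mul_one])
  have hψt : ψ t₀ = c * v 1 := by rw [← ht, hv]
  refine ⟨?_, ?_⟩
  · rw [hψt]; exact mul_mem hc hunit.mem_nonZeroDivisors
  · intro a ha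
    obtain ⟨z, hz⟩ := Ideal.mem_span_singleton'.1 (hψmem a ha)
    obtain ⟨u, hu⟩ := hunit
    refine ⟨↑u⁻¹ * z, ?_⟩
    rw [hψt, ← hu, ← hz]
    calc c * ↑u * (↑u⁻¹ * z) = c * z * (↑u * ↑u⁻¹) := by ring
      _ = z * c := by rw [Units.mul_inv, mul_one, mul_comm]

end Algebra

section Sections

variable {T : Scheme.{u}}

theorem res_res {U V W : T.Opens} (i : U ⟶ V) (j : V ⟶ W) (k : U ⟶ W) (s : Γ(T, W)) :
    (T.presheaf.map i.op).hom ((T.presheaf.map j.op).hom s) = (T.presheaf.map k.op).hom s := by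
  rw [← CommRingCat.comp_apply, ← Functor.map_comp, ← op_comp,
    show i ≫ j = k from Subsingleton.elim _ _]

theorem germ_res' {U V : T.Opens} (i : U ⟶ V) (t : T) (ht : t ∈ U) (s : Γ(T, V)) :
    T.presheaf.germ U t ht ((T.presheaf.map i.op).hom s) = T.presheaf.germ V t (i.le ht) s :=
  TopCat.Presheaf.germ_res_apply T.presheaf i t ht s

/-- Multiplication by a section whose germs are nonzerodivisors is injective on every open. -/
theorem eq_zero_of_mul (s : Γ(T, ⊤))
    (hs : ∀ t : T, T.presheaf.germ ⊤ t trivial s ∈ nonZeroDivisors (T.presheaf.stalk t))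
    (V : T.Opens) (z : Γ(T, V))
    (hz : (T.presheaf.map (homOfLE (le_top : V ≤ ⊤)).op).hom s * z = 0) : z = 0 := by
  apply Groth.Agent.H9.eq_zero_of_germ'
  intro t ht
  have h1 : T.presheaf.germ V t ht ((T.presheaf.map (homOfLE (le_top : V ≤ ⊤)).op).hom s * z) = 0 := by
    rw [hz, map_zero]
  rw [map_mul, germ_res'] at h1
  exact (mem_nonZeroDivisors_iff_right.1 (hs t)) _ (by rw [mul_comm]; exact h1)

/-- Global division by a section whose germs are nonzerodivisors, given local divisibility. -/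
theorem exists_div (s y : Γ(T, ⊤))
    (hs : ∀ t : T, T.presheaf.germ ⊤ t trivial s ∈ nonZeroDivisors (T.presheaf.stalk t))
    (hy : ∀ t : T, ∃ W : T.Opens, t ∈ W ∧ ∃ x : Γ(T, W),
        (T.presheaf.map (homOfLE (le_top : W ≤ ⊤)).op).hom s * x =
          (T.presheaf.map (homOfLE (le_top : W ≤ ⊤)).op).hom y) :
    ∃ x : Γ(T, ⊤), s * x = y := by
  choose W htW x hx using hy
  have hcompat : TopCat.Presheaf.IsCompatible T.presheaf W x := by
    intro t t'
    have key : (T.presheaf.map (homOfLE (le_top : W t ⊓ W t' ≤ ⊤)).op).hom s *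
        ((T.presheaf.map (Opens.infLELeft (W t) (W t')).op).hom (x t) -
          (T.presheaf.map (Opens.infLERight (W t) (W t')).op).hom (x t')) = 0 := by
      rw [mul_sub]
      have e1 : (T.presheaf.map (homOfLE (le_top : W t ⊓ W t' ≤ ⊤)).op).hom s *
          (T.presheaf.map (Opens.infLELeft (W t) (W t')).op).hom (x t) =
          (T.presheaf.map (homOfLE (le_top : W t ⊓ W t' ≤ ⊤)).op).hom y := by
        rw [← res_res (Opens.infLELeft (W t) (W t')) (homOfLE le_top) _ s, ← map_mul, hx t,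
          res_res]
      have e2 : (T.presheaf.map (homOfLE (le_top : W t ⊓ W t' ≤ ⊤)).op).hom s *
          (T.presheaf.map (Opens.infLERight (W t) (W t')).op).hom (x t') =
          (T.presheaf.map (homOfLE (le_top : W t ⊓ W t' ≤ ⊤)).op).hom y := by
        rw [← res_res (Opens.infLERight (W t) (W t')) (homOfLE le_top) _ s, ← map_mul, hx t',
          res_res]
      rw [e1, e2, sub_self]
    exact sub_eq_zero.1 (eq_zero_of_mul s hs _ _ key)
  obtain ⟨(x₀ : Γ(T, ⊤)), hx₀, -⟩ := TopCat.Sheaf.existsUnique_gluing' T.sheaf W ⊤ (fun t => homOfLE le_top)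
    (fun t _ => Opens.mem_iSup.2 ⟨t, htW t⟩) x hcompat
  refine ⟨x₀, ?_⟩
  have h0 : s * x₀ - y = 0 := by
    apply Groth.Agent.H9.eq_zero_of_germ'
    intro t _
    have h1 : (T.presheaf.map (homOfLE (le_top : W t ≤ ⊤)).op).hom x₀ = x t := hx₀ t
    rw [← germ_res' (homOfLE (le_top : W t ≤ ⊤)) t (htW t), map_sub, map_mul, h1, hx t, sub_self,
      map_zero]
  exact sub_eq_zero.1 h0

end Sections

section Sharp

variable {T : Scheme.{u}} {A B : Type u} [CommRing A] [CommRing B]

/-- The ring map `A → Γ(T, ⊤)` attached to a morphism `T ⟶ Spec A`. -/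
noncomputable def sharp (g : T ⟶ Spec (CommRingCat.of A)) : A →+* Γ(T, ⊤) :=
  ((Scheme.ΓSpecIso (CommRingCat.of A)).inv ≫ g.appTop).hom

theorem sharp_injective {g₁ g₂ : T ⟶ Spec (CommRingCat.of A)} (h : sharp g₁ = sharp g₂) :
    g₁ = g₂ := by
  apply ext_of_isAffine
  have h' : (Scheme.ΓSpecIso (CommRingCat.of A)).inv ≫ g₁.appTop =
      (Scheme.ΓSpecIso (CommRingCat.of A)).inv ≫ g₂.appTop := CommRingCat.hom_ext h
  exact (cancel_epi _).1 h'

theorem sharp_comp_SpecMap [Algebra A B] (h : T ⟶ Spec (CommRingCat.of B)) :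
    sharp (h ≫ Spec.map (CommRingCat.ofHom (algebraMap A B))) =
      (sharp h).comp (algebraMap A B) := by
  unfold sharp
  rw [Scheme.Hom.comp_appTop, ← Category.assoc, ← Scheme.ΓSpecIso_inv_naturality, Category.assoc]
  rfl

theorem sharp_mk (φ : B →+* Γ(T, ⊤)) :
    sharp (T.toSpecΓ ≫ Spec.map (CommRingCat.ofHom φ)) = φ := by
  unfold sharp
  rw [Scheme.Hom.comp_appTop, Scheme.toSpecΓ_appTop, ← Category.assoc,
    ← Scheme.ΓSpecIso_inv_naturality, Category.assoc, Iso.inv_hom_id, Category.comp_id]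
  rfl

end Sharp

end Groth.Agent.H54.BlowUpAffine
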