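import Mathlib
import Groth.Agent.H54.SchemeDim2
import Groth.Agent.S17897
import Groth.Agent.S17898

/-!
# The valuative criterion through a dense family of points
-/

set_option autoImplicit false
universe u

open CategoryTheory CategoryTheory.Limits AlgebraicGeometry

namespace Groth.Agent.H54

/-- A quasi-compact morphism with dense image hits every generic point of an irreducible
component. -/
theorem exists_eq_generic_of_denseRange {U X : Scheme.{u}} (h : U ⟶ X) [QuasiCompact h]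
    (hd : DenseRange h.base) (ξ : X)
    (hξ : closure ({ξ} : Set X) ∈ irreducibleComponents (X : Type u)) :
    ∃ u : U, h.base u = ξ := by
  obtain ⟨W, hW, hξW, -⟩ := exists_isAffineOpen_mem_and_subset (X := X) (x := ξ) (U := ⊤) trivial
  have hVc : IsCompact ((h ⁻¹ᵁ W : U.Opens) : Set U) := h.isCompact_preimage hW.isCompact
  obtain ⟨s, hsfin, hs⟩ := isCompact_and_isOpen_iff_finite_and_eq_biUnion_affineOpens.mp
    ⟨hVc, (h ⁻¹ᵁ W).isOpen⟩
  have hcl : ξ ∈ closure (h.base '' ((h ⁻¹ᵁ W : U.Opens) : Set U)) := by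
    rw [mem_closure_iff]
    intro O hO hξO
    obtain ⟨y, ⟨hyO, hyW⟩, ⟨u, rfl⟩⟩ :=
      hd.inter_open_nonempty (O ∩ W) (hO.inter W.isOpen) ⟨ξ, hξO, hξW⟩
    exact ⟨_, hyO, u, hyW, rfl⟩
  rw [hs, Set.image_iUnion₂, hsfin.closure_biUnion] at hcl
  obtain ⟨V, hVs, hξV⟩ := Set.mem_iUnion₂.mp hcl
  have hVW : (V : U.Opens) ≤ h ⁻¹ᵁ W := by
    intro u hu
    have : u ∈ ((h ⁻¹ᵁ W : U.Opens) : Set U) := by
      rw [hs]; exact Set.mem_iUnion₂.mpr ⟨V, hVs, hu⟩
    exact this
  obtain ⟨φ, hφ⟩ : ∃ φ, φ = h.appLE W V hVW := ⟨_, rfl⟩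
  have hsq : Spec.map φ ≫ hW.fromSpec = V.2.fromSpec ≫ h := by
    rw [hφ]; exact IsAffineOpen.SpecMap_appLE_fromSpec h hW V.2 hVW
  obtain ⟨q, hq⟩ : ∃ q, hW.fromSpec q = ξ := by
    have : ξ ∈ Set.range hW.fromSpec := by rw [hW.range_fromSpec]; exact hξW
    exact this
  have hqcl : q ∈ closure (Set.range (Spec.map φ)) := by
    rw [hW.fromSpec.isOpenEmbedding.isInducing.closure_eq_preimage_closure_image,
      Set.mem_preimage, hq]
    refine closure_mono ?_ hξV
    rintro _ ⟨u, hu, rfl⟩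
    obtain ⟨Q, rfl⟩ : u ∈ Set.range V.2.fromSpec := by rw [V.2.range_fromSpec]; exact hu
    refine ⟨Spec.map φ Q, ⟨Q, rfl⟩, ?_⟩
    rw [← Scheme.Hom.comp_apply, hsq, Scheme.Hom.comp_apply]
  have hker : RingHom.ker φ.hom ≤ (q : PrimeSpectrum Γ(X, W)).asIdeal := by
    have h2 : q ∈ PrimeSpectrum.zeroLocus (RingHom.ker φ.hom : Set Γ(X, W)) :=
      (PrimeSpectrum.closure_range_comap φ.hom).subset hqcl
    exact SetLike.coe_subset_coe.mp ((PrimeSpectrum.mem_zeroLocus _ _).mp h2)
  have hmin : (q : PrimeSpectrum Γ(X, W)).asIdeal ∈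
      ((⊥ : Ideal Γ(U, V)).comap φ.hom).minimalPrimes := by
    refine ⟨⟨(q : PrimeSpectrum Γ(X, W)).2, hker⟩, ?_⟩
    rintro p ⟨hp, -⟩ hpq
    have hsp : (⟨p, hp⟩ : PrimeSpectrum Γ(X, W)) ⤳ q :=
      (PrimeSpectrum.le_iff_specializes ⟨p, hp⟩ q).mp hpq
    have hsp' : hW.fromSpec ⟨p, hp⟩ ⤳ ξ := hq ▸ hsp.map hW.fromSpec.continuous
    have heq := eq_of_specializes_generic hξ hsp'
    have h3 : (⟨p, hp⟩ : Spec Γ(X, W)) = q :=
      hW.fromSpec.isOpenEmbedding.injective (heq.trans hq.symm)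
    have h4 : p = (q : PrimeSpectrum Γ(X, W)).asIdeal :=
      congrArg (fun z : PrimeSpectrum Γ(X, W) => z.asIdeal) h3
    exact h4.ge
  obtain ⟨p', hp', -, hcomap⟩ :=
    Ideal.exists_comap_eq_of_mem_minimalPrimes φ.hom (I := ⊥) _ hmin
  refine ⟨V.2.fromSpec ⟨p', hp'⟩, ?_⟩
  rw [← Scheme.Hom.comp_apply, ← hsq, Scheme.Hom.comp_apply, ← hq]
  congr 1
  exact PrimeSpectrum.ext hcomap

theorem exists_specializes_of_denseRange {U X : Scheme.{u}} (h : U ⟶ X) [QuasiCompact h]
    (hd : DenseRange h.base) (x : X) : ∃ u : U, h.base u ⤳ x := by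
  obtain ⟨ξ, hξx, hξ⟩ := exists_generic_specializes x
  obtain ⟨u, hu⟩ := exists_eq_generic_of_denseRange h hd ξ hξ
  exact ⟨u, hu ▸ hξx⟩

/-- A valuation ring of `κ(u)` through a specialization `h u ⤳ x`. -/
theorem exists_valuationSubring_of_specializes {U X : Scheme.{u}} (h : U ⟶ X) (u : U) (x : X)
    (hux : h.base u ⤳ x) :
    ∃ (A' : ValuationSubring (U.residueField u)) (θ : X.presheaf.stalk x ⟶ CommRingCat.of A'),
      IsLocalHom θ.hom ∧
      Spec.map (CommRingCat.ofHom A'.subtype) ≫ Spec.map θ ≫ X.fromSpecStalk x =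
        U.fromSpecResidueField u ≫ h := by
  let t : X.presheaf.stalk x ⟶ U.residueField u :=
    X.presheaf.stalkSpecializes hux ≫ h.stalkMap u ≫ U.residue u
  obtain ⟨A', hA', hloc⟩ := IsLocalRing.exists_factor_valuationRing t.hom
  refine ⟨A', CommRingCat.ofHom (t.hom.codRestrict _ hA'), hloc, ?_⟩
  symm
  rw [Scheme.fromSpecResidueField, Category.assoc, ← Scheme.SpecMap_stalkMap_fromSpecStalk,
    ← Scheme.SpecMap_stalkSpecializes_fromSpecStalk hux]
  simp_rw [← Spec.map_comp_assoc]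
  rfl

/-- Extending a valuation ring along a field extension, without changing its trace. -/
theorem exists_valuationSubring_extension {K k' : Type u} [Field K] [Field k']
    (A : ValuationSubring K) (γ : K →+* k') :
    ∃ A'' : ValuationSubring k', A''.comap γ = A := by
  obtain ⟨A'', hA'', hloc⟩ := IsLocalRing.exists_factor_valuationRing (γ.comp A.subtype)
  refine ⟨A'', ?_⟩
  ext b
  rw [ValuationSubring.mem_comap]
  constructor
  · intro hb
    by_contra hbA
    have hb0 : b ≠ 0 := fun h0 => hbA (h0 ▸ A.zero_mem)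
    have hinv : b⁻¹ ∈ A := (A.mem_or_inv_mem b).resolve_left hbA
    have hunit : IsUnit ((γ.comp A.subtype).codRestrict A''.toSubring hA'' ⟨b⁻¹, hinv⟩) := by
      refine isUnit_iff_exists_inv.mpr ⟨⟨γ b, hb⟩, Subtype.ext ?_⟩
      show γ b⁻¹ * γ b = 1
      rw [← map_mul, inv_mul_cancel₀ hb0, map_one]
    have hunit' : IsUnit (⟨b⁻¹, hinv⟩ : A) := hloc.map_nonunit _ hunit
    obtain ⟨c, hc⟩ := isUnit_iff_exists_inv.mp hunit'
    have h1 : (b⁻¹ : K) * (c : K) = 1 := congrArg (fun t : A => (t : K)) hc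
    have hbc : b = (c : K) := (inv_mul_eq_one₀ hb0).mp h1
    exact hbA (hbc ▸ c.2)
  · intro hb
    exact hA'' ⟨b, hb⟩

section composite

variable {K : Type u} [Field K] (A' : ValuationSubring K)
  (A'' : ValuationSubring (IsLocalRing.ResidueField A'))

/-- The composite of a valuation ring with a valuation ring of its residue field. -/
def compSubring : Subring K := (A''.toSubring.comap (IsLocalRing.residue A')).map A'.subtype

theorem mem_compSubring {a : K} :
    a ∈ compSubring A' A'' ↔ ∃ y : A', IsLocalRing.residue A' y ∈ A'' ∧ (y : K) = a := by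
  unfold compSubring
  rw [Subring.mem_map]
  exact Iff.rfl

theorem compSubring_aux {a : K} (ha : a ∈ A') :
    a ∈ compSubring A' A'' ∨ a⁻¹ ∈ compSubring A' A'' := by
  rcases A''.mem_or_inv_mem (IsLocalRing.residue A' ⟨a, ha⟩) with h | h
  · exact Or.inl ((mem_compSubring A' A'').mpr ⟨⟨a, ha⟩, h, rfl⟩)
  · by_cases h0 : IsLocalRing.residue A' ⟨a, ha⟩ = 0
    · refine Or.inl ((mem_compSubring A' A'').mpr ⟨⟨a, ha⟩, ?_, rfl⟩)
      rw [h0]; exact A''.zero_mem
    · have hu : IsUnit (⟨a, ha⟩ : A') := (IsLocalRing.residue_ne_zero_iff_isUnit _).mp h0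
      obtain ⟨c, hc⟩ := isUnit_iff_exists_inv.mp hu
      have hcK : a * (c : K) = 1 := congrArg (fun t : A' => (t : K)) hc
      have hca : (c : K) = a⁻¹ := eq_inv_of_mul_eq_one_right hcK
      refine Or.inr ((mem_compSubring A' A'').mpr ⟨c, ?_, hca⟩)
      have hres : IsLocalRing.residue A' ⟨a, ha⟩ * IsLocalRing.residue A' c = 1 := by
        rw [← map_mul, hc, map_one]
      rw [eq_inv_of_mul_eq_one_right hres]
      exact h

/-- The composite valuation ring. -/
def compVal : ValuationSubring K :=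
  { compSubring A' A'' with
    mem_or_inv_mem' := fun a => by
      rcases A'.mem_or_inv_mem a with ha | ha
      · exact compSubring_aux A' A'' ha
      · rcases compSubring_aux A' A'' ha with h | h
        · exact Or.inr h
        · exact Or.inl (by rwa [inv_inv] at h) }

theorem mem_compVal {a : K} :
    a ∈ compVal A' A'' ↔ ∃ y : A', IsLocalRing.residue A' y ∈ A'' ∧ (y : K) = a :=
  mem_compSubring A' A''

theorem compVal_le : compVal A' A'' ≤ A' := fun a ha => by
  obtain ⟨y, -, rfl⟩ := (mem_compVal A' A'').mp ha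
  exact y.2

/-- The residue map from the composite valuation ring. -/
noncomputable def compValσ : compVal A' A'' →+* A'' :=
  ((IsLocalRing.residue A').comp
    (ValuationSubring.inclusion _ _ (compVal_le A' A''))).codRestrict A''.toSubring (fun c => by
      obtain ⟨y, hy, hyc⟩ := (mem_compVal A' A'').mp c.2
      have h1 : ValuationSubring.inclusion _ _ (compVal_le A' A'') c = y := Subtype.ext hyc.symm
      show IsLocalRing.residue A' (ValuationSubring.inclusion _ _ (compVal_le A' A'') c) ∈ A''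
      rw [h1]; exact hy)

theorem compValσ_apply (c : compVal A' A'') :
    ((compValσ A' A'' c : A'') : IsLocalRing.ResidueField A') =
      IsLocalRing.residue A' (ValuationSubring.inclusion _ _ (compVal_le A' A'') c) := rfl

theorem compValσ_surjective : Function.Surjective (compValσ A' A'') := by
  intro t
  obtain ⟨y, hy⟩ := IsLocalRing.residue_surjective (t : IsLocalRing.ResidueField A')
  have hyc : (y : K) ∈ compVal A' A'' := (mem_compVal A' A'').mpr ⟨y, hy ▸ t.2, rfl⟩
  refine ⟨⟨y, hyc⟩, Subtype.ext ?_⟩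
  rw [compValσ_apply]
  have h1 : ValuationSubring.inclusion _ _ (compVal_le A' A'') ⟨y, hyc⟩ = y := Subtype.ext rfl
  rw [h1, hy]

end composite

end Groth.Agent.H54
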