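import Mathlib
import Groth.Agent.H54.FibreTdeg
import Groth.Agent.H54.ValDense

/-!
# Dimension of the closure of a point, and dominant morphisms of varieties
-/

set_option autoImplicit false
universe u

open CategoryTheory CategoryTheory.Limits AlgebraicGeometry

namespace Groth.Agent.H54

/-- If the residue field extension at `z` is algebraic, transcendence degrees over the base agree. -/
theorem tdeg_eq_of_trdeg_zero {k : Type u} [Field k] {X Y : Scheme.{u}}
    (p : X ⟶ Spec (CommRingCat.of k)) (q : Y ⟶ Spec (CommRingCat.of k))
    [LocallyOfFiniteType p] [LocallyOfFiniteType q] (f : X ⟶ Y) (hf : f ≫ q = p) (z : X)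
    (h0 : @Algebra.trdeg (Y.residueField (f.base z)) (X.residueField z) _ _
        (f.residueFieldMap z).hom.toAlgebra = 0) :
    tdeg p z = tdeg q (f.base z) := by
  letI := (resMapOf q (f.base z)).toAlgebra
  letI := (resMapOf p z).toAlgebra
  letI := (f.residueFieldMap z).hom.toAlgebra
  haveI : IsScalarTower k (Y.residueField (f.base z)) (X.residueField z) := by
    refine IsScalarTower.of_algebraMap_eq fun c => ?_
    exact (congrArg (fun φ => φ.hom c) (resMapOf_comp_residueFieldMap q p f hf z)).symm
  have h1 := trdeg_add_eq k (Y.residueField (f.base z)) (A := X.residueField z)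
  have h0' : Algebra.trdeg (Y.residueField (f.base z)) (X.residueField z) = 0 := h0
  rw [tdeg_spec q (f.base z), tdeg_spec p z, h0', add_zero] at h1
  exact_mod_cast h1.symm

/-- The dimension of the closure of a point of a scheme locally of finite type over a field is the
transcendence degree of its residue field. -/
theorem topologicalKrullDim_closure_singleton {k : Type u} [Field k] {X : Scheme.{u}}
    (s : X ⟶ Spec (CommRingCat.of k)) [LocallyOfFiniteType s] (z : X) :
    topologicalKrullDim ↥(closure ({z} : Set X)) = (tdeg s z : WithBot ℕ∞) := by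
  classical
  apply le_antisymm
  · haveI : QuasiSober ↥(closure ({z} : Set X)) :=
      (isClosed_closure.isClosedEmbedding_subtypeVal).quasiSober
    let g : TopologicalSpace.IrreducibleCloseds ↥(closure ({z} : Set X)) → ℕ :=
      fun W => tdeg s (W.isIrreducible.genericPoint : X)
    have hgen : ∀ W : TopologicalSpace.IrreducibleCloseds ↥(closure ({z} : Set X)),
        closure ({W.isIrreducible.genericPoint} : Set ↥(closure ({z} : Set X))) =
          (W : Set ↥(closure ({z} : Set X))) :=
      fun W => W.isIrreducible.closure_genericPoint W.isClosed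
    have hg : StrictMono g := by
      intro W W' hlt
      have hsub : (W : Set ↥(closure ({z} : Set X))) ⊆ (W' : Set ↥(closure ({z} : Set X))) :=
        hlt.le
      have hmem : W.isIrreducible.genericPoint ∈ (W' : Set ↥(closure ({z} : Set X))) :=
        hsub ((hgen W).subset (subset_closure rfl))
      have hsp : W'.isIrreducible.genericPoint ⤳ W.isIrreducible.genericPoint :=
        specializes_iff_mem_closure.mpr ((hgen W').symm.subset hmem)
      have hsp' : (W'.isIrreducible.genericPoint : X) ⤳ (W.isIrreducible.genericPoint : X) :=
        Topology.IsInducing.subtypeVal.specializes_iff.mpr hsp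
      have hne : (W'.isIrreducible.genericPoint : X) ≠ (W.isIrreducible.genericPoint : X) := by
        intro heq
        have heq' : W'.isIrreducible.genericPoint = W.isIrreducible.genericPoint :=
          Subtype.ext heq
        apply hlt.ne
        apply TopologicalSpace.IrreducibleCloseds.ext
        exact (hgen W).symm.trans
          ((congrArg (fun y => closure ({y} : Set ↥(closure ({z} : Set X)))) heq'.symm).trans
            (hgen W'))
      exact tdeg_lt_of_specializes s hsp' hne
    unfold topologicalKrullDim
    rw [Order.krullDim]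
    apply iSup_le
    intro c
    have h1 := LTSeries.head_add_length_le_nat (c.map g hg)
    have h2 : (c.map g hg).last ≤ tdeg s z := by
      have hz : z ⤳ ((c.last).isIrreducible.genericPoint : X) :=
        specializes_iff_mem_closure.mpr ((c.last).isIrreducible.genericPoint).2
      exact tdeg_le_of_specializes s hz
    have h3 : c.length ≤ tdeg s z := by
      have : (c.map g hg).length = c.length := rfl
      omega
    exact_mod_cast h3
  · obtain ⟨A, j, hj, ψ, hψ, hft, ⟨P, rfl⟩, -⟩ := exists_chart s z ⊤ trivial
    rw [← ringKrullDim_quotient_chart s j ψ hψ hft P,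
      ← PrimeSpectrum.topologicalKrullDim_eq_ringKrullDim]
    have hmem : ∀ Q : PrimeSpectrum (A ⧸ (P : PrimeSpectrum A).asIdeal),
        j.base (PrimeSpectrum.comap (Ideal.Quotient.mk (P : PrimeSpectrum A).asIdeal) Q) ∈
          closure ({j.base P} : Set X) := by
      intro Q
      have hle : (P : PrimeSpectrum A).asIdeal ≤
          (PrimeSpectrum.comap (Ideal.Quotient.mk (P : PrimeSpectrum A).asIdeal) Q).asIdeal := by
        intro a ha
        rw [PrimeSpectrum.comap_asIdeal, Ideal.mem_comap, Ideal.Quotient.eq_zero_iff_mem.mpr ha]
        exact Q.asIdeal.zero_mem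
      have hsp : (P : PrimeSpectrum A) ⤳
          PrimeSpectrum.comap (Ideal.Quotient.mk (P : PrimeSpectrum A).asIdeal) Q :=
        (PrimeSpectrum.le_iff_specializes _ _).mp hle
      have hsp' : j.base P ⤳
          j.base (PrimeSpectrum.comap (Ideal.Quotient.mk (P : PrimeSpectrum A).asIdeal) Q) :=
        hsp.map j.continuous
      exact specializes_iff_mem_closure.mp hsp'
    have h1 : Topology.IsInducing
        (fun Q : PrimeSpectrum (A ⧸ (P : PrimeSpectrum A).asIdeal) =>
          (j.base (PrimeSpectrum.comap (Ideal.Quotient.mk (P : PrimeSpectrum A).asIdeal) Q) : X)) :=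
      j.isOpenEmbedding.isInducing.comp
        (PrimeSpectrum.isClosedEmbedding_comap_of_surjective _ _
          Ideal.Quotient.mk_surjective).isInducing
    have h2 : Topology.IsInducing
        (Set.codRestrict (fun Q : PrimeSpectrum (A ⧸ (P : PrimeSpectrum A).asIdeal) =>
          (j.base (PrimeSpectrum.comap (Ideal.Quotient.mk (P : PrimeSpectrum A).asIdeal) Q) : X))
          (closure ({j.base P} : Set X)) hmem) :=
      h1.codRestrict _
    exact h2.topologicalKrullDim_le

/-- A dominant morphism to an irreducible variety is dominated by an irreducible closed subset of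
the source of the same dimension as the target. -/
theorem exists_irreducible_closed_dominant {k : Type u} [Field k] {X Y : Scheme.{u}}
    (p : X ⟶ Spec (CommRingCat.of k)) (q : Y ⟶ Spec (CommRingCat.of k))
    [LocallyOfFiniteType p] [QuasiCompact p] [LocallyOfFiniteType q] [QuasiSeparated q]
    [IrreducibleSpace Y] (f : X ⟶ Y) (hf : f ≫ q = p) [IsDominant f] :
    ∃ Z : Set X, IsClosed Z ∧ IsIrreducible Z ∧
      topologicalKrullDim ↥Z = topologicalKrullDim Y ∧ Dense (f '' Z) := by
  haveI : QuasiCompact (f ≫ q) := by rw [hf]; infer_instance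
  haveI : LocallyOfFiniteType (f ≫ q) := by rw [hf]; infer_instance
  haveI : QuasiCompact f := QuasiCompact.of_comp f q
  haveI : LocallyOfFiniteType f := locallyOfFiniteType_of_comp f q
  obtain ⟨x₀, hx₀⟩ := exists_specializes_of_denseRange f f.denseRange (genericPoint Y)
  have hgen : ∀ y : Y, f.base x₀ ⤳ y := fun y =>
    hx₀.trans ((genericPoint_spec Y).specializes trivial)
  obtain ⟨z', -, hz'⟩ := (isClosed_univ (X := f.fiber (f.base x₀))).exists_closed_singleton
    ⟨f.asFiber x₀, trivial⟩
  have hz0 : tdeg (fiberQ f (f.base x₀)) z' = 0 :=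
    tdeg_eq_zero_of_isClosed (fiberQ f (f.base x₀)) z' hz'
  have htr := trdeg_fiber_eq f (f.base x₀) z'
  rw [hz0, Nat.cast_zero] at htr
  have hfz : f.base (f.fiberι (f.base x₀) z') = f.base x₀ := fiberι_mem f (f.base x₀) z'
  have htd : tdeg p (f.fiberι (f.base x₀) z') = tdeg q (f.base x₀) := by
    have h := tdeg_eq_of_trdeg_zero p q f hf (f.fiberι (f.base x₀) z') htr
    rw [h, hfz]
  have hdimY : topologicalKrullDim Y = (tdeg q (f.base x₀) : WithBot ℕ∞) := by
    apply le_antisymm
    · exact topologicalKrullDim_le_of_forall_tdeg_le q (tdeg q (f.base x₀))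
        (fun y => tdeg_le_of_specializes q (hgen y))
    · have h1 := topologicalKrullDim_closure_singleton q (f.base x₀)
      rw [← h1]
      exact topologicalKrullDim_subspace_le Y _
  refine ⟨closure {f.fiberι (f.base x₀) z'}, isClosed_closure, isIrreducible_singleton.closure,
    ?_, ?_⟩
  · rw [topologicalKrullDim_closure_singleton p, htd, hdimY]
  · have hd : Dense ({f.base x₀} : Set Y) := by
      rw [dense_iff_closure_eq]
      exact Set.eq_univ_of_forall fun y => specializes_iff_mem_closure.mp (hgen y)
    refine hd.mono (Set.singleton_subset_iff.mpr ?_)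
    exact ⟨f.fiberι (f.base x₀) z', subset_closure (Set.mem_singleton _), hfz⟩

end Groth.Agent.H54
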