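import Mathlib
import Groth.Agent.H54.DimClosure
import Groth.Agent.H54.AffineDim
import Groth.Agent.H9.LocalDimField

/-!
# A lower bound for fibre dimensions (Krull's height theorem in charts)
-/

set_option autoImplicit false
universe u

open CategoryTheory CategoryTheory.Limits AlgebraicGeometry

namespace Groth.Agent.H54

/-- Ring-level lower semicontinuity of fibre dimension: for finitely generated algebras over a field,
a prime `P` of `B` inside a maximal ideal `M`, there is a prime `Q ⊇ P` of `B` lying over (a prime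
containing) the contraction of `M` with `dim B/P ≤ dim A/(P ∩ A) + dim B/Q`. -/
theorem exists_prime_fibre_dim (k : Type u) [Field k] (A B : Type u) [CommRing A] [CommRing B]
    [Algebra k A] [Algebra k B] [Algebra.FiniteType k A] [Algebra.FiniteType k B]
    (φ : A →+* B) (P M : Ideal B) [P.IsPrime] [hMmax : M.IsMaximal] (hPM : P ≤ M) :
    ∃ Q : Ideal B, Q.IsPrime ∧ P ≤ Q ∧ M.comap φ ≤ Q.comap φ ∧
      ringKrullDim (B ⧸ P) ≤ ringKrullDim (A ⧸ P.comap φ) + ringKrullDim (B ⧸ Q) := by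
  classical
  haveI : IsNoetherianRing A := Algebra.FiniteType.isNoetherianRing k A
  haveI : IsNoetherianRing B := Algebra.FiniteType.isNoetherianRing k B
  haveI : (P.comap φ).IsPrime := Ideal.comap_isPrime φ P
  haveI : Algebra.FiniteType k (B ⧸ P) :=
    Algebra.FiniteType.of_surjective (Ideal.Quotient.mkₐ k P) (Ideal.Quotient.mkₐ_surjective k P)
  let φ' : A ⧸ P.comap φ →+* B ⧸ P := Ideal.quotientMap P φ le_rfl
  letI : Algebra (A ⧸ P.comap φ) (B ⧸ P) := φ'.toAlgebra
  obtain ⟨M', hM'def⟩ : ∃ M' : Ideal (B ⧸ P), M' = M.map (Ideal.Quotient.mk P) := ⟨_, rfl⟩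
  have hcomapM' : M'.comap (Ideal.Quotient.mk P) = M := by
    rw [hM'def, Ideal.comap_map_of_surjective _ Ideal.Quotient.mk_surjective,
      ← RingHom.ker_eq_comap_bot, Ideal.mk_ker]
    exact sup_eq_left.mpr hPM
  haveI hM'max : M'.IsMaximal := by
    rcases Ideal.map_eq_top_or_isMaximal_of_surjective (Ideal.Quotient.mk P)
      Ideal.Quotient.mk_surjective hMmax with h | h
    · exfalso
      have : M = ⊤ := by rw [← hcomapM', hM'def, h, Ideal.comap_top]
      exact hMmax.ne_top this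
    · rw [hM'def]; exact h
  obtain ⟨m', hm'def⟩ : ∃ m' : Ideal (A ⧸ P.comap φ), m' = M'.comap φ' := ⟨_, rfl⟩
  haveI : m'.IsPrime := by rw [hm'def]; exact Ideal.comap_isPrime φ' M'
  haveI : M'.LiesOver m' := ⟨hm'def⟩
  have h1 := Ideal.height_le_height_add_of_liesOver m' M'
  obtain ⟨J, hJdef⟩ : ∃ J : Ideal (B ⧸ P), J = m'.map (algebraMap (A ⧸ P.comap φ) (B ⧸ P)) :=
    ⟨_, rfl⟩
  rw [← hJdef] at h1
  have hJM' : J ≤ M' := by
    rw [hJdef, hm'def]
    exact Ideal.map_comap_le (f := φ') (K := M')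
  obtain ⟨M'', hM''def⟩ : ∃ M'' : Ideal ((B ⧸ P) ⧸ J), M'' = M'.map (Ideal.Quotient.mk J) :=
    ⟨_, rfl⟩
  rw [← hM''def] at h1
  haveI hM''prime : M''.IsPrime := by
    rw [hM''def]
    exact Ideal.map_isPrime_of_surjective Ideal.Quotient.mk_surjective
      (by rw [Ideal.mk_ker]; exact hJM')
  have hfin : M''.height ≠ ⊤ := Ideal.height_ne_top_of_isPrime
  obtain ⟨n, hn⟩ : ∃ n : ℕ, M''.height = n := ⟨_, (ENat.natCast_toNat hfin).symm⟩
  have hn' : (n : ℕ∞) ≤ Order.height (⟨M'', hM''prime⟩ : PrimeSpectrum ((B ⧸ P) ⧸ J)) := by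
    rw [← PrimeSpectrum.height_eq_orderHeight]
    exact hn.ge
  obtain ⟨p, hp1, hp2⟩ := Order.exists_series_of_le_height _ hn'
  obtain ⟨π, hπdef⟩ : ∃ π : B →+* (B ⧸ P) ⧸ J,
      π = (Ideal.Quotient.mk J).comp (Ideal.Quotient.mk P) := ⟨_, rfl⟩
  have hπ : Function.Surjective π := by
    rw [hπdef]
    exact Ideal.Quotient.mk_surjective.comp Ideal.Quotient.mk_surjective
  have hπapp : ∀ b : B, π b = Ideal.Quotient.mk J (Ideal.Quotient.mk P b) := by
    intro b; rw [hπdef]; rfl
  refine ⟨p.head.asIdeal.comap π, Ideal.comap_isPrime π p.head.asIdeal, ?_, ?_, ?_⟩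
  · intro b hb
    rw [Ideal.mem_comap, hπapp, Ideal.Quotient.eq_zero_iff_mem.mpr hb, map_zero]
    exact p.head.asIdeal.zero_mem
  · intro a ha
    have ha' : φ a ∈ M := ha
    rw [Ideal.mem_comap, Ideal.mem_comap, hπapp]
    have e0 : φ' (Ideal.Quotient.mk (P.comap φ) a) = Ideal.Quotient.mk P (φ a) :=
      Ideal.quotientMap_mk
    have h2 : Ideal.Quotient.mk (P.comap φ) a ∈ m' := by
      rw [hm'def, Ideal.mem_comap, e0, hM'def]
      exact Ideal.mem_map_of_mem _ ha'
    have h3 : Ideal.Quotient.mk P (φ a) ∈ J := by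
      have h4 : φ' (Ideal.Quotient.mk (P.comap φ) a) ∈ Ideal.map φ' m' :=
        Ideal.mem_map_of_mem φ' h2
      rw [e0] at h4
      rw [hJdef]
      exact h4
    rw [Ideal.Quotient.eq_zero_iff_mem.mpr h3]
    exact p.head.asIdeal.zero_mem
  · have e1 : (M'.height : WithBot ℕ∞) = ringKrullDim (B ⧸ P) :=
      height_eq_ringKrullDim_of_isMaximal k (B ⧸ P) M'
    have e2 : (m'.height : WithBot ℕ∞) ≤ ringKrullDim (A ⧸ P.comap φ) :=
      Ideal.height_le_ringKrullDim_of_ne_top Ideal.IsPrime.ne_top'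
    have e3 : ((n : ℕ∞) : WithBot ℕ∞) ≤ ringKrullDim (B ⧸ p.head.asIdeal.comap π) := by
      have hstrict : StrictMono (PrimeSpectrum.comap π) := by
        intro a b hab
        refine lt_of_le_of_ne ?_ ?_
        · show Ideal.comap π a.asIdeal ≤ Ideal.comap π b.asIdeal
          exact Ideal.comap_mono hab.le
        · intro h
          exact hab.ne (PrimeSpectrum.comap_injective_of_surjective π hπ h)
      have h5 := Order.coheight_le_coheight_apply_of_strictMono _ hstrict p.head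
      have h6 : (p.length : ℕ∞) ≤ Order.coheight p.head := Order.length_le_coheight_head
      have h7 : ringKrullDim (B ⧸ p.head.asIdeal.comap π) =
          ((Order.coheight (PrimeSpectrum.comap π p.head) : ℕ∞) : WithBot ℕ∞) :=
        Groth.Agent.H9.LocalDimField.ringKrullDim_quotient_eq_coheight
          (PrimeSpectrum.comap π p.head)
      rw [h7, hp2] at *
      exact WithBot.coe_le_coe.mpr (h6.trans h5)
    calc ringKrullDim (B ⧸ P) = (M'.height : WithBot ℕ∞) := e1.symm
      _ ≤ ((m'.height + M''.height : ℕ∞) : WithBot ℕ∞) := WithBot.coe_le_coe.mpr h1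
      _ = (m'.height : WithBot ℕ∞) + ((n : ℕ∞) : WithBot ℕ∞) := by rw [hn, WithBot.coe_add]
      _ ≤ _ := add_le_add e2 e3

/-- A point whose residue field is algebraic over the base field is closed. -/
theorem isClosed_of_tdeg_eq_zero {k : Type u} [Field k] {X : Scheme.{u}}
    (s : X ⟶ Spec (CommRingCat.of k)) [LocallyOfFiniteType s] (x : X) (h : tdeg s x = 0) :
    IsClosed ({x} : Set X) := by
  apply isClosed_of_closure_subset
  intro z hz
  have hsp : x ⤳ z := specializes_iff_mem_closure.mpr hz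
  by_contra hne
  have hlt : tdeg s z < tdeg s x :=
    tdeg_lt_of_specializes s hsp (fun h' => hne (Set.mem_singleton_iff.mpr h'.symm))
  omega

/-- Images of closed points are closed, for morphisms of schemes locally of finite type over a
field. -/
theorem isClosed_image_of_isClosed {k : Type u} [Field k] {X Y : Scheme.{u}}
    (qX : X ⟶ Spec (CommRingCat.of k)) (qY : Y ⟶ Spec (CommRingCat.of k))
    [LocallyOfFiniteType qX] [LocallyOfFiniteType qY] (f : X ⟶ Y) (hf : f ≫ qY = qX)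
    (x : X) (hx : IsClosed ({x} : Set X)) : IsClosed ({f.base x} : Set Y) := by
  apply isClosed_of_tdeg_eq_zero qY
  have h1 : tdeg qY (f.base x) ≤ tdeg qX x := tdeg_le_of_hom qY qX f hf x
  have h2 := tdeg_eq_zero_of_isClosed qX x hx
  omega

/-- Lower semicontinuity of fibre dimension in terms of residue fields: below any point `ξ` and
above... a closed point `x`, there is a point of the fibre through `x` whose residue field has
transcendence degree at least `tdeg ξ - tdeg (f ξ)`. -/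
theorem exists_point_fibre_tdeg {k : Type u} [Field k] {X Y : Scheme.{u}}
    (qX : X ⟶ Spec (CommRingCat.of k)) (qY : Y ⟶ Spec (CommRingCat.of k))
    [LocallyOfFiniteType qX] [LocallyOfFiniteType qY] (f : X ⟶ Y)
    (ξ x : X) (hsp : ξ ⤳ x) (hx : IsClosed ({x} : Set X)) :
    ∃ x₁ : X, ξ ⤳ x₁ ∧ f.base x ⤳ f.base x₁ ∧
      tdeg qX ξ ≤ tdeg qY (f.base ξ) + tdeg qX x₁ := by
  obtain ⟨A, jA, hjA, ψA, hψA, hftA, ⟨MA, hMA⟩, -⟩ := exists_chart qY (f.base x) ⊤ trivial
  obtain ⟨B, jB, hjB, ψB, hψB, hftB, ⟨M, hM⟩, hsub⟩ :=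
    exists_chart qX x (f ⁻¹ᵁ jA.opensRange) ⟨MA, hMA⟩
  have hM' : jB.base M = x := hM
  have hrange : Set.range (jB ≫ f).base ⊆ Set.range jA.base := by
    rintro _ ⟨T, rfl⟩
    exact hsub ⟨T, rfl⟩
  obtain ⟨g, hg⟩ : ∃ g : Spec B ⟶ Spec A, g ≫ jA = jB ≫ f :=
    ⟨IsOpenImmersion.lift jA (jB ≫ f) hrange, IsOpenImmersion.lift_fac _ _ _⟩
  obtain ⟨φ, hφ⟩ : ∃ φ : A ⟶ B, Spec.map φ = g := ⟨Spec.preimage g, Spec.map_preimage g⟩
  have hfj : ∀ T : Spec B, f.base (jB.base T) = jA.base (PrimeSpectrum.comap φ.hom T) := by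
    intro T
    have h := congrArg (fun h => h.base T) hg
    rw [← hφ] at h
    exact h.symm
  have hξr : ξ ∈ Set.range jB := hsp.mem_open jB.isOpenEmbedding.isOpen_range ⟨M, hM⟩
  obtain ⟨P, hP⟩ := hξr
  have hP' : jB.base P = ξ := hP
  have hPM : P ⤳ M :=
    jB.isOpenEmbedding.isInducing.specializes_iff.mp (by rw [hP, hM]; exact hsp)
  have hle : (P : PrimeSpectrum B).asIdeal ≤ (M : PrimeSpectrum B).asIdeal :=
    (PrimeSpectrum.le_iff_specializes (P : PrimeSpectrum B) (M : PrimeSpectrum B)).mpr hPM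
  have hclM : IsClosed ({M} : Set (Spec B)) := by
    have : ({M} : Set (Spec B)) = jB.base ⁻¹' {x} := by
      ext T
      simp only [Set.mem_singleton_iff, Set.mem_preimage]
      constructor
      · intro h; rw [h, hM']
      · intro h; exact jB.isOpenEmbedding.injective (h.trans hM'.symm)
    rw [this]
    exact hx.preimage jB.continuous
  haveI hmax : (M : PrimeSpectrum B).asIdeal.IsMaximal :=
    (PrimeSpectrum.isClosed_singleton_iff_isMaximal _).mp hclM
  letI := ψA.hom.toAlgebra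
  letI := ψB.hom.toAlgebra
  haveI : Algebra.FiniteType k A := hftA
  haveI : Algebra.FiniteType k B := hftB
  obtain ⟨Q, hQprime, hPQ, hMQ, hdim⟩ := exists_prime_fibre_dim k A B φ.hom
    (P : PrimeSpectrum B).asIdeal (M : PrimeSpectrum B).asIdeal hle
  refine ⟨jB.base ⟨Q, hQprime⟩, ?_, ?_, ?_⟩
  · have h1 : P ⤳ (⟨Q, hQprime⟩ : PrimeSpectrum B) :=
      (PrimeSpectrum.le_iff_specializes (P : PrimeSpectrum B) ⟨Q, hQprime⟩).mp hPQ
    have h2 := h1.map jB.continuous
    rw [← hP']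
    exact h2
  · rw [← hM', hfj, hfj]
    have h1 : PrimeSpectrum.comap φ.hom M ⤳ PrimeSpectrum.comap φ.hom ⟨Q, hQprime⟩ :=
      (PrimeSpectrum.le_iff_specializes _ _).mp hMQ
    exact h1.map jA.continuous
  · have hB1 : ringKrullDim (B ⧸ (P : PrimeSpectrum B).asIdeal) =
        (tdeg qX (jB.base P) : WithBot ℕ∞) :=
      ringKrullDim_quotient_chart qX jB ψB hψB hftB P
    have hB2 : ringKrullDim (B ⧸ Q) = (tdeg qX (jB.base ⟨Q, hQprime⟩) : WithBot ℕ∞) :=
      ringKrullDim_quotient_chart qX jB ψB hψB hftB ⟨Q, hQprime⟩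
    have hA1 : ringKrullDim (A ⧸ (P : PrimeSpectrum B).asIdeal.comap φ.hom) =
        (tdeg qY (jA.base (PrimeSpectrum.comap φ.hom P)) : WithBot ℕ∞) :=
      ringKrullDim_quotient_chart qY jA ψA hψA hftA (PrimeSpectrum.comap φ.hom P)
    rw [hB1, hB2, hA1, ← hfj, hP'] at hdim
    exact_mod_cast hdim

end Groth.Agent.H54
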