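import Mathlib
import Groth.Agent.H54.FibreKrull
import Groth.Agent.H9.FibDimTop

/-!
# Fibre dimension at a point in terms of transcendence degrees
-/

set_option autoImplicit false
universe u

open CategoryTheory CategoryTheory.Limits AlgebraicGeometry

namespace Groth.Agent.H54

/-- Additivity of transcendence degrees of residue fields along a morphism of `k`-schemes. -/
theorem tdeg_eq_add_of_trdeg {k : Type u} [Field k] {X Y : Scheme.{u}}
    (p : X ⟶ Spec (CommRingCat.of k)) (q : Y ⟶ Spec (CommRingCat.of k))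
    [LocallyOfFiniteType p] [LocallyOfFiniteType q] (f : X ⟶ Y) (hf : f ≫ q = p) (z : X) (n : ℕ)
    (h0 : @Algebra.trdeg (Y.residueField (f.base z)) (X.residueField z) _ _
        (f.residueFieldMap z).hom.toAlgebra = (n : Cardinal.{u})) :
    tdeg p z = tdeg q (f.base z) + n := by
  letI := (resMapOf q (f.base z)).toAlgebra
  letI := (resMapOf p z).toAlgebra
  letI := (f.residueFieldMap z).hom.toAlgebra
  haveI : IsScalarTower k (Y.residueField (f.base z)) (X.residueField z) := by
    refine IsScalarTower.of_algebraMap_eq fun c => ?_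
    exact (congrArg (fun φ => φ.hom c) (resMapOf_comp_residueFieldMap q p f hf z)).symm
  have h1 := trdeg_add_eq k (Y.residueField (f.base z)) (A := X.residueField z)
  have h0' : Algebra.trdeg (Y.residueField (f.base z)) (X.residueField z) = (n : Cardinal.{u}) := h0
  rw [tdeg_spec q (f.base z), tdeg_spec p z, h0'] at h1
  exact_mod_cast h1.symm

/-- Additivity of transcendence degrees for a point of a fibre. -/
theorem tdeg_fibre_add {k : Type u} [Field k] {X Y : Scheme.{u}}
    (p : X ⟶ Spec (CommRingCat.of k)) (q : Y ⟶ Spec (CommRingCat.of k))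
    [LocallyOfFiniteType p] [LocallyOfFiniteType q] (f : X ⟶ Y) [LocallyOfFiniteType f]
    (hf : f ≫ q = p) (y : Y) (z' : f.fiber y) :
    tdeg p (f.fiberι y z') = tdeg q (f.base (f.fiberι y z')) + tdeg (fiberQ f y) z' :=
  tdeg_eq_add_of_trdeg p q f hf (f.fiberι y z') _ (trdeg_fiber_eq f y z')

/-- The fibre dimension at a point, in terms of the fibre as a scheme over the residue field. -/
theorem fibreDimAt_eq {X Y : Scheme.{u}} (f : X ⟶ Y) [LocallyOfFiniteType f] (x : X) (b : ℕ)
    (hb : Order.coheight (f.asFiber x) = b) :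
    FlatMor.fibreDimAt f x =
      ((tdeg (fiberQ f (f.base x)) (f.asFiber x) + b : ℕ) : WithBot ℕ∞) := by
  unfold FlatMor.fibreDimAt
  exact localDim_eq (fiberQ f (f.base x)) (f.asFiber x) b hb

/-- The fibre dimension at a point is at least the relative transcendence degree of the residue
field. -/
theorem tdeg_sub_le_fibreDimAt {k : Type u} [Field k] {X Y : Scheme.{u}}
    (p : X ⟶ Spec (CommRingCat.of k)) (q : Y ⟶ Spec (CommRingCat.of k))
    [LocallyOfFiniteType p] [LocallyOfFiniteType q] (f : X ⟶ Y) [LocallyOfFiniteType f]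
    (hf : f ≫ q = p) (x : X) :
    ((tdeg p x - tdeg q (f.base x) : ℕ) : WithBot ℕ∞) ≤ FlatMor.fibreDimAt f x := by
  obtain ⟨b, hb⟩ : ∃ b : ℕ, Order.coheight (f.asFiber x) = b :=
    ⟨_, (ENat.natCast_toNat (coheight_ne_top (fiberQ f (f.base x)) (f.asFiber x))).symm⟩
  rw [fibreDimAt_eq f x b hb]
  have h1 := tdeg_fibre_add p q f hf (f.base x) (f.asFiber x)
  rw [f.fiberι_asFiber x] at h1
  have h2 : tdeg p x - tdeg q (f.base x) ≤ tdeg (fiberQ f (f.base x)) (f.asFiber x) + b := by
    omega
  exact_mod_cast h2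

/-- At the generic point of an irreducible component of the source, the fibre dimension is the
relative transcendence degree of the residue field. -/
theorem fibreDimAt_generic {k : Type u} [Field k] {X Y : Scheme.{u}}
    (p : X ⟶ Spec (CommRingCat.of k)) (q : Y ⟶ Spec (CommRingCat.of k))
    [LocallyOfFiniteType p] [LocallyOfFiniteType q] (f : X ⟶ Y) [LocallyOfFiniteType f]
    (hf : f ≫ q = p) (ξ : X) (hξ : closure ({ξ} : Set X) ∈ irreducibleComponents (X : Type u)) :
    FlatMor.fibreDimAt f ξ = ((tdeg p ξ - tdeg q (f.base ξ) : ℕ) : WithBot ℕ∞) := by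
  have hmax : IsMax (f.asFiber ξ) := by
    intro z' hz'
    have hz'' : z' ⤳ f.asFiber ξ := hz'
    have h1 : (f.fiberι (f.base ξ)).base z' ⤳ (f.fiberι (f.base ξ)).base (f.asFiber ξ) :=
      hz''.map (f.fiberι (f.base ξ)).continuous
    rw [f.fiberι_asFiber ξ] at h1
    have h2 := eq_of_specializes_generic hξ h1
    have h3 : z' = f.asFiber ξ :=
      (f.fiberι (f.base ξ)).isEmbedding.injective (h2.trans (f.fiberι_asFiber ξ).symm)
    rw [h3]
  have hb : Order.coheight (f.asFiber ξ) = ((0 : ℕ) : ℕ∞) := by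
    rw [Nat.cast_zero]; exact Order.coheight_eq_zero.mpr hmax
  rw [fibreDimAt_eq f ξ 0 hb]
  have h1 := tdeg_fibre_add p q f hf (f.base ξ) (f.asFiber ξ)
  rw [f.fiberι_asFiber ξ] at h1
  have h2 : tdeg (fiberQ f (f.base ξ)) (f.asFiber ξ) + 0 = tdeg p ξ - tdeg q (f.base ξ) := by
    omega
  rw [h2]

end Groth.Agent.H54
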