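import Mathlib
import Groth.Agent.H54.SchemeDim
import Groth.Agent.H54.SchemeDim2
import Groth.Agent.H54.AffineDim2
import Groth.Agent.H54.DimClosure

/-!
# Dimension of locally closed subspaces of varieties and Krull's bound for preimages of
regularly immersed subschemes
-/

set_option autoImplicit false
universe u

open CategoryTheory CategoryTheory.Limits AlgebraicGeometry TopologicalSpace Topology

namespace Groth.Agent.H54

/-- Locally closed subspaces of quasi-sober spaces are quasi-sober. -/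
theorem quasiSober_of_isLocallyClosed {X : Type*} [TopologicalSpace X] [QuasiSober X]
    {s : Set X} (hs : IsLocallyClosed s) : QuasiSober ↥s := by
  obtain ⟨U, Z, hU, hZ, rfl⟩ := hs
  haveI : QuasiSober ↥Z := hZ.isClosedEmbedding_subtypeVal.quasiSober
  let f : ↥(U ∩ Z) → ↥Z := fun x => ⟨x.1, x.2.2⟩
  have hf : IsOpenEmbedding f := by
    refine ⟨?_, ?_⟩
    · refine IsEmbedding.of_comp (f := f) (g := Subtype.val) ?_ continuous_subtype_val ?_
      · exact Continuous.subtype_mk continuous_subtype_val _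
      · exact IsEmbedding.subtypeVal
    · have : Set.range f = Subtype.val ⁻¹' U := by
        ext z
        constructor
        · rintro ⟨x, rfl⟩
          exact x.2.1
        · intro hz
          exact ⟨⟨z.1, hz, z.2⟩, rfl⟩
      rw [this]
      exact hU.preimage continuous_subtype_val
  exact hf.quasiSober

/-- Upper bound for the dimension of a quasi-sober subspace of a variety in terms of the
transcendence degrees of its points. -/
theorem dim_add_le_of_embedding {k : Type u} [Field k] {X : Scheme.{u}}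
    (s : X ⟶ Spec (CommRingCat.of k)) [LocallyOfFiniteType s] {A : Type*} [TopologicalSpace A]
    [QuasiSober A] (e : A → X) (he : IsEmbedding e) (n c : ℕ)
    (h : ∀ a : A, tdeg s (e a) + c ≤ n) :
    topologicalKrullDim A + (c : WithBot ℕ∞) ≤ (n : WithBot ℕ∞) := by
  classical
  rcases isEmpty_or_nonempty A with hA | ⟨⟨a₀⟩⟩
  · have hbot : topologicalKrullDim A = ⊥ := by
      unfold topologicalKrullDim
      haveI : IsEmpty (IrreducibleCloseds A) :=
        ⟨fun Z => hA.elim Z.isIrreducible.nonempty.some⟩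
      exact Order.krullDim_eq_bot
    rw [hbot, WithBot.bot_add]
    exact bot_le
  · have hcn : c ≤ n := le_trans (Nat.le_add_left _ _) (h a₀)
    obtain ⟨m, hm⟩ : ∃ m : ℕ, m + c = n := ⟨n - c, Nat.sub_add_cancel hcn⟩
    have hdim : topologicalKrullDim A ≤ (m : WithBot ℕ∞) := by
      let g : IrreducibleCloseds A → ℕ := fun Z => tdeg s (e Z.isIrreducible.genericPoint)
      have hgen : ∀ Z : IrreducibleCloseds A,
          closure ({Z.isIrreducible.genericPoint} : Set A) = (Z : Set A) :=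
        fun Z => Z.isIrreducible.closure_genericPoint Z.isClosed
      have hg : StrictMono g := by
        intro Z Z' hlt
        have hsub : (Z : Set A) ⊆ (Z' : Set A) := hlt.le
        have hmem : Z.isIrreducible.genericPoint ∈ (Z' : Set A) :=
          hsub ((hgen Z).subset (subset_closure rfl))
        have hsp : Z'.isIrreducible.genericPoint ⤳ Z.isIrreducible.genericPoint :=
          specializes_iff_mem_closure.mpr ((hgen Z').symm.subset hmem)
        have hne : Z'.isIrreducible.genericPoint ≠ Z.isIrreducible.genericPoint := by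
          intro heq
          apply hlt.ne
          apply IrreducibleCloseds.ext
          exact (hgen Z).symm.trans
            ((congrArg (fun y => closure ({y} : Set A)) heq.symm).trans (hgen Z'))
        exact tdeg_lt_of_specializes s (hsp.map he.continuous) (fun h => hne (he.injective h))
      unfold topologicalKrullDim
      rw [Order.krullDim]
      apply iSup_le
      intro p
      have h1 := LTSeries.head_add_length_le_nat (p.map g hg)
      have h2 : g p.last + c ≤ n := h _
      rw [LTSeries.last_map] at h1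
      have h3 : p.length ≤ m := by
        have : (p.map g hg).length = p.length := rfl
        omega
      exact_mod_cast h3
    calc topologicalKrullDim A + (c : WithBot ℕ∞)
        ≤ (m : WithBot ℕ∞) + (c : WithBot ℕ∞) := add_le_add hdim le_rfl
      _ = (n : WithBot ℕ∞) := by rw [← Nat.cast_add, hm]

/-- Lower bound: a point of a subspace which contains an open part of the closure of the point
has transcendence degree at most the dimension of the subspace. -/
theorem tdeg_le_dim_of_embedding {k : Type u} [Field k] {X : Scheme.{u}}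
    (s : X ⟶ Spec (CommRingCat.of k)) [LocallyOfFiniteType s] {A : Type*} [TopologicalSpace A]
    (e : A → X) (he : IsInducing e) (a : A) (U : X.Opens) (haU : e a ∈ U)
    (hU : closure ({e a} : Set X) ∩ (U : Set X) ⊆ Set.range e) :
    (tdeg s (e a) : WithBot ℕ∞) ≤ topologicalKrullDim A := by
  obtain ⟨B, j, hj, ψ, hψ, hft, ⟨P, hP⟩, hsub⟩ := exists_chart s (e a) U haU
  rw [← hP, ← ringKrullDim_quotient_chart s j ψ hψ hft P,
    ← PrimeSpectrum.topologicalKrullDim_eq_ringKrullDim]
  have hmem : ∀ Q : PrimeSpectrum (B ⧸ (P : PrimeSpectrum B).asIdeal),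
      j.base (PrimeSpectrum.comap (Ideal.Quotient.mk (P : PrimeSpectrum B).asIdeal) Q) ∈
        Set.range e := by
    intro Q
    apply hU
    refine ⟨?_, hsub ⟨_, rfl⟩⟩
    have hle : (P : PrimeSpectrum B).asIdeal ≤
        (PrimeSpectrum.comap (Ideal.Quotient.mk (P : PrimeSpectrum B).asIdeal) Q).asIdeal := by
      intro b hb
      rw [PrimeSpectrum.comap_asIdeal, Ideal.mem_comap, Ideal.Quotient.eq_zero_iff_mem.mpr hb]
      exact Q.asIdeal.zero_mem
    have hsp : (P : PrimeSpectrum B) ⤳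
        PrimeSpectrum.comap (Ideal.Quotient.mk (P : PrimeSpectrum B).asIdeal) Q :=
      (PrimeSpectrum.le_iff_specializes _ _).mp hle
    have hsp' : j.base P ⤳
        j.base (PrimeSpectrum.comap (Ideal.Quotient.mk (P : PrimeSpectrum B).asIdeal) Q) :=
      hsp.map j.continuous
    rw [hP] at hsp'
    exact specializes_iff_mem_closure.mp hsp'
  choose φ hφ using hmem
  have h1 : IsInducing
      (fun Q : PrimeSpectrum (B ⧸ (P : PrimeSpectrum B).asIdeal) =>
        (j.base (PrimeSpectrum.comap (Ideal.Quotient.mk (P : PrimeSpectrum B).asIdeal) Q) : X)) :=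
    j.isOpenEmbedding.isInducing.comp
      (PrimeSpectrum.isClosedEmbedding_comap_of_surjective _ _
        Ideal.Quotient.mk_surjective).isInducing
  have h2 : IsInducing φ := by
    rw [← he.of_comp_iff]
    have : e ∘ φ = fun Q : PrimeSpectrum (B ⧸ (P : PrimeSpectrum B).asIdeal) =>
        (j.base (PrimeSpectrum.comap (Ideal.Quotient.mk (P : PrimeSpectrum B).asIdeal) Q) : X) :=
      funext hφ
    rw [this]
    exact h1
  exact h2.topologicalKrullDim_le

/-- A point of a closed subset `Q` of a locally closed subspace `P ∩ T` of a variety has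
transcendence degree at most the dimension of `Q`. -/
theorem tdeg_le_dim_of_mem_closed {k : Type u} [Field k] {C : Scheme.{u}}
    (s : C ⟶ Spec (CommRingCat.of k)) [LocallyOfFiniteType s]
    (P T U₀ Z₀ : Set C) (hP : IsClosed P) (hU₀ : IsOpen U₀) (hZ₀ : IsClosed Z₀)
    (hT : T = U₀ ∩ Z₀) (Q : Set ↥(P ∩ T)) (hQ : IsClosed Q) (a : ↥(P ∩ T)) (ha : a ∈ Q) :
    (tdeg s (a : C) : WithBot ℕ∞) ≤ topologicalKrullDim ↥Q := by
  subst hT
  have he : IsInducing (fun b : ↥Q => ((b : ↥(P ∩ (U₀ ∩ Z₀))) : C)) :=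
    IsInducing.subtypeVal.comp IsInducing.subtypeVal
  refine tdeg_le_dim_of_embedding s _ he ⟨a, ha⟩ ⟨U₀, hU₀⟩ a.2.2.1 ?_
  rintro y ⟨hy1, hy2⟩
  have hsp : (a : C) ⤳ y := specializes_iff_mem_closure.mpr hy1
  have hyP : y ∈ P := hsp.mem_closed hP a.2.1
  have hyZ : y ∈ Z₀ := hsp.mem_closed hZ₀ a.2.2.2
  let y' : ↥(P ∩ (U₀ ∩ Z₀)) := ⟨y, hyP, hy2, hyZ⟩
  have hsp' : a ⤳ y' := (IsInducing.subtypeVal.specializes_iff (x := a) (y := y')).mp hsp
  exact ⟨⟨y', hsp'.mem_closed hQ ha⟩, rfl⟩

/-- Krull's height theorem in a finitely generated algebra over a field: if `p` is minimal over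
`p₀ + (g₁, …, g_c)`, then `dim B/p₀ ≤ dim B/p + c`. -/
theorem ringKrullDim_quotient_le_add_of_minimal (k : Type u) [Field k] (B : Type u) [CommRing B]
    [Algebra k B] [Algebra.FiniteType k B] (p₀ p : Ideal B) [hp₀ : p₀.IsPrime] [hp : p.IsPrime]
    (gs : List B) (c : ℕ) (hlen : gs.length ≤ c)
    (hmin : p ∈ (p₀ ⊔ Ideal.span {g | g ∈ gs}).minimalPrimes) :
    ringKrullDim (B ⧸ p₀) ≤ ringKrullDim (B ⧸ p) + (c : WithBot ℕ∞) := by
  classical
  have hmk : Function.Surjective (Ideal.Quotient.mk p₀) := Ideal.Quotient.mk_surjective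
  have hcomap : (Ideal.span (((gs.map (Ideal.Quotient.mk p₀)).toFinset : Finset (B ⧸ p₀)) :
      Set (B ⧸ p₀))).comap (Ideal.Quotient.mk p₀) = p₀ ⊔ Ideal.span {g | g ∈ gs} := by
    have hI : Ideal.span (((gs.map (Ideal.Quotient.mk p₀)).toFinset : Finset (B ⧸ p₀)) :
        Set (B ⧸ p₀)) = (Ideal.span {g | g ∈ gs}).map (Ideal.Quotient.mk p₀) := by
      rw [Ideal.map_span]
      congr 1
      ext a
      simp only [List.coe_toFinset, List.mem_map, Set.mem_ofPred_eq, Set.mem_image]
    rw [hI, Ideal.comap_map_of_surjective _ hmk, ← RingHom.ker_eq_comap_bot, Ideal.mk_ker,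
      sup_comm]
  rw [← hcomap, Ideal.comap_minimalPrimes_eq_of_surjective hmk] at hmin
  obtain ⟨J, hJ, hJp⟩ := hmin
  haveI hJprime : J.IsPrime := hJ.1.1
  haveI : IsNoetherianRing B := Algebra.FiniteType.isNoetherianRing k B
  have hht : J.height ≤ (c : ℕ∞) := by
    have h1 : J.height ≤ ((gs.map (Ideal.Quotient.mk p₀)).toFinset.card : ℕ∞) :=
      Ideal.height_le_card_of_mem_minimalPrimes_span_finset hJ
    have h2 : (gs.map (Ideal.Quotient.mk p₀)).toFinset.card ≤ c :=
      (List.toFinset_card_le _).trans (by rw [List.length_map]; exact hlen)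
    exact h1.trans (by exact_mod_cast h2)
  haveI : IsDomain (B ⧸ p₀) := Ideal.Quotient.isDomain p₀
  haveI : Algebra.FiniteType k (B ⧸ p₀) :=
    Algebra.FiniteType.of_surjective (Ideal.Quotient.mkₐ k p₀) (Ideal.Quotient.mkₐ_surjective k p₀)
  have hdim := height_add_ringKrullDim_quotient k (B ⧸ p₀) ⟨J, hJprime⟩
  have hq : ringKrullDim ((B ⧸ p₀) ⧸ J) ≤ ringKrullDim (B ⧸ p) := by
    let φ : B ⧸ p →+* (B ⧸ p₀) ⧸ J :=
      Ideal.Quotient.lift p ((Ideal.Quotient.mk J).comp (Ideal.Quotient.mk p₀)) (by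
        intro b hb
        rw [← hJp] at hb
        rw [RingHom.comp_apply]
        exact Ideal.Quotient.eq_zero_iff_mem.mpr hb)
    have hφ : Function.Surjective φ := by
      intro y
      obtain ⟨a', rfl⟩ := Ideal.Quotient.mk_surjective y
      obtain ⟨b, rfl⟩ := hmk a'
      exact ⟨Ideal.Quotient.mk p b, rfl⟩
    exact ringKrullDim_le_of_surjective φ hφ
  rw [← hdim, add_comm]
  exact add_le_add hq (by exact_mod_cast hht)

/-- Points of an affine open in the range of an immersion which is cut out there by a list of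
sections are exactly the common zeros of these sections. -/
theorem mem_range_iff_of_ker_eq {W X : Scheme.{u}} (ι : W ⟶ X) [QuasiCompact ι]
    (U : X.affineOpens) [IsClosedImmersion (ι ∣_ U.1)] (rs : List Γ(X, U.1))
    (hker : RingHom.ker (ι.app U.1).hom = Ideal.ofList rs) (x : X) (hx : x ∈ U.1) :
    x ∈ Set.range ι ↔ ∀ r ∈ rs, x ∉ X.basicOpen r := by
  have hsupp : x ∈ ι.ker.support ↔ ∀ r ∈ rs, x ∉ X.basicOpen r := by
    rw [Scheme.IdealSheafData.mem_support_iff_of_mem (U := U) hx, Scheme.Hom.ker_apply, hker]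
    change x ∈ X.zeroLocus (U := U.1) ((Ideal.span {r | r ∈ rs} : Ideal Γ(X, U.1)) : Set Γ(X, U.1)) ↔ _
    rw [Scheme.zeroLocus_span, Scheme.mem_zeroLocus_iff]
    rfl
  have hcl_iff : x ∈ ι.ker.support ↔ x ∈ closure (Set.range ι) := by
    rw [← SetLike.mem_coe, Scheme.Hom.support_ker]
  rw [← hsupp, hcl_iff]
  constructor
  · exact fun h => subset_closure h
  · intro hcl
    have hclosed : IsClosed (Set.range (ι ∣_ U.1)) := (ι ∣_ U.1).isClosedEmbedding.isClosed_range
    have hrange : Set.range (ι ∣_ U.1) = Subtype.val ⁻¹' Set.range ι := by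
      ext u
      constructor
      · rintro ⟨w, rfl⟩
        exact ⟨w.1, (morphismRestrict_base_coe ι U.1 w).symm⟩
      · rintro ⟨w, hw⟩
        have hwU : w ∈ ι ⁻¹ᵁ U.1 := by
          show ι w ∈ U.1
          rw [hw]
          exact u.2
        refine ⟨⟨w, hwU⟩, ?_⟩
        apply Subtype.ext
        rw [morphismRestrict_base_coe]
        exact hw
    rw [hrange] at hclosed
    obtain ⟨F, hF, hFeq⟩ := isClosed_induced_iff.mp hclosed
    have hsub : (U.1 : Set X) ∩ Set.range ι ⊆ F := by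
      rintro y ⟨hyU, hyr⟩
      exact (Set.ext_iff.mp hFeq ⟨y, hyU⟩).mpr hyr
    have hxF : x ∈ F := closure_minimal hsub hF (U.1.2.inter_closure ⟨hx, hcl⟩)
    exact (Set.ext_iff.mp hFeq ⟨x, hx⟩).mp hxF

/-- Krull's bound in an affine chart. -/
theorem tdeg_le_tdeg_add_chart {k : Type u} [Field k] {C : Scheme.{u}}
    (s : C ⟶ Spec (CommRingCat.of k)) [LocallyOfFiniteType s] {A : CommRingCat.{u}}
    (j : Spec A ⟶ C) [IsOpenImmersion j] (ψ : CommRingCat.of k ⟶ A) (hψ : Spec.map ψ = j ≫ s)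
    (hft : ψ.hom.FiniteType) (Pξ Px : Spec A) (gs : List A) (c : ℕ) (hlen : gs.length ≤ c)
    (hξx : j Pξ ⤳ j Px) (hx : ∀ g ∈ gs, g ∈ (Px : PrimeSpectrum A).asIdeal)
    (hmin : ∀ Q : Spec A, j Pξ ⤳ j Q → j Q ⤳ j Px →
      (∀ g ∈ gs, g ∈ (Q : PrimeSpectrum A).asIdeal) → Q = Px) :
    tdeg s (j Pξ) ≤ tdeg s (j Px) + c := by
  letI := ψ.hom.toAlgebra
  haveI : Algebra.FiniteType k A := hft
  have hspec : ∀ Q Q' : Spec A, j Q ⤳ j Q' ↔
      (Q : PrimeSpectrum A).asIdeal ≤ (Q' : PrimeSpectrum A).asIdeal := by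
    intro Q Q'
    exact (j.isOpenEmbedding.isInducing.specializes_iff).trans
      (PrimeSpectrum.le_iff_specializes (R := A) Q Q').symm
  have hRL := ringKrullDim_quotient_le_add_of_minimal k A (Pξ : PrimeSpectrum A).asIdeal
    (Px : PrimeSpectrum A).asIdeal gs c hlen ?_
  · rw [ringKrullDim_quotient_chart s j ψ hψ hft Pξ,
      ringKrullDim_quotient_chart s j ψ hψ hft Px] at hRL
    exact_mod_cast hRL
  · refine ⟨⟨inferInstance, sup_le ((hspec _ _).mp hξx) ?_⟩, ?_⟩
    · rw [Ideal.span_le]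
      intro g hg
      exact hx g hg
    · intro q hq hqle
      obtain ⟨hqprime, hqsup⟩ := hq
      let Q : Spec A := (⟨q, hqprime⟩ : PrimeSpectrum A)
      have h1 : j Pξ ⤳ j Q := (hspec Pξ Q).mpr (le_sup_left.trans hqsup)
      have h2 : j Q ⤳ j Px := (hspec Q Px).mpr hqle
      have h3 : ∀ g ∈ gs, g ∈ (Q : PrimeSpectrum A).asIdeal :=
        fun g hg => hqsup (Ideal.mem_sup_right (Ideal.subset_span hg))
      have h4 : Q = Px := hmin Q h1 h2 h3
      have h5 : (Px : PrimeSpectrum A).asIdeal = q := by rw [← h4]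
      exact h5.le

/-- Krull's bound for a point of the preimage of a regularly immersed subscheme: if `x` is a
generic point of a component of `closure {ξ} ∩ π⁻¹(W)`, then `tdeg ξ ≤ tdeg x + c`. -/
theorem tdeg_le_tdeg_add_of_minimal {k : Type u} [Field k] {C X W : Scheme.{u}}
    (s : C ⟶ Spec (CommRingCat.of k)) [LocallyOfFiniteType s] (π : C ⟶ X) (ι : W ⟶ X)
    [QuasiCompact ι] (U : X.affineOpens) [IsClosedImmersion (ι ∣_ U.1)] (rs : List Γ(X, U.1))
    (c : ℕ) (hlen : rs.length = c) (hker : RingHom.ker (ι.app U.1).hom = Ideal.ofList rs)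
    (ξ x : C) (hξx : ξ ⤳ x) (hxU : π x ∈ U.1) (hxT : π x ∈ Set.range ι)
    (hmin : ∀ y : C, ξ ⤳ y → y ⤳ x → π y ∈ Set.range ι → y = x) :
    tdeg s ξ ≤ tdeg s x + c := by
  classical
  obtain ⟨V, hV, hxV, hVU⟩ :=
    exists_isAffineOpen_mem_and_subset (X := C) (x := x) (U := π ⁻¹ᵁ U.1) hxU
  have hξV : ξ ∈ V := hξx.mem_open V.2 hxV
  have hVU' : V ≤ π ⁻¹ᵁ U.1 := fun y hy => hVU hy
  have hft : (Spec.preimage (hV.fromSpec ≫ s)).hom.FiniteType := by
    have h : LocallyOfFiniteType (Spec.map (Spec.preimage (hV.fromSpec ≫ s))) := by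
      rw [Spec.map_preimage]; infer_instance
    exact (HasRingHomProperty.Spec_iff (P := @LocallyOfFiniteType)).mp h
  have hrange : ∀ y : C, y ∈ V → ∃ P : Spec Γ(C, V), hV.fromSpec P = y := by
    intro y hy
    have : y ∈ Set.range hV.fromSpec := by rw [hV.range_fromSpec]; exact hy
    exact this
  obtain ⟨Px, hPx⟩ := hrange x hxV
  obtain ⟨Pξ, hPξ⟩ := hrange ξ hξV
  have hmemV : ∀ Q : Spec Γ(C, V), hV.fromSpec Q ∈ V := by
    intro Q
    have : hV.fromSpec Q ∈ Set.range hV.fromSpec := ⟨Q, rfl⟩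
    rw [hV.range_fromSpec] at this
    exact this
  have key : ∀ (Q : Spec Γ(C, V)) (r : Γ(X, U.1)),
      π.appLE U.1 V hVU' r ∈ (Q : PrimeSpectrum Γ(C, V)).asIdeal ↔
        π (hV.fromSpec Q) ∉ X.basicOpen r := by
    intro Q r
    have h0 : C.basicOpen (π.appLE U.1 V hVU' r) = V ⊓ π ⁻¹ᵁ X.basicOpen r :=
      Scheme.basicOpen_appLE π V U.1 hVU' r
    have h1 : hV.fromSpec Q ∈ C.basicOpen (π.appLE U.1 V hVU' r) ↔
        π (hV.fromSpec Q) ∈ X.basicOpen r := by
      rw [h0]
      exact ⟨fun h => h.2, fun h => ⟨hmemV Q, h⟩⟩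
    have h2 : hV.fromSpec Q ∈ C.basicOpen (π.appLE U.1 V hVU' r) ↔
        π.appLE U.1 V hVU' r ∉ (Q : PrimeSpectrum Γ(C, V)).asIdeal := by
      have h3 : hV.fromSpec ⁻¹ᵁ C.basicOpen (π.appLE U.1 V hVU' r) =
          PrimeSpectrum.basicOpen (π.appLE U.1 V hVU' r) := hV.fromSpec_preimage_basicOpen _
      have h4 : hV.fromSpec Q ∈ C.basicOpen (π.appLE U.1 V hVU' r) ↔
          Q ∈ hV.fromSpec ⁻¹ᵁ C.basicOpen (π.appLE U.1 V hVU' r) := Iff.rfl
      rw [h4, h3]
      exact PrimeSpectrum.mem_basicOpen _ _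
    rw [← h1, h2, not_not]
  have hgmem : ∀ Q : Spec Γ(C, V),
      (∀ g ∈ rs.map (fun r => π.appLE U.1 V hVU' r), g ∈ (Q : PrimeSpectrum Γ(C, V)).asIdeal) ↔
        π (hV.fromSpec Q) ∈ Set.range ι := by
    intro Q
    rw [mem_range_iff_of_ker_eq ι U rs hker (π (hV.fromSpec Q)) (hVU' (hmemV Q))]
    constructor
    · intro h r hr
      exact (key Q r).mp (h _ (List.mem_map.mpr ⟨r, hr, rfl⟩))
    · intro h g hg
      obtain ⟨r, hr, rfl⟩ := List.mem_map.mp hg
      exact (key Q r).mpr (h r hr)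
  have hmain := tdeg_le_tdeg_add_chart s hV.fromSpec (Spec.preimage (hV.fromSpec ≫ s))
    (Spec.map_preimage _) hft Pξ Px (rs.map (fun r => π.appLE U.1 V hVU' r)) c
    (by rw [List.length_map, hlen]) (by rw [hPξ, hPx]; exact hξx)
    ((hgmem Px).mpr (by rw [hPx]; exact hxT)) (by
      intro Q h1 h2 h3
      rw [hPξ] at h1
      rw [hPx] at h2
      have h4 : hV.fromSpec Q = x := hmin _ h1 h2 ((hgmem Q).mp h3)
      exact hV.fromSpec.isOpenEmbedding.injective (h4.trans hPx.symm))
  rw [hPξ, hPx] at hmain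
  exact hmain

end Groth.Agent.H54
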