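import Mathlib
import Groth.Prelude.Def_FlatMod2

/-!
# (LF-ISO) for helper57's S4819 squad: `FlatMod.IsFinLocFree` is invariant under isomorphism.
-/

set_option autoImplicit false
universe u
open AlgebraicGeometry CategoryTheory Limits TopologicalSpace

namespace Groth.Agent.H54.LF_ISO

theorem isFinLocFree_of_iso {Z : Scheme.{u}} {M N : Z.Modules} (e : M ≅ N)
    (h : FlatMod.IsFinLocFree M) : FlatMod.IsFinLocFree N := by
  intro x
  obtain ⟨U, n, hx, ⟨i⟩⟩ := h x
  exact ⟨U, n, hx, ⟨((Scheme.Modules.restrictFunctor U.ι).mapIso e).symm ≪≫ i⟩⟩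

theorem isFinLocFree_iff_of_iso {Z : Scheme.{u}} {M N : Z.Modules} (e : M ≅ N) :
    FlatMod.IsFinLocFree M ↔ FlatMod.IsFinLocFree N :=
  ⟨isFinLocFree_of_iso e, isFinLocFree_of_iso e.symm⟩

end Groth.Agent.H54.LF_ISO
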