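import Mathlib.AlgebraicGeometry.Fiber
import Mathlib.AlgebraicGeometry.Morphisms.Finite
import Mathlib.AlgebraicGeometry.Morphisms.Integral
import Mathlib.AlgebraicGeometry.Morphisms.ClosedImmersion
import Mathlib.AlgebraicGeometry.Morphisms.Proper
import Mathlib.RingTheory.LocalRing.Module
import Mathlib.RingTheory.Support

set_option autoImplicit false
universe u

namespace Groth.Agent.H54

open AlgebraicGeometry CategoryTheory Limits TensorProduct

/-- The scheme-theoretic fibre of `f` over `y` is empty or maps isomorphically to the residue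
field. -/
def FibCond {X Y : Scheme.{u}} (f : X ⟶ Y) (y : Y) : Prop :=
  IsEmpty (f.fiber y) ∨ IsIso (f.fiberToSpecResidueField y)

theorem exists_smul_eq_algebraMap_of_surjective {R S : Type u} [CommRing R] [CommRing S]
    [Algebra R S] [Module.Finite R S] (p : PrimeSpectrum R)
    (h : Function.Surjective
      (algebraMap p.asIdeal.ResidueField (p.asIdeal.ResidueField ⊗[R] S))) :
    ∃ a : R, a ∉ p.asIdeal ∧ ∀ b : S, ∃ c : R, a • b = algebraMap R S c := by
  classical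
  let N : Submodule R S := LinearMap.range (Algebra.linearMap R S)
  have hone : N.mkQ (1 : S) = 0 := by
    rw [Submodule.mkQ_apply, Submodule.Quotient.mk_eq_zero]
    exact ⟨1, by simp⟩
  have hz : ∀ z : p.asIdeal.ResidueField ⊗[R] (S ⧸ N), z = 0 := by
    intro z
    obtain ⟨w, rfl⟩ :=
      LinearMap.lTensor_surjective p.asIdeal.ResidueField (Submodule.mkQ_surjective N) z
    obtain ⟨k, rfl⟩ := h w
    rw [Algebra.TensorProduct.algebraMap_apply, LinearMap.lTensor_tmul, hone,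
      TensorProduct.tmul_zero]
  have hsub : Subsingleton (p.asIdeal.ResidueField ⊗[R] (S ⧸ N)) :=
    ⟨fun z w => by rw [hz z, hz w]⟩
  have hp : p ∉ Module.support R (S ⧸ N) := by
    rw [Module.mem_support_iff_nontrivial_residueField_tensorProduct,
      not_nontrivial_iff_subsingleton]
    exact hsub
  rw [Module.support_eq_zeroLocus, PrimeSpectrum.mem_zeroLocus, Set.not_subset] at hp
  obtain ⟨a, ha, hap⟩ := hp
  refine ⟨a, hap, fun b => ?_⟩
  have h0 : a • N.mkQ b = 0 := Module.mem_annihilator.mp ha _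
  rw [← map_smul, Submodule.mkQ_apply, Submodule.Quotient.mk_eq_zero] at h0
  obtain ⟨c, hc⟩ := h0
  exact ⟨c, hc.symm⟩

theorem isIso_of_isIso_SpecMap {R S : CommRingCat.{u}} (φ : R ⟶ S) (h : IsIso (Spec.map φ)) :
    IsIso φ := by
  have h1 : φ = (Scheme.ΓSpecIso R).inv ≫ (Spec.map φ).appTop ≫ (Scheme.ΓSpecIso S).hom := by
    rw [Scheme.ΓSpecIso_naturality, Iso.inv_hom_id_assoc]
  haveI : IsIso (Spec.map φ).appTop := inferInstanceAs (IsIso ((Spec.map φ).app ⊤))
  rw [h1]; infer_instance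

theorem exists_smul_eq_algebraMap_of_fibCond {R S : Type u} [CommRing R] [CommRing S]
    [Algebra R S] [Module.Finite R S] (p : PrimeSpectrum R)
    (h : FibCond (Spec.map (CommRingCat.ofHom (algebraMap R S))) p) :
    ∃ a : R, a ∉ p.asIdeal ∧ ∀ b : S, ∃ c : R, a • b = algebraMap R S c := by
  apply exists_smul_eq_algebraMap_of_surjective
  have e := Spec.fiberToSpecResidueFieldIso R S p
  rcases h with he | hi
  · haveI := he
    haveI : Subsingleton (p.asIdeal.Fiber S) := by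
      by_contra hn
      rw [not_subsingleton_iff_nontrivial] at hn
      obtain ⟨q⟩ := (PrimeSpectrum.nonempty_iff_nontrivial.mpr hn)
      exact he.false
        ((e.inv.left : Spec (CommRingCat.of (p.asIdeal.Fiber S)) ⟶
          (Spec.map (CommRingCat.ofHom (algebraMap R S))).fiber p) q)
    exact fun z => ⟨0, Subsingleton.elim _ _⟩
  · have h2 : IsIso (Spec.map (CommRingCat.ofHom
        (algebraMap p.asIdeal.ResidueField (p.asIdeal.Fiber S)))) :=
      (MorphismProperty.arrow_mk_iso_iff (MorphismProperty.isomorphisms Scheme) e).mp hi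
    have h3 := isIso_of_isIso_SpecMap _ h2
    exact ((ConcreteCategory.isIso_iff_bijective _).mp h3).2

theorem fibCond_iff_of_isPullback {P X Y Z : Scheme.{u}} {fst : P ⟶ X} {snd : P ⟶ Y}
    {f : X ⟶ Z} {g : Y ⟶ Z} (h : IsPullback fst snd f g) (y : Y)
    [IsIso (g.residueFieldMap y)] :
    FibCond snd y ↔ FibCond f (g y) := by
  obtain ⟨t, hp⟩ : ∃ t, IsPullback t (snd.fiberToSpecResidueField y)
      (f.fiberToSpecResidueField (g y)) (Spec.map (g.residueFieldMap y)) :=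
    ⟨_, isPullback_fiberToSpecResidueField_of_isPullback h y⟩
  haveI : IsIso (Spec.map (g.residueFieldMap y)) := inferInstance
  haveI ht : IsIso t := hp.isIso_fst_of_isIso
  have hw : t ≫ f.fiberToSpecResidueField (g y) =
      snd.fiberToSpecResidueField y ≫ Spec.map (g.residueFieldMap y) := hp.w
  constructor
  · rintro (he | hi)
    · left
      haveI := he
      exact ⟨fun z => IsEmpty.false ((inv t) z)⟩
    · right
      haveI := hi
      have : f.fiberToSpecResidueField (g y) =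
          inv t ≫ snd.fiberToSpecResidueField y ≫ Spec.map (g.residueFieldMap y) := by
        rw [← hw, IsIso.inv_hom_id_assoc]
      rw [this]; infer_instance
  · rintro (he | hi)
    · left
      haveI := he
      exact ⟨fun z => IsEmpty.false (t z)⟩
    · right
      haveI := hi
      have : snd.fiberToSpecResidueField y =
          t ≫ f.fiberToSpecResidueField (g y) ≫ inv (Spec.map (g.residueFieldMap y)) := by
        rw [← Category.assoc, hw, Category.assoc, IsIso.hom_inv_id, Category.comp_id]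
      rw [this]; infer_instance

theorem fibCond_of_isClosedImmersion' {X Y : Scheme.{u}} (g : X ⟶ Y) [IsClosedImmersion g]
    (y : Y) : FibCond g y := by
  by_cases he : IsEmpty (g.fiber y)
  · exact Or.inl he
  · right
    haveI : Nonempty (g.fiber y) := not_isEmpty_iff.mp he
    haveI : IsClosedImmersion (g.fiberToSpecResidueField y) :=
      inferInstanceAs (IsClosedImmersion (pullback.snd g (Y.fromSpecResidueField y)))
    haveI : Surjective (g.fiberToSpecResidueField y) := ⟨fun z => by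
      obtain ⟨w⟩ := ‹Nonempty (g.fiber y)›
      exact ⟨w, Subsingleton.elim (α := PrimeSpectrum _) _ _⟩⟩
    exact isIso_of_isClosedImmersion_of_surjective _

theorem fibCond_of_isClosedImmersion {X Y : Scheme.{u}} (f : X ⟶ Y) (y : Y) (U : Y.Opens)
    (hy : y ∈ U) [IsClosedImmersion (f ∣_ U)] : FibCond f y :=
  (fibCond_iff_of_isPullback (isPullback_morphismRestrict f U).flip ⟨y, hy⟩).mp
    (fibCond_of_isClosedImmersion' (f ∣_ U) ⟨y, hy⟩)

theorem exists_opens_preimage_le {X Y : Scheme.{u}} (f : X ⟶ Y) (V : Y.Opens) (y : Y)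
    (hy : y ∈ V) (hcl : IsClosedMap (f ∣_ V)) (X₁ : X.Opens) (hX₁ : f ⁻¹' {y} ⊆ X₁) :
    ∃ U : Y.Opens, y ∈ U ∧ U ≤ V ∧ f ⁻¹ᵁ U ≤ X₁ := by
  have hC : IsClosed {x : ↥((f ⁻¹ᵁ V : X.Opens) : Scheme.{u}) | x.1 ∉ X₁} := by
    have : IsOpen {x : ↥((f ⁻¹ᵁ V : X.Opens) : Scheme.{u}) | x.1 ∈ X₁} :=
      X₁.2.preimage continuous_subtype_val
    exact ⟨by simpa [Set.compl_ofPred] using this⟩
  have hI := hcl _ hC
  have hU₀ : IsOpen (Subtype.val ''
      ((f ∣_ V) '' {x : ↥((f ⁻¹ᵁ V : X.Opens) : Scheme.{u}) | x.1 ∉ X₁})ᶜ : Set Y) :=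
    V.2.isOpenEmbedding_subtypeVal.isOpenMap _ hI.isOpen_compl
  refine ⟨⟨_, hU₀⟩, ?_, ?_, ?_⟩
  · refine ⟨⟨y, hy⟩, ?_, rfl⟩
    rintro ⟨x, hxC, hx⟩
    apply hxC
    apply hX₁
    have := morphismRestrict_base_coe f V x
    rw [hx] at this
    exact this.symm
  · rintro _ ⟨v, -, rfl⟩
    exact v.2
  · intro x hx
    obtain ⟨v, hv, hvx⟩ := hx
    by_contra hxX₁
    apply hv
    have hxV : x ∈ f ⁻¹ᵁ V := by
      show f x ∈ V
      rw [← hvx]; exact v.2
    refine ⟨⟨x, hxV⟩, hxX₁, ?_⟩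
    apply Subtype.ext
    rw [morphismRestrict_base_coe, hvx]

theorem morphismRestrict_of_le (P : MorphismProperty Scheme.{u}) [IsZariskiLocalAtTarget P]
    {X Y : Scheme.{u}} (f : X ⟶ Y) {U V : Y.Opens} (h : U ≤ V) (hV : P (f ∣_ V)) :
    P (f ∣_ U) := by
  have h1 : P (f ∣_ V ∣_ (V.ι ⁻¹ᵁ U)) := IsZariskiLocalAtTarget.restrict hV _
  rw [MorphismProperty.arrow_mk_iso_iff P (morphismRestrictRestrict f V _)] at h1
  have e : V.ι ''ᵁ (V.ι ⁻¹ᵁ U) = U := by
    rw [Scheme.Hom.image_preimage_eq_opensRange_inf, Scheme.Opens.opensRange_ι]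
    exact inf_eq_right.mpr h
  rwa [MorphismProperty.arrow_mk_iso_iff P (morphismRestrictEq f e)] at h1

theorem app_basicOpen_surjective {X' U' : Scheme.{u}} [IsAffine X'] [IsAffine U']
    (g : X' ⟶ U') (a : Γ(U', ⊤))
    (ha : ∀ b : Γ(X', ⊤), ∃ c : Γ(U', ⊤), g.appTop a * b = g.appTop c) (D' : U'.Opens)
    (hD' : D' = U'.basicOpen a) : Function.Surjective (g.app D') := by
  subst hD'
  intro t
  letI : Algebra Γ(X', ⊤) Γ(X', g ⁻¹ᵁ U'.basicOpen a) :=
    (X'.presheaf.map (homOfLE le_top : g ⁻¹ᵁ U'.basicOpen a ⟶ ⊤).op).hom.toAlgebra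
  haveI hloc : IsLocalization.Away (g.appTop a) Γ(X', g ⁻¹ᵁ U'.basicOpen a) :=
    (isAffineOpen_top X').isLocalization_of_eq_basicOpen (g.appTop a) (homOfLE le_top)
      (Scheme.preimage_basicOpen_top g a)
  obtain ⟨n, s, hs⟩ := IsLocalization.Away.surj (g.appTop a) t
  obtain ⟨c, hc⟩ := ha s
  have hnat : ∀ r : Γ(U', ⊤), (g.app (U'.basicOpen a)).hom
      ((U'.presheaf.map (homOfLE le_top : U'.basicOpen a ⟶ ⊤).op).hom r) =
      algebraMap Γ(X', ⊤) Γ(X', g ⁻¹ᵁ U'.basicOpen a) (g.appTop.hom r) := by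
    intro r
    have hn := g.naturality (homOfLE le_top : U'.basicOpen a ⟶ ⊤).op
    have := congrArg (fun φ => φ.hom r) hn
    simp only [CommRingCat.hom_comp, RingHom.comp_apply] at this
    exact this
  have hu : IsUnit ((U'.presheaf.map (homOfLE le_top : U'.basicOpen a ⟶ ⊤).op).hom a) :=
    U'.toRingedSpace.isUnit_res_basicOpen a
  obtain ⟨v, hv⟩ := hu
  have hunit : IsUnit (algebraMap Γ(X', ⊤) Γ(X', g ⁻¹ᵁ U'.basicOpen a) (g.appTop a)) :=
    IsLocalization.Away.algebraMap_isUnit _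
  have key : t * algebraMap Γ(X', ⊤) Γ(X', g ⁻¹ᵁ U'.basicOpen a) (g.appTop a) ^ (n + 1) =
      (g.app (U'.basicOpen a)).hom
        ((U'.presheaf.map (homOfLE le_top : U'.basicOpen a ⟶ ⊤).op).hom c) := by
    rw [pow_succ, ← mul_assoc, hs, ← map_mul, mul_comm s, hc, hnat]
  refine ⟨(U'.presheaf.map (homOfLE le_top : U'.basicOpen a ⟶ ⊤).op).hom c *
    ((v⁻¹ : (Γ(U', U'.basicOpen a))ˣ) : Γ(U', U'.basicOpen a)) ^ (n + 1), ?_⟩
  apply (hunit.pow (n + 1)).mul_left_injective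
  show (g.app (U'.basicOpen a)).hom _ * _ = t * _
  rw [key]
  have hx : algebraMap Γ(X', ⊤) Γ(X', g ⁻¹ᵁ U'.basicOpen a) (g.appTop a) =
      (g.app (U'.basicOpen a)).hom
        ((U'.presheaf.map (homOfLE le_top : U'.basicOpen a ⟶ ⊤).op).hom a) := (hnat a).symm
  rw [hx, ← map_pow, ← map_mul, ← hv, mul_assoc, ← mul_pow, Units.inv_mul, one_pow, mul_one]

theorem isClosedImmersion_morphismRestrict_basicOpen {X' U' : Scheme.{u}} [IsAffine X']
    [IsAffine U'] (g : X' ⟶ U') (a : Γ(U', ⊤))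
    (ha : ∀ b : Γ(X', ⊤), ∃ c : Γ(U', ⊤), g.appTop a * b = g.appTop c) :
    IsClosedImmersion (g ∣_ U'.basicOpen a) := by
  have hD : IsAffineOpen (U'.basicOpen a) := (isAffineOpen_top U').basicOpen a
  haveI : IsAffine ↑(U'.basicOpen a) := hD
  haveI : IsAffineHom g := isAffineHom_of_isAffine g
  haveI : IsAffine ↑(g ⁻¹ᵁ U'.basicOpen a) := hD.preimage g
  rw [HasAffineProperty.iff_of_isAffine (P := @IsClosedImmersion)]
  refine ⟨inferInstance, ?_⟩
  have hsurj : Function.Surjective ((g.app ((U'.basicOpen a).ι ''ᵁ ⊤) ≫ X'.presheaf.map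
      (eqToHom (image_morphismRestrict_preimage g (U'.basicOpen a) ⊤)).op).hom) := by
    rw [CommRingCat.hom_comp, RingHom.coe_comp]
    exact (ConcreteCategory.bijective_of_isIso _).2.comp
      (app_basicOpen_surjective g a ha _ (Scheme.Opens.ι_image_top _))
  rw [morphismRestrict_appTop]
  exact hsurj

theorem exists_basicOpen_isClosedImmersion_of_fibCond {X' U' : Scheme.{u}} [IsAffine X']
    [IsAffine U'] (g : X' ⟶ U') [IsFinite g] (y' : U') (hfib : FibCond g y') :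
    ∃ a : Γ(U', ⊤), y' ∈ U'.basicOpen a ∧ IsClosedImmersion (g ∣_ U'.basicOpen a) := by
  have hpb : IsPullback X'.isoSpec.hom g (Spec.map g.appTop) U'.isoSpec.hom :=
    IsPullback.of_horiz_isIso ⟨Scheme.isoSpec_hom_naturality g⟩
  have h1 : FibCond (Spec.map g.appTop) (U'.isoSpec.hom y') :=
    (fibCond_iff_of_isPullback hpb y').mp hfib
  letI : Algebra Γ(U', ⊤) Γ(X', ⊤) := g.appTop.hom.toAlgebra
  haveI : Module.Finite Γ(U', ⊤) Γ(X', ⊤) :=
    ((HasAffineProperty.iff_of_isAffine (P := @IsFinite)).mp ‹IsFinite g›).2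
  obtain ⟨a, hap, ha⟩ := exists_smul_eq_algebraMap_of_fibCond (R := Γ(U', ⊤)) (S := Γ(X', ⊤))
    (U'.isoSpec.hom y') h1
  refine ⟨a, ?_, isClosedImmersion_morphismRestrict_basicOpen g a fun b => ?_⟩
  · rw [← Scheme.toSpecΓ_preimage_basicOpen]
    exact hap
  · obtain ⟨c, hc⟩ := ha b
    refine ⟨c, ?_⟩
    rw [Algebra.smul_def] at hc
    exact hc

theorem exists_isClosedImmersion_of_fibCond_aux {X Y : Scheme.{u}} (f : X ⟶ Y)
    [LocallyOfFiniteType f] (y : Y) (hfib : FibCond f y) (V : Y.Opens)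
    [UniversallyClosed (f ∣_ V)] (W : Y.Opens) (hW : IsAffineOpen W) (hyW : y ∈ W) (hWV : W ≤ V)
    (X₂ : X.Opens) (hX₂ : IsAffineOpen X₂) (hfibX₂ : f ⁻¹' {y} ⊆ X₂) (hX₂W : X₂ ≤ f ⁻¹ᵁ W) :
    ∃ U : Y.Opens, y ∈ U ∧ IsClosedImmersion (f ∣_ U) := by
  obtain ⟨U₁, hyU₁, hU₁V, hU₁X₂⟩ :=
    exists_opens_preimage_le f V y (hWV hyW) (f ∣_ V).isClosedMap X₂ hfibX₂
  obtain ⟨r, hrU₁, hyr⟩ := hW.exists_basicOpen_le (V := U₁) ⟨y, hyU₁⟩ hyW
  have hUaff : IsAffineOpen (Y.basicOpen r) := hW.basicOpen r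
  have hUV : Y.basicOpen r ≤ V := hrU₁.trans hU₁V
  have hpre : f ⁻¹ᵁ Y.basicOpen r =
      X.basicOpen (X.presheaf.map (homOfLE hX₂W).op (f.app W r)) := by
    rw [Scheme.basicOpen_res, ← Scheme.preimage_basicOpen]
    exact (inf_eq_right.mpr ((f.preimage_mono hrU₁).trans hU₁X₂)).symm
  have hpreaff : IsAffineOpen (f ⁻¹ᵁ Y.basicOpen r) := by
    rw [hpre]; exact hX₂.basicOpen _
  haveI : IsAffine ↑(Y.basicOpen r) := hUaff
  haveI : IsAffine ↑(f ⁻¹ᵁ Y.basicOpen r) := hpreaff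
  haveI : UniversallyClosed (f ∣_ Y.basicOpen r) :=
    morphismRestrict_of_le @UniversallyClosed f hUV ‹_›
  haveI : IsAffineHom (f ∣_ Y.basicOpen r) := isAffineHom_of_isAffine _
  haveI : IsIntegralHom (f ∣_ Y.basicOpen r) :=
    IsIntegralHom.iff_universallyClosed_and_isAffineHom.mpr ⟨inferInstance, inferInstance⟩
  haveI : LocallyOfFiniteType (f ∣_ Y.basicOpen r) := IsZariskiLocalAtTarget.restrict ‹_› _
  haveI : IsFinite (f ∣_ Y.basicOpen r) :=
    (IsFinite.iff_isIntegralHom_and_locallyOfFiniteType _).mpr ⟨inferInstance, inferInstance⟩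
  have hfib' : FibCond (f ∣_ Y.basicOpen r) ⟨y, hyr⟩ :=
    (fibCond_iff_of_isPullback (isPullback_morphismRestrict f (Y.basicOpen r)).flip
      ⟨y, hyr⟩).mpr hfib
  obtain ⟨a, hya, hcl⟩ :=
    exists_basicOpen_isClosedImmersion_of_fibCond (f ∣_ Y.basicOpen r) ⟨y, hyr⟩ hfib'
  refine ⟨(Y.basicOpen r).ι ''ᵁ Scheme.basicOpen _ a, ⟨⟨y, hyr⟩, hya, rfl⟩, ?_⟩
  rwa [← MorphismProperty.arrow_mk_iso_iff @IsClosedImmersion (morphismRestrictRestrict f _ _)]

theorem exists_isClosedImmersion_of_fibCond {X Y : Scheme.{u}} (f : X ⟶ Y)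
    [LocallyOfFiniteType f] (y : Y) (hfib : FibCond f y) (V : Y.Opens) (hyV : y ∈ V)
    [UniversallyClosed (f ∣_ V)] :
    ∃ U : Y.Opens, y ∈ U ∧ IsClosedImmersion (f ∣_ U) := by
  have hss : (f ⁻¹' {y}).Subsingleton := by
    rw [← f.range_fiberι y]
    rcases hfib with he | hi
    · haveI := he
      rintro _ ⟨z, -⟩
      exact (IsEmpty.false z).elim
    · haveI := hi
      rintro _ ⟨z, rfl⟩ _ ⟨z', rfl⟩
      have hl : ∀ w, (inv (f.fiberToSpecResidueField y)) (f.fiberToSpecResidueField y w) = w :=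
        fun w => by
          rw [← Scheme.Hom.comp_apply, IsIso.hom_inv_id]; rfl
      have : z = z' := by
        rw [← hl z, ← hl z', f.fiberToSpecResidueField_apply y z,
          f.fiberToSpecResidueField_apply y z']
      rw [this]
  obtain ⟨_, ⟨W, hW, rfl⟩, hyW, hWV⟩ :=
    Y.isBasis_affineOpens.exists_subset_of_mem_open hyV V.2
  by_cases hne : (f ⁻¹' {y}).Nonempty
  · obtain ⟨x₀, hx₀⟩ := hne
    have hx₀W : x₀ ∈ f ⁻¹ᵁ W := by
      show f x₀ ∈ W
      rw [show f x₀ = y from hx₀]; exact hyW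
    obtain ⟨_, ⟨X₂, hX₂, rfl⟩, hx₀X₂, hX₂W⟩ :=
      X.isBasis_affineOpens.exists_subset_of_mem_open hx₀W (f ⁻¹ᵁ W).2
    exact exists_isClosedImmersion_of_fibCond_aux f y hfib V W hW hyW hWV X₂ hX₂
      (fun x hx => by rw [hss hx hx₀]; exact hx₀X₂) hX₂W
  · exact exists_isClosedImmersion_of_fibCond_aux f y hfib V W hW hyW hWV ⊥
      (isAffineOpen_bot X) (fun x hx => (hne ⟨x, hx⟩).elim) bot_le

end Groth.Agent.H54
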