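import Groth.Agent.H29.FlatDepthMod
import Groth.Agent.H29.CM2

/-!
# Piece (X1) of the S8827 squad (helper15)

A flat local homomorphism of Noetherian local rings with zero-dimensional closed fibre preserves the
depth of a base-changed finite module.
-/

set_option autoImplicit false
universe u
open CategoryTheory IsLocalRing TensorProduct
open scoped Pointwise
open Groth.Agent.H15.Depth

namespace Groth.Agent.H54.Sit_X1

/-- the closed fibre ring of a local homomorphism with zero-dimensional closed fibre has depth `0`. -/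
theorem depth_fibMod_eq_zero (A₁ B₁ : Type u) [CommRing A₁] [CommRing B₁] [IsLocalRing A₁]
    [IsLocalRing B₁] [IsNoetherianRing B₁] [Algebra A₁ B₁] [IsLocalHom (algebraMap A₁ B₁)]
    (hfib : ∀ P : Ideal B₁, P.IsPrime → (maximalIdeal A₁).map (algebraMap A₁ B₁) ≤ P →
      P = maximalIdeal B₁) :
    LocCoh.depth B₁ (EGA4.FibMod A₁ B₁ B₁) = 0 := by
  haveI : Nontrivial (EGA4.FibMod A₁ B₁ B₁) :=
    Groth.Agent.H29.FlatDepthMod.nontrivial_fibMod (R := A₁) (S := B₁) B₁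
  have hne : maximalIdeal B₁ • (⊤ : Submodule B₁ (EGA4.FibMod A₁ B₁ B₁)) ≠ ⊤ :=
    Groth.Agent.H29.maximalIdeal_smul_top_ne_top B₁ _
  show LocCoh.idealDepth (maximalIdeal B₁) (EGA4.FibMod A₁ B₁ B₁) = 0
  refine Groth.Agent.H29.FlatDepthMod.idealDepth_eq_zero_of_hasSocle hne ?_
  rcases exists_regular_or_hasSocle (I := maximalIdeal B₁) (EGA4.FibMod A₁ B₁ B₁) with
    ⟨a, ha, hreg⟩ | hs
  · exfalso
    have hrad : a ∈ (EGA4.mB A₁ B₁).radical := by
      rw [Ideal.radical_eq_sInf, Ideal.mem_sInf]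
      rintro P ⟨hle, hP⟩
      rw [hfib P hP hle]
      exact ha
    obtain ⟨n, hn⟩ := Ideal.mem_radical_iff.mp hrad
    have hregn : IsSMulRegular (EGA4.FibMod A₁ B₁ B₁) (a ^ n) := hreg.pow n
    have h0 : (a ^ n) • (Submodule.Quotient.mk (1 : B₁) : EGA4.FibMod A₁ B₁ B₁) =
        (a ^ n) • (0 : EGA4.FibMod A₁ B₁ B₁) := by
      rw [smul_zero, ← Submodule.Quotient.mk_smul, Submodule.Quotient.mk_eq_zero]
      exact Submodule.smul_mem_smul hn Submodule.mem_top
    have h1 : (Submodule.Quotient.mk (1 : B₁) : EGA4.FibMod A₁ B₁ B₁) = 0 := hregn h0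
    have key : ∀ z : EGA4.FibMod A₁ B₁ B₁, z = 0 := by
      intro z
      obtain ⟨b, rfl⟩ := Submodule.Quotient.mk_surjective _ z
      have hb : (Submodule.Quotient.mk b : EGA4.FibMod A₁ B₁ B₁) =
          b • (Submodule.Quotient.mk (1 : B₁) : EGA4.FibMod A₁ B₁ B₁) := by
        rw [← Submodule.Quotient.mk_smul]
        exact congrArg _ (mul_one b).symm
      rw [hb, h1, smul_zero]
    obtain ⟨x, y, hxy⟩ := exists_pair_ne (EGA4.FibMod A₁ B₁ B₁)
    exact hxy ((key x).trans (key y).symm)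
  · exact hs

theorem depth_eq_of_isBaseChange (A₁ B₁ : Type u) [CommRing A₁] [CommRing B₁] [IsLocalRing A₁]
    [IsLocalRing B₁] [IsNoetherianRing A₁] [IsNoetherianRing B₁] [Algebra A₁ B₁]
    [IsLocalHom (algebraMap A₁ B₁)] [Module.Flat A₁ B₁]
    (hfib : ∀ P : Ideal B₁, P.IsPrime → (maximalIdeal A₁).map (algebraMap A₁ B₁) ≤ P →
      P = maximalIdeal B₁)
    (M₁ : Type u) [AddCommGroup M₁] [Module A₁ M₁] [Module.Finite A₁ M₁]
    (N₁ : Type u) [AddCommGroup N₁] [Module B₁ N₁] [Module A₁ N₁] [IsScalarTower A₁ B₁ N₁]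
    (g : M₁ →ₗ[A₁] N₁) (hg : IsBaseChange B₁ g) : LocCoh.depth B₁ N₁ = LocCoh.depth A₁ M₁ := by
  have h1 := Groth.Agent.H29.FlatDepthMod.depth_tensor (R := A₁) (S := B₁) M₁ B₁
  rw [depth_fibMod_eq_zero A₁ B₁ hfib, add_zero] at h1
  rw [← h1]
  show LocCoh.idealDepth (maximalIdeal B₁) N₁ =
    LocCoh.idealDepth (maximalIdeal B₁) (B₁ ⊗[A₁] M₁)
  exact (Groth.Agent.H29.CM.idealDepth_congr hg.equiv).symm

end Groth.Agent.H54.Sit_X1
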