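import Groth.Agent.H54.LocalIso

set_option autoImplicit false
universe u
open CategoryTheory AlgebraicGeometry Opposite Limits

namespace Groth.Agent.H54

/-- From two mutually inverse (at the level of local rings) spread-out partial maps to an
isomorphism of open neighbourhoods. -/
theorem local_iso_of_spread {X Y S : Scheme.{u}} (sX : X ⟶ S) (sY : Y ⟶ S)
    [LocallyOfFiniteType sX] [LocallyOfFiniteType sY] {x : X} {y : Y}
    (φ : Y.presheaf.stalk y ⟶ X.presheaf.stalk x) [IsIso φ]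
    (U₁ : X.Opens) (hxU₁ : x ∈ U₁) (f : U₁.toScheme ⟶ Y)
    (hf₁ : Spec.map φ ≫ Y.fromSpecStalk y = U₁.fromSpecStalkOfMem x hxU₁ ≫ f)
    (hf₂ : f ≫ sY = U₁.ι ≫ sX)
    (V₁ : Y.Opens) (hyV₁ : y ∈ V₁) (g : V₁.toScheme ⟶ X)
    (hg₁ : Spec.map (inv φ) ≫ X.fromSpecStalk x = V₁.fromSpecStalkOfMem y hyV₁ ≫ g)
    (hg₂ : g ≫ sX = V₁.ι ≫ sY) :
    ∃ (U : X.Opens) (hxU : x ∈ U) (V : Y.Opens) (f' : U.toScheme ⟶ V.toScheme), IsIso f' ∧
      Spec.map φ ≫ Y.fromSpecStalk y = U.fromSpecStalkOfMem x hxU ≫ f' ≫ V.ι ∧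
        f' ≫ V.ι ≫ sY = U.ι ≫ sX := by
  obtain ⟨T, j', π₀, hj', hk, hπ₀⟩ := local_iso sX sY U₁.ι V₁.ι f g hf₂ hg₂ x y φ
    (U₁.fromSpecStalkOfMem x hxU₁) (V₁.fromSpecStalkOfMem y hyV₁)
    (U₁.fromSpecStalkOfMem_ι x hxU₁) (V₁.fromSpecStalkOfMem_ι y hyV₁) hf₁ hg₁
  haveI := hj'
  haveI := hk
  have hj : (j' ≫ U₁.ι).isoOpensRange.inv ≫ j' ≫ U₁.ι = (j' ≫ U₁.ι).opensRange.ι :=
    Scheme.Hom.isoOpensRange_inv_comp (j' ≫ U₁.ι)
  have hxU : x ∈ (j' ≫ U₁.ι).opensRange := by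
    refine ⟨π₀ (IsLocalRing.closedPoint _), ?_⟩
    have h4 : π₀ ≫ j' ≫ U₁.ι = X.fromSpecStalk x := by
      rw [← Category.assoc, hπ₀, U₁.fromSpecStalkOfMem_ι]
    rw [← Scheme.Hom.comp_apply, h4, Scheme.fromSpecStalk_closedPoint]
  refine ⟨(j' ≫ U₁.ι).opensRange, hxU, (j' ≫ f).opensRange,
    (j' ≫ U₁.ι).isoOpensRange.inv ≫ (j' ≫ f).isoOpensRange.hom, inferInstance, ?_, ?_⟩
  · rw [Category.assoc, Scheme.Hom.isoOpensRange_hom_ι]
    have h3 : (j' ≫ U₁.ι).opensRange.fromSpecStalkOfMem x hxU ≫ (j' ≫ U₁.ι).isoOpensRange.inv ≫ j' =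
        U₁.fromSpecStalkOfMem x hxU₁ := by
      rw [← cancel_mono U₁.ι, Category.assoc, Category.assoc, hj,
        Scheme.Opens.fromSpecStalkOfMem_ι, Scheme.Opens.fromSpecStalkOfMem_ι]
    rw [hf₁, ← h3]
    simp only [Category.assoc]
  · rw [Category.assoc, Scheme.Hom.isoOpensRange_hom_ι_assoc, Category.assoc, hf₂,
      ← Category.assoc j', ← Category.assoc, hj]

/-- Local isomorphism from an isomorphism of local rings, for morphisms locally of finite type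
between schemes which are germ-injective at the given points. -/
theorem local_iso_germInjective {X Y S : Scheme.{u}} (sX : X ⟶ S) (sY : Y ⟶ S)
    [LocallyOfFiniteType sX] [LocallyOfFiniteType sY] {x : X} {y : Y}
    [X.IsGermInjectiveAt x] [Y.IsGermInjectiveAt y] (e : sX x = sY y)
    (φ : Y.presheaf.stalk y ⟶ X.presheaf.stalk x) [IsIso φ]
    (h : sY.stalkMap y ≫ φ =
      S.presheaf.stalkSpecializes (Inseparable.of_eq e).specializes ≫ sX.stalkMap x) :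
    ∃ (U : X.Opens) (hxU : x ∈ U) (V : Y.Opens) (f' : U.toScheme ⟶ V.toScheme), IsIso f' ∧
      Spec.map φ ≫ Y.fromSpecStalk y = U.fromSpecStalkOfMem x hxU ≫ f' ≫ V.ι ∧
        f' ≫ V.ι ≫ sY = U.ι ≫ sX := by
  obtain ⟨U₁, hxU₁, f, hf₁, hf₂⟩ := spread_out_of_isGermInjective sX sY e φ h
  have h' : sX.stalkMap x ≫ inv φ =
      S.presheaf.stalkSpecializes (Inseparable.of_eq e.symm).specializes ≫ sY.stalkMap y := by
    rw [IsIso.comp_inv_eq, Category.assoc, h, ← Category.assoc,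
      TopCat.Presheaf.stalkSpecializes_comp, TopCat.Presheaf.stalkSpecializes_refl,
      Category.id_comp]
  obtain ⟨V₁, hyV₁, g, hg₁, hg₂⟩ := spread_out_of_isGermInjective sY sX e.symm (inv φ) h'
  exact local_iso_of_spread sX sY φ U₁ hxU₁ f hf₁ hf₂ V₁ hyV₁ g hg₁ hg₂

end Groth.Agent.H54
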