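import Groth.Agent.S4364
import Mathlib.AlgebraicGeometry.SpreadingOut
import Mathlib.AlgebraicGeometry.Morphisms.FinitePresentation
import Mathlib.AlgebraicGeometry.Stalk
import Mathlib.AlgebraicGeometry.Restrict

set_option autoImplicit false
universe u
open CategoryTheory AlgebraicGeometry Opposite Limits

namespace Groth.Agent.H54

theorem isIso_stalkClosedPointTo_of_eq {X : Scheme.{u}} {x : X}
    (q : Spec (X.presheaf.stalk x) ⟶ X) (hq : q = X.fromSpecStalk x) :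
    IsIso (Scheme.stalkClosedPointTo q) := by
  subst hq
  rw [Scheme.stalkClosedPointTo_fromSpecStalk]
  infer_instance

set_option backward.isDefEq.respectTransparency.types false in
theorem spread_out_unique' {X Y S : Scheme.{u}} (sX : X ⟶ S) (sY : Y ⟶ S)
    [LocallyOfFiniteType sY] (f g : X ⟶ Y) (hf : f ≫ sY = sX) (hg : g ≫ sY = sX) {x : X}
    (e : X.fromSpecStalk x ≫ f = X.fromSpecStalk x ≫ g) :
    ∃ (U : X.Opens), x ∈ U ∧ U.ι ≫ f = U.ι ≫ g := by
  fapply Groth.Agent.S4364.result sX sY f g hf hg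
  · simpa using congr($e (IsLocalRing.closedPoint _))
  · apply Spec.map_injective
    rw [← cancel_mono (Y.fromSpecStalk _)]
    simpa [Scheme.SpecMap_stalkSpecializes_fromSpecStalk]

theorem local_retract {X Y S : Scheme.{u}} (sX : X ⟶ S) (sY : Y ⟶ S) [LocallyOfFiniteType sX]
    {A B : Scheme.{u}} (iA : A ⟶ X) [IsOpenImmersion iA] (iB : B ⟶ Y) [IsOpenImmersion iB]
    (f : A ⟶ Y) (g : B ⟶ X) (hf₂ : f ≫ sY = iA ≫ sX) (hg₂ : g ≫ sX = iB ≫ sY) (x : X)
    (π : Spec (X.presheaf.stalk x) ⟶ pullback f iB)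
    (h1 : π ≫ pullback.fst f iB ≫ iA = X.fromSpecStalk x)
    (h2 : π ≫ pullback.snd f iB ≫ g = X.fromSpecStalk x) :
    ∃ P₁ : (pullback f iB).Opens, π (IsLocalRing.closedPoint _) ∈ P₁ ∧
      P₁.ι ≫ pullback.snd f iB ≫ g = P₁.ι ≫ pullback.fst f iB ≫ iA := by
  have hab : (pullback.snd f iB ≫ g) ≫ sX = (pullback.fst f iB ≫ iA) ≫ sX := by
    simp only [Category.assoc, hg₂, ← hf₂]
    rw [pullback.condition_assoc]
  haveI : IsIso (Scheme.stalkClosedPointTo π) := by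
    have h3 : IsIso (Scheme.stalkClosedPointTo (π ≫ pullback.fst f iB ≫ iA)) :=
      isIso_stalkClosedPointTo_of_eq _ h1
    rw [Scheme.stalkClosedPointTo_comp] at h3
    exact @IsIso.of_isIso_comp_left _ _ _ _ _ ((pullback.fst f iB ≫ iA).stalkMap _) _
      inferInstance h3
  have key : (pullback f iB).fromSpecStalk (π (IsLocalRing.closedPoint _)) ≫
        (pullback.snd f iB ≫ g) =
      (pullback f iB).fromSpecStalk _ ≫ (pullback.fst f iB ≫ iA) := by
    rw [← cancel_epi (Spec.map (Scheme.stalkClosedPointTo π)),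
      Scheme.Spec_stalkClosedPointTo_fromSpecStalk_assoc,
      Scheme.Spec_stalkClosedPointTo_fromSpecStalk_assoc, h1, h2]
  exact spread_out_unique' ((pullback.fst f iB ≫ iA) ≫ sX) sX _ _ hab rfl key

theorem range_subset_of_closedPoint_mem {P : Scheme.{u}} {R : CommRingCat.{u}} [IsLocalRing R]
    (π : Spec R ⟶ P) (P₁ : P.Opens) (h : π (IsLocalRing.closedPoint R) ∈ P₁) :
    Set.range π ⊆ Set.range P₁.ι := by
  rw [Scheme.Opens.range_ι]
  rintro _ ⟨z, rfl⟩
  have h2 := Scheme.preimage_eq_top_of_closedPoint_mem π h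
  have hz : z ∈ π ⁻¹ᵁ P₁ := by rw [h2]; trivial
  exact hz

theorem local_iso {X Y S : Scheme.{u}} (sX : X ⟶ S) (sY : Y ⟶ S)
    [LocallyOfFiniteType sX] [LocallyOfFiniteType sY]
    {A B : Scheme.{u}} (iA : A ⟶ X) [IsOpenImmersion iA] (iB : B ⟶ Y) [IsOpenImmersion iB]
    (f : A ⟶ Y) (g : B ⟶ X) (hf₂ : f ≫ sY = iA ≫ sX) (hg₂ : g ≫ sX = iB ≫ sY) (x : X) (y : Y)
    (φ : Y.presheaf.stalk y ⟶ X.presheaf.stalk x) [IsIso φ]
    (σ : Spec (X.presheaf.stalk x) ⟶ A) (τ : Spec (Y.presheaf.stalk y) ⟶ B)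
    (hσ : σ ≫ iA = X.fromSpecStalk x) (hτ : τ ≫ iB = Y.fromSpecStalk y)
    (hf₁ : Spec.map φ ≫ Y.fromSpecStalk y = σ ≫ f)
    (hg₁ : Spec.map (inv φ) ≫ X.fromSpecStalk x = τ ≫ g) :
    ∃ (T : Scheme.{u}) (j' : T ⟶ A) (π₀ : Spec (X.presheaf.stalk x) ⟶ T),
      IsOpenImmersion j' ∧ IsOpenImmersion (j' ≫ f) ∧ π₀ ≫ j' = σ := by
  have hφ1 : Spec.map φ ≫ Spec.map (inv φ) = 𝟙 _ := by
    rw [← Spec.map_comp, IsIso.inv_hom_id, Spec.map_id]
  have hφ2 : Spec.map (inv φ) ≫ Spec.map φ = 𝟙 _ := by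
    rw [← Spec.map_comp, IsIso.hom_inv_id, Spec.map_id]
  let π : Spec (X.presheaf.stalk x) ⟶ pullback f iB :=
    pullback.lift σ (Spec.map φ ≫ τ) (by rw [Category.assoc, hτ, hf₁])
  have hπ1 : π ≫ pullback.fst f iB = σ := pullback.lift_fst _ _ _
  have hπ2 : π ≫ pullback.snd f iB = Spec.map φ ≫ τ := pullback.lift_snd _ _ _
  obtain ⟨P₁, hpP₁, hP₁⟩ := local_retract sX sY iA iB f g hf₂ hg₂ x π
    (by rw [← Category.assoc, hπ1, hσ])
    (by rw [← Category.assoc, hπ2, Category.assoc, ← hg₁, ← Category.assoc, hφ1,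
      Category.id_comp])
  let π' : Spec (Y.presheaf.stalk y) ⟶ pullback g iA :=
    pullback.lift τ (Spec.map (inv φ) ≫ σ) (by rw [Category.assoc, hσ, hg₁])
  have hπ'1 : π' ≫ pullback.fst g iA = τ := pullback.lift_fst _ _ _
  have hπ'2 : π' ≫ pullback.snd g iA = Spec.map (inv φ) ≫ σ := pullback.lift_snd _ _ _
  obtain ⟨Q₁, hqQ₁, hQ₁⟩ := local_retract sY sX iB iA g f hg₂ hf₂ y π'
    (by rw [← Category.assoc, hπ'1, hτ])
    (by rw [← Category.assoc, hπ'2, Category.assoc, ← hf₁, ← Category.assoc, hφ2,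
      Category.id_comp])
  let α : P₁.toScheme ⟶ pullback g iA :=
    pullback.lift (P₁.ι ≫ pullback.snd f iB) (P₁.ι ≫ pullback.fst f iB)
      (by simpa only [Category.assoc] using hP₁)
  let β : Q₁.toScheme ⟶ pullback f iB :=
    pullback.lift (Q₁.ι ≫ pullback.snd g iA) (Q₁.ι ≫ pullback.fst g iA)
      (by simpa only [Category.assoc] using hQ₁)
  have hα1 : α ≫ pullback.fst g iA = P₁.ι ≫ pullback.snd f iB := pullback.lift_fst _ _ _
  have hα2 : α ≫ pullback.snd g iA = P₁.ι ≫ pullback.fst f iB := pullback.lift_snd _ _ _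
  have hβ1 : β ≫ pullback.fst f iB = Q₁.ι ≫ pullback.snd g iA := pullback.lift_fst _ _ _
  have hβ2 : β ≫ pullback.snd f iB = Q₁.ι ≫ pullback.fst g iA := pullback.lift_snd _ _ _
  have c1 : pullback.snd α Q₁.ι ≫ β = pullback.fst α Q₁.ι ≫ P₁.ι := by
    apply pullback.hom_ext
    · rw [Category.assoc, hβ1, ← Category.assoc, ← pullback.condition, Category.assoc, hα2,
        Category.assoc]
    · rw [Category.assoc, hβ2, ← Category.assoc, ← pullback.condition, Category.assoc, hα1,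
        Category.assoc]
  have c2 : pullback.snd β P₁.ι ≫ α = pullback.fst β P₁.ι ≫ Q₁.ι := by
    apply pullback.hom_ext
    · rw [Category.assoc, hα1, ← Category.assoc, ← pullback.condition, Category.assoc, hβ2,
        Category.assoc]
    · rw [Category.assoc, hα2, ← Category.assoc, ← pullback.condition, Category.assoc, hβ1,
        Category.assoc]
  let F : pullback α Q₁.ι ⟶ pullback β P₁.ι :=
    pullback.lift (pullback.snd α Q₁.ι) (pullback.fst α Q₁.ι) c1
  let G : pullback β P₁.ι ⟶ pullback α Q₁.ι :=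
    pullback.lift (pullback.snd β P₁.ι) (pullback.fst β P₁.ι) c2
  have hF1 : F ≫ pullback.fst β P₁.ι = pullback.snd α Q₁.ι := pullback.lift_fst _ _ _
  have hF2 : F ≫ pullback.snd β P₁.ι = pullback.fst α Q₁.ι := pullback.lift_snd _ _ _
  have hG1 : G ≫ pullback.fst α Q₁.ι = pullback.snd β P₁.ι := pullback.lift_fst _ _ _
  have hG2 : G ≫ pullback.snd α Q₁.ι = pullback.fst β P₁.ι := pullback.lift_snd _ _ _
  have hFG : F ≫ G = 𝟙 _ := by
    apply pullback.hom_ext
    · rw [Category.assoc, hG1, hF2, Category.id_comp]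
    · rw [Category.assoc, hG2, hF1, Category.id_comp]
  have hGF : G ≫ F = 𝟙 _ := by
    apply pullback.hom_ext
    · rw [Category.assoc, hF1, hG2, Category.id_comp]
    · rw [Category.assoc, hF2, hG1, Category.id_comp]
  haveI : IsIso F := ⟨⟨G, hFG, hGF⟩⟩
  let π₁ : Spec (X.presheaf.stalk x) ⟶ P₁.toScheme :=
    IsOpenImmersion.lift P₁.ι π (range_subset_of_closedPoint_mem π P₁ hpP₁)
  have hπ₁ : π₁ ≫ P₁.ι = π := IsOpenImmersion.lift_fac _ _ _
  let π'₁ : Spec (Y.presheaf.stalk y) ⟶ Q₁.toScheme :=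
    IsOpenImmersion.lift Q₁.ι π' (range_subset_of_closedPoint_mem π' Q₁ hqQ₁)
  have hπ'₁ : π'₁ ≫ Q₁.ι = π' := IsOpenImmersion.lift_fac _ _ _
  let π₀ : Spec (X.presheaf.stalk x) ⟶ pullback α Q₁.ι :=
    pullback.lift π₁ (Spec.map φ ≫ π'₁) (by
      rw [Category.assoc, hπ'₁]
      apply pullback.hom_ext
      · rw [Category.assoc, hα1, ← Category.assoc, hπ₁, hπ2, Category.assoc, hπ'1]
      · rw [Category.assoc, hα2, ← Category.assoc, hπ₁, hπ1, Category.assoc, hπ'2,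
          ← Category.assoc, hφ1, Category.id_comp])
  refine ⟨pullback α Q₁.ι, pullback.fst α Q₁.ι ≫ P₁.ι ≫ pullback.fst f iB, π₀, inferInstance,
    ?_, ?_⟩
  · have hk : (pullback.fst α Q₁.ι ≫ P₁.ι ≫ pullback.fst f iB) ≫ f =
        F ≫ (pullback.fst β P₁.ι ≫ Q₁.ι ≫ pullback.fst g iA ≫ iB) := by
      calc (pullback.fst α Q₁.ι ≫ P₁.ι ≫ pullback.fst f iB) ≫ f
          = pullback.fst α Q₁.ι ≫ (P₁.ι ≫ pullback.snd f iB) ≫ iB := by
            simp only [Category.assoc, pullback.condition]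
        _ = pullback.fst α Q₁.ι ≫ (α ≫ pullback.fst g iA) ≫ iB := by rw [hα1]
        _ = (pullback.fst α Q₁.ι ≫ α) ≫ pullback.fst g iA ≫ iB := by
            simp only [Category.assoc]
        _ = (pullback.snd α Q₁.ι ≫ Q₁.ι) ≫ pullback.fst g iA ≫ iB := by
            rw [pullback.condition]
        _ = F ≫ (pullback.fst β P₁.ι ≫ Q₁.ι ≫ pullback.fst g iA ≫ iB) := by
            rw [← Category.assoc F, hF1, Category.assoc]
    rw [hk]
    infer_instance
  · have hπ₀ : π₀ ≫ pullback.fst α Q₁.ι = π₁ := pullback.lift_fst _ _ _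
    rw [← Category.assoc, hπ₀, ← Category.assoc, hπ₁, hπ1]

end Groth.Agent.H54
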