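import Mathlib.AlgebraicGeometry.SpreadingOut
import Mathlib.AlgebraicGeometry.Morphisms.FinitePresentation
import Mathlib.RingTheory.FinitePresentation

set_option autoImplicit false
universe u
open CategoryTheory AlgebraicGeometry Opposite

namespace Groth.Agent.H54

theorem map_map_apply {X : Scheme.{u}} {U V W : X.Opens} (j : W ⟶ V) (k : V ⟶ U) (l : W ⟶ U)
    (g : Γ(X, U)) :
    X.presheaf.map j.op (X.presheaf.map k.op g) = X.presheaf.map l.op g := by
  rw [← CommRingCat.comp_apply, ← Functor.map_comp, ← op_comp, Subsingleton.elim (j ≫ k) l]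

theorem exists_nhd_map_eq_zero {X : Scheme.{u}} {x : X} {W₀ : X.Opens} (hx : x ∈ W₀)
    (s : Finset Γ(X, W₀)) (hs : ∀ g ∈ s, X.presheaf.germ W₀ x hx g = 0) :
    ∃ (V : X.Opens) (_ : x ∈ V) (i : V ≤ W₀), ∀ g ∈ s, X.presheaf.map (homOfLE i).op g = 0 := by
  classical
  induction s using Finset.induction_on with
  | empty => exact ⟨W₀, hx, le_rfl, by simp⟩
  | insert a s _ ih =>
    obtain ⟨V, hxV, i, hV⟩ := ih (fun g hg => hs g (Finset.mem_insert_of_mem hg))
    have ha : X.presheaf.germ W₀ x hx a = X.presheaf.germ W₀ x hx (0 : Γ(X, W₀)) := by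
      rw [hs a (Finset.mem_insert_self _ _), map_zero]
    obtain ⟨W, hxW, iU, iV, e⟩ := X.presheaf.germ_eq x hx hx a 0 ha
    refine ⟨V ⊓ W, ⟨hxV, hxW⟩, inf_le_left.trans i, ?_⟩
    intro g hg
    rcases Finset.mem_insert.mp hg with rfl | hg
    · rw [← map_map_apply (homOfLE inf_le_right) iU, e, map_zero, map_zero]
    · rw [← map_map_apply (homOfLE inf_le_left) (homOfLE i), hV g hg, map_zero]

theorem exists_lift_of_finitePresentation {X : Scheme.{u}} {R A : CommRingCat.{u}} {x : X}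
    {U : X.Opens} (hxU : x ∈ U)
    (φ : A ⟶ X.presheaf.stalk x) (φRA : R ⟶ A) (φRX : R ⟶ Γ(X, U))
    (hφRA : RingHom.FinitePresentation φRA.hom)
    (e : φRA ≫ φ = φRX ≫ X.presheaf.germ U x hxU) :
    ∃ (V : X.Opens) (hxV : x ∈ V) (φ' : A ⟶ Γ(X, V)) (i : V ≤ U), IsAffineOpen V ∧
      φ = φ' ≫ X.presheaf.germ V x hxV ∧ φRX ≫ X.presheaf.map i.hom.op = φRA ≫ φ' := by
  classical
  letI := φRA.hom.toAlgebra
  obtain ⟨n, f, hf, s, hs⟩ := hφRA.out
  choose W hxW t ht using fun i : Fin n ↦ X.presheaf.exists_germ_eq (φ (f (MvPolynomial.X i)))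
  let W₀ : X.Opens := Finset.univ.inf W ⊓ U
  have hxW₀ : x ∈ W₀ := by
    rw [← SetLike.mem_coe, TopologicalSpace.Opens.coe_inf, TopologicalSpace.Opens.coe_finset_inf]
    exact ⟨by simpa using fun i ↦ hxW i, hxU⟩
  have hW₀U : W₀ ≤ U := inf_le_right
  have hW₀W : ∀ i, W₀ ≤ W i := fun i => inf_le_left.trans (Finset.inf_le (Finset.mem_univ i))
  let ψ₀ : MvPolynomial (Fin n) R →+* Γ(X, W₀) :=
    MvPolynomial.eval₂Hom ((X.presheaf.map (homOfLE hW₀U).op).hom.comp φRX.hom)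
      (fun i => X.presheaf.map (homOfLE (hW₀W i)).op (t i))
  have hψ₀ : (X.presheaf.germ W₀ x hxW₀).hom.comp ψ₀ = φ.hom.comp f.toRingHom := by
    apply MvPolynomial.ringHom_ext
    · intro r
      have e' := congr($e r)
      simp only [ψ₀, RingHom.comp_apply, MvPolynomial.eval₂Hom_C]
      have h3 : f.toRingHom (MvPolynomial.C r) = φRA.hom r := f.commutes r
      rw [h3]
      exact (X.presheaf.germ_res_apply (homOfLE hW₀U) x hxW₀ _).trans e'.symm
    · intro i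
      simp only [ψ₀, RingHom.comp_apply, MvPolynomial.eval₂Hom_X']
      exact (X.presheaf.germ_res_apply (homOfLE (hW₀W i)) x hxW₀ (t i)).trans (ht i)
  have hs0 : ∀ g ∈ s.image ψ₀, X.presheaf.germ W₀ x hxW₀ g = 0 := by
    intro g hg
    obtain ⟨p, hp, rfl⟩ := Finset.mem_image.mp hg
    have hpk : p ∈ RingHom.ker f.toRingHom := hs ▸ Ideal.subset_span hp
    have h2 := congr($hψ₀ p)
    simp only [RingHom.comp_apply] at h2
    rw [RingHom.mem_ker] at hpk
    rw [hpk, map_zero] at h2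
    exact h2
  obtain ⟨V₁, hxV₁, iV₁, hV₁⟩ := exists_nhd_map_eq_zero hxW₀ (s.image ψ₀) hs0
  let ψ₁ : MvPolynomial (Fin n) R →+* Γ(X, V₁) := (X.presheaf.map (homOfLE iV₁).op).hom.comp ψ₀
  have hker : RingHom.ker f.toRingHom ≤ RingHom.ker ψ₁ := by
    rw [← hs, Ideal.span_le]
    intro p hp
    exact hV₁ _ (Finset.mem_image_of_mem _ hp)
  let φ₁ : A →+* Γ(X, V₁) := RingHom.liftOfSurjective f.toRingHom hf ⟨ψ₁, hker⟩
  have hφ₁ : φ₁.comp f.toRingHom = ψ₁ := RingHom.liftOfRightInverse_comp _ _ _ _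
  obtain ⟨_, ⟨V, hV, rfl⟩, hxV, iVV₁s⟩ :=
    X.isBasis_affineOpens.exists_subset_of_mem_open hxV₁ V₁.2
  have iVV₁ : V ≤ V₁ := SetLike.coe_subset_coe.mp iVV₁s
  refine ⟨V, hxV, CommRingCat.ofHom ((X.presheaf.map (homOfLE iVV₁).op).hom.comp φ₁),
    iVV₁.trans (iV₁.trans hW₀U), hV, ?_, ?_⟩
  · ext1
    apply (RingHom.cancel_right hf).mp
    rw [← hψ₀]
    refine RingHom.ext fun p => ?_
    have h4 : φ₁ (f.toRingHom p) = X.presheaf.map (homOfLE iV₁).op (ψ₀ p) := congr($hφ₁ p)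
    change X.presheaf.germ W₀ x hxW₀ (ψ₀ p) =
      X.presheaf.germ V x hxV (X.presheaf.map (homOfLE iVV₁).op (φ₁ (f.toRingHom p)))
    rw [h4, TopCat.Presheaf.germ_res_apply, TopCat.Presheaf.germ_res_apply]
  · ext r
    have h3 : f.toRingHom (MvPolynomial.C r) = φRA.hom r := f.commutes r
    have h4 : φ₁ (f.toRingHom (MvPolynomial.C r)) =
        X.presheaf.map (homOfLE iV₁).op (ψ₀ (MvPolynomial.C r)) := congr($hφ₁ _)
    have h5 : ψ₀ (MvPolynomial.C r) = X.presheaf.map (homOfLE hW₀U).op (φRX.hom r) := by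
      simp only [ψ₀, MvPolynomial.eval₂Hom_C, RingHom.comp_apply]
    change X.presheaf.map _ (φRX.hom r) = X.presheaf.map (homOfLE iVV₁).op (φ₁ (φRA.hom r))
    rw [← h3, h4, h5, map_map_apply _ _ (homOfLE (iV₁.trans hW₀U)),
      map_map_apply _ _ (homOfLE (iVV₁.trans (iV₁.trans hW₀U)))]

end Groth.Agent.H54
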