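import Groth.Agent.H54.ZMT2
import Groth.Agent.H54.ValRing
import Groth.Agent.S9681
import Mathlib.AlgebraicGeometry.ValuativeCriterion
import Mathlib.AlgebraicGeometry.Morphisms.UniversallyInjective
import Mathlib.RingTheory.Valuation.LocalSubring

set_option autoImplicit false
universe u

namespace Groth.Agent.H54

open AlgebraicGeometry CategoryTheory Limits IsLocalRing Topology

/-- The image of an integrally closed domain in its fraction field is integrally closed in it. -/
theorem isIntegrallyClosedIn_range (R K : Type*) [CommRing R] [IsDomain R] [IsIntegrallyClosed R]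
    [Field K] [Algebra R K] [IsFractionRing R K] :
    IsIntegrallyClosedIn (algebraMap R K).range K := by
  rw [Subring.isIntegrallyClosedIn_iff]
  intro x hx
  letI : Algebra R (algebraMap R K).range := (algebraMap R K).rangeRestrict.toAlgebra
  haveI : IsScalarTower R (algebraMap R K).range K := IsScalarTower.of_algebraMap_eq (fun r => rfl)
  haveI : Algebra.IsIntegral R (algebraMap R K).range :=
    Algebra.isIntegral_of_surjective (algebraMap R K).rangeRestrict_surjective
  have hx' : IsIntegral R x := isIntegral_trans x hx
  obtain ⟨y, hy⟩ := IsIntegrallyClosed.isIntegral_iff.mp hx'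
  exact ⟨y, hy⟩

/-- An element of the fraction field of an integrally closed local domain that lies in every
valuation ring dominating the local domain lies in the local domain. -/
theorem mem_range_algebraMap_of_forall_valuationSubring {R K : Type*} [CommRing R] [IsLocalRing R]
    [IsDomain R] [IsIntegrallyClosed R] [Field K] [Algebra R K] [IsFractionRing R K] (t : K)
    (H : ∀ V : ValuationSubring K,
      LocalSubring.range (algebraMap R K) ≤ V.toLocalSubring → t ∈ V) :
    t ∈ (algebraMap R K).range := by
  by_contra ht
  have ht' : t ∉ (LocalSubring.range (algebraMap R K)).toSubring := by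
    rwa [LocalSubring.range_toSubring]
  haveI : IsIntegrallyClosedIn (LocalSubring.range (algebraMap R K)).toSubring K := by
    rw [LocalSubring.range_toSubring]; exact isIntegrallyClosedIn_range R K
  obtain ⟨V, hV, htV⟩ := LocalSubring.exists_le_valuationSubring_of_isIntegrallyClosedIn ht'
  exact htV (H V hV)

set_option backward.isDefEq.respectTransparency false in
/-- For a morphism of integral schemes satisfying the existence part of the valuative criterion
and injective on points, every valuation ring of the function field dominating the local ring of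
the image of `u` contains the local ring of `u`. -/
theorem mem_valuationSubring_of_existence {U V : Scheme.{u}} [IsIntegral U] [IsIntegral V]
    (h : U ⟶ V) (hex : ValuativeCriterion.Existence h) (hinj : Function.Injective h) (u : U)
    (hsη : genericPoint V ⤳ h (genericPoint U)) (hsu : genericPoint U ⤳ u)
    (θ : U.presheaf.stalk (genericPoint U) ⟶ V.presheaf.stalk (genericPoint V))
    (F1 : h.stalkMap (genericPoint U) ≫ θ = V.presheaf.stalkSpecializes hsη)
    (R : ValuationSubring V.functionField)
    (hdom : LocalSubring.range (algebraMap (V.presheaf.stalk (h u)) V.functionField) ≤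
      R.toLocalSubring)
    (b : U.presheaf.stalk u) :
    θ (U.presheaf.stalkSpecializes hsu b) ∈ R := by
  classical
  have hsv : genericPoint V ⤳ h u := (genericPoint_spec V).specializes trivial
  obtain ⟨κ, hκ⟩ : ∃ κ : V.presheaf.stalk (genericPoint V) ⟶ CommRingCat.of V.functionField,
      ∀ x, κ.hom x = x := ⟨𝟙 _, fun x => rfl⟩
  have hmem : ∀ a, algebraMap (V.presheaf.stalk (h u)) V.functionField a ∈ R.toSubring :=
    fun a => hdom.1 ⟨a, rfl⟩
  haveI hloc : IsLocalHom ((algebraMap (V.presheaf.stalk (h u)) V.functionField).codRestrict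
      R.toSubring hmem) :=
    @RingHom.isLocalHom_comp _ _ _ _ _ _ _ _ hdom.2
      (.of_surjective _ (algebraMap (V.presheaf.stalk (h u)) V.functionField).rangeRestrict_surjective)
  obtain ⟨cR, hcR⟩ : ∃ cR : V.presheaf.stalk (h u) ⟶ CommRingCat.of R,
      cR = CommRingCat.ofHom ((algebraMap (V.presheaf.stalk (h u)) V.functionField).codRestrict
        R.toSubring hmem) := ⟨_, rfl⟩
  have hκ1 : cR ≫ CommRingCat.ofHom (algebraMap R V.functionField) =
      V.presheaf.stalkSpecializes hsv ≫ κ := by
    rw [hcR]
    refine CommRingCat.hom_ext (RingHom.ext fun a => ?_)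
    show algebraMap (V.presheaf.stalk (h u)) V.functionField a =
      κ.hom (V.presheaf.stalkSpecializes hsv a)
    rw [hκ]
    rfl
  obtain ⟨i₁, hi₁⟩ : ∃ i₁ : Spec (CommRingCat.of V.functionField) ⟶ U,
      i₁ = Spec.map (θ ≫ κ) ≫ U.fromSpecStalk (genericPoint U) := ⟨_, rfl⟩
  obtain ⟨i₂, hi₂⟩ : ∃ i₂ : Spec (CommRingCat.of R) ⟶ V,
      i₂ = Spec.map cR ≫ V.fromSpecStalk (h u) := ⟨_, rfl⟩
  have hi₁h : i₁ ≫ h = Spec.map κ ≫ V.fromSpecStalk (genericPoint V) := by
    rw [hi₁, Category.assoc, ← Scheme.SpecMap_stalkMap_fromSpecStalk, ← Spec.map_comp_assoc,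
      ← Category.assoc, F1, Spec.map_comp, Category.assoc,
      Scheme.SpecMap_stalkSpecializes_fromSpecStalk]
  have hi₂' : Spec.map (CommRingCat.ofHom (algebraMap R V.functionField)) ≫ i₂ =
      Spec.map κ ≫ V.fromSpecStalk (genericPoint V) := by
    rw [hi₂, ← Spec.map_comp_assoc, hκ1, Spec.map_comp, Category.assoc,
      Scheme.SpecMap_stalkSpecializes_fromSpecStalk]
  have w : i₁ ≫ h = Spec.map (CommRingCat.ofHom (algebraMap R V.functionField)) ≫ i₂ :=
    hi₁h.trans hi₂'.symm
  obtain ⟨l, hl₁, hl₂⟩ : ∃ l : Spec (CommRingCat.of R) ⟶ U,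
      Spec.map (CommRingCat.ofHom (algebraMap R V.functionField)) ≫ l = i₁ ∧ l ≫ h = i₂ := by
    obtain ⟨l, hl₁, hl₂⟩ :=
      (hex { R := R, K := V.functionField, i₁ := i₁, i₂ := i₂, commSq := ⟨w⟩, .. }).exists_lift
    exact ⟨l, hl₁, hl₂⟩
  have hu' : l (closedPoint R) = u := by
    apply hinj
    rw [← Scheme.Hom.comp_apply, hl₂, hi₂, Scheme.Hom.comp_apply]
    have hcp : Spec.map cR (closedPoint R) = closedPoint (V.presheaf.stalk (h u)) := by
      rw [hcR]
      exact comap_closedPoint (S := R)
        ((algebraMap (V.presheaf.stalk (h u)) V.functionField).codRestrict R.toSubring hmem)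
    rw [hcp, V.fromSpecStalk_closedPoint]
  have hs' : genericPoint U ⤳ l (closedPoint R) := (genericPoint_spec U).specializes trivial
  have hlam : Scheme.stalkClosedPointTo l ≫ CommRingCat.ofHom (algebraMap R V.functionField) =
      U.presheaf.stalkSpecializes hs' ≫ θ ≫ κ := by
    apply Spec.map_injective
    rw [← cancel_mono (U.fromSpecStalk (l (closedPoint R)))]
    have hL : Spec.map (Scheme.stalkClosedPointTo l ≫
        CommRingCat.ofHom (algebraMap R V.functionField)) ≫
        U.fromSpecStalk (l (closedPoint R)) = i₁ := by
      rw [Spec.map_comp, Category.assoc, Scheme.Spec_stalkClosedPointTo_fromSpecStalk, hl₁]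
    have hR : Spec.map (U.presheaf.stalkSpecializes hs' ≫ θ ≫ κ) ≫
        U.fromSpecStalk (l (closedPoint R)) = i₁ := by
      rw [hi₁, Spec.map_comp, Category.assoc, Scheme.SpecMap_stalkSpecializes_fromSpecStalk]
    exact hL.trans hR.symm
  have hspec : l (closedPoint R) ⤳ u := specializes_of_eq hu'
  have hcomp : U.presheaf.stalkSpecializes hspec ≫ U.presheaf.stalkSpecializes hs' =
      U.presheaf.stalkSpecializes hsu := TopCat.Presheaf.stalkSpecializes_comp _ hs' hspec
  have key : (θ ≫ κ).hom (U.presheaf.stalkSpecializes hsu b) =
      algebraMap R V.functionField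
        (Scheme.stalkClosedPointTo l (U.presheaf.stalkSpecializes hspec b)) := by
    rw [← hcomp]
    have := congrArg (fun φ => φ.hom (U.presheaf.stalkSpecializes hspec b)) hlam
    exact this.symm
  have h1 : (θ ≫ κ).hom (U.presheaf.stalkSpecializes hsu b) ∈ R := by
    rw [key]
    exact (Scheme.stalkClosedPointTo l (U.presheaf.stalkSpecializes hspec b)).2
  have h2 : (θ ≫ κ).hom (U.presheaf.stalkSpecializes hsu b) =
      θ (U.presheaf.stalkSpecializes hsu b) := hκ _
  rw [h2] at h1
  exact h1

/-- Surjectivity of the stalk maps of a birational injective morphism satisfying the existence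
part of the valuative criterion, at points lying over normal points. -/
theorem stalkMap_surjective_of_existence {U V : Scheme.{u}} [IsIntegral U] [IsIntegral V]
    (h : U ⟶ V) (hex : ValuativeCriterion.Existence h) (hinj : Function.Injective h)
    [IsIso (h.stalkMap (genericPoint U))] (u : U)
    (hic : IsIntegrallyClosed (V.presheaf.stalk (h u))) :
    Function.Surjective (h.stalkMap u) := by
  haveI := hic
  have hsη : genericPoint V ⤳ h (genericPoint U) := (genericPoint_spec V).specializes trivial
  have hsv : genericPoint V ⤳ h u := (genericPoint_spec V).specializes trivial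
  have hsu : genericPoint U ⤳ u := (genericPoint_spec U).specializes trivial
  have hsξv : h (genericPoint U) ⤳ h u := h.base.hom.map_specializes hsu
  obtain ⟨θ, hθ⟩ : ∃ θ : U.presheaf.stalk (genericPoint U) ⟶ V.presheaf.stalk (genericPoint V),
      θ = inv (h.stalkMap (genericPoint U)) ≫ V.presheaf.stalkSpecializes hsη := ⟨_, rfl⟩
  have F1 : h.stalkMap (genericPoint U) ≫ θ = V.presheaf.stalkSpecializes hsη := by
    rw [hθ, IsIso.hom_inv_id_assoc]
  have F2 : h.stalkMap u ≫ U.presheaf.stalkSpecializes hsu ≫ θ =
      V.presheaf.stalkSpecializes hsv := by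
    rw [← Category.assoc, ← Scheme.Hom.stalkSpecializes_stalkMap h (genericPoint U) u hsu,
      Category.assoc, F1]
    exact TopCat.Presheaf.stalkSpecializes_comp _ hsη hsξv
  have hθinj : Function.Injective θ := by
    have i1 : Function.Injective (inv (h.stalkMap (genericPoint U))) :=
      ((ConcreteCategory.isIso_iff_bijective _).mp inferInstance).1
    have i2 : Function.Injective (V.presheaf.stalkSpecializes hsη) :=
      stalkSpecializes_injective_of_eq_genericPoint (h (genericPoint U)) _ rfl hsη
    intro x y hxy
    rw [hθ] at hxy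
    exact i1 (i2 hxy)
  have hsUinj : Function.Injective (U.presheaf.stalkSpecializes hsu) :=
    stalkSpecializes_injective_of_eq_genericPoint u _ rfl hsu
  intro b
  have hmemR : θ (U.presheaf.stalkSpecializes hsu b) ∈
      (algebraMap (V.presheaf.stalk (h u)) V.functionField).range := by
    apply mem_range_algebraMap_of_forall_valuationSubring
    intro R hdom
    exact mem_valuationSubring_of_existence h hex hinj u hsη hsu θ F1 R hdom b
  obtain ⟨a, ha⟩ := hmemR
  refine ⟨a, ?_⟩
  apply hsUinj
  apply hθinj
  have e1 : θ (U.presheaf.stalkSpecializes hsu (h.stalkMap u a)) =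
      V.presheaf.stalkSpecializes hsv a := congrArg (fun φ => φ.hom a) F2
  rw [e1]
  exact ha

/-- A universally closed, universally injective, birational morphism from an integral scheme to a
normal integral scheme is an isomorphism. -/
theorem isIso_of_universallyClosed_radicial_birational {U V : Scheme.{u}} [IsIntegral U]
    [IsIntegral V] (hN : ∀ v : V, IsIntegrallyClosed (V.presheaf.stalk v)) (h : U ⟶ V)
    [UniversallyClosed h] [UniversallyInjective h]
    (hgen : h (genericPoint U) = genericPoint V)
    (hbir : Function.Bijective (h.residueFieldMap (genericPoint U)).hom) : IsIso h := by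
  haveI h1 : IsIso (U.residue (genericPoint U)) := Groth.Agent.S9681.isIso_residue_genericPoint U
  haveI h2 : IsIso (V.residue (h (genericPoint U))) := by
    rw [hgen]; exact Groth.Agent.S9681.isIso_residue_genericPoint V
  haveI h3 : IsIso (h.residueFieldMap (genericPoint U)) :=
    (ConcreteCategory.isIso_iff_bijective _).mpr hbir
  haveI hstalk : IsIso (h.stalkMap (genericPoint U)) := by
    haveI : IsIso (h.stalkMap (genericPoint U) ≫ U.residue (genericPoint U)) := by
      rw [← Scheme.residue_residueFieldMap]; infer_instance
    exact IsIso.of_isIso_comp_right (h.stalkMap (genericPoint U)) (U.residue (genericPoint U))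
  have hex : ValuativeCriterion.Existence h := existence_of_universallyClosed h
  have hinj : Function.Injective h := h.injective
  haveI hall : ∀ u, IsIso (h.stalkMap u) := fun u => by
    rw [ConcreteCategory.isIso_iff_bijective]
    refine ⟨?_, stalkMap_surjective_of_existence h hex hinj u (hN _)⟩
    have hsu : genericPoint U ⤳ u := (genericPoint_spec U).specializes trivial
    have hsξv : h (genericPoint U) ⤳ h u := h.base.hom.map_specializes hsu
    have hnat : ∀ a : V.presheaf.stalk (h u),
        h.stalkMap (genericPoint U) (V.presheaf.stalkSpecializes hsξv a) =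
          U.presheaf.stalkSpecializes hsu (h.stalkMap u a) :=
      fun a => Scheme.Hom.stalkSpecializes_stalkMap_apply h (genericPoint U) u hsu a
    have hσ : Function.Injective (h.stalkMap (genericPoint U)) :=
      ((ConcreteCategory.isIso_iff_bijective _).mp hstalk).1
    have hinjV : Function.Injective (V.presheaf.stalkSpecializes hsξv) :=
      stalkSpecializes_injective_of_eq_genericPoint (h u) _ hgen hsξv
    intro a a' haa'
    apply hinjV
    apply hσ
    rw [hnat, hnat, haa']
  have hclosed : IsClosedMap h := h.isClosedMap
  have hsurj : Function.Surjective h := by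
    intro v
    have hcl : IsClosed (Set.range h) := hclosed.isClosed_range
    have hsub : closure {genericPoint V} ⊆ Set.range h :=
      hcl.closure_subset_iff.mpr (Set.singleton_subset_iff.mpr ⟨genericPoint U, hgen⟩)
    rw [(genericPoint_spec V).def] at hsub
    exact hsub trivial
  have hemb : IsOpenEmbedding h :=
    ((Equiv.ofBijective h ⟨hinj, hsurj⟩).toHomeomorphOfContinuousClosed h.continuous
      hclosed).isOpenEmbedding
  haveI : IsOpenImmersion h := IsOpenImmersion.of_isIso_stalkMap h hemb
  haveI : Surjective h := ⟨hsurj⟩
  exact (isIso_iff_isOpenImmersion_and_surjective h).mpr ⟨inferInstance, inferInstance⟩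

end Groth.Agent.H54
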