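import Mathlib.AlgebraicGeometry.ZariskisMainTheorem
import Mathlib.AlgebraicGeometry.Morphisms.FormallyUnramified
import Mathlib.AlgebraicGeometry.FunctionField
import Mathlib.RingTheory.LocalProperties.IntegrallyClosed
import Mathlib.FieldTheory.IsAlgClosed.AlgebraicClosure

set_option autoImplicit false
universe u

namespace Groth.Agent.H54

open AlgebraicGeometry CategoryTheory Limits

/-- A proper, formally unramified morphism which is injective on points with values in
algebraically closed fields is a closed immersion. -/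
theorem isClosedImmersion_of_isProper_of_formallyUnramified {X Y : Scheme.{u}} (f : X ⟶ Y)
    [IsProper f] [FormallyUnramified f]
    (hinj : ∀ (Ω : Type u) [Field Ω] [IsAlgClosed Ω],
      Function.Injective (fun g : Spec (CommRingCat.of Ω) ⟶ X => g ≫ f)) :
    IsClosedImmersion f := by
  rw [IsClosedImmersion.iff_isProper_and_mono]
  refine ⟨inferInstance, ?_⟩
  rw [← pullback.isIso_diagonal_iff, isIso_iff_isOpenImmersion_and_surjective]
  refine ⟨inferInstance, ⟨fun z => ?_⟩⟩
  obtain ⟨g, hg⟩ : ∃ g : Spec (CommRingCat.of (AlgebraicClosure ((pullback f f).residueField z))) ⟶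
      pullback f f, g = Spec.map (CommRingCat.ofHom (algebraMap ((pullback f f).residueField z)
        (AlgebraicClosure ((pullback f f).residueField z)))) ≫
        (pullback f f).fromSpecResidueField z := ⟨_, rfl⟩
  have h1 : (g ≫ pullback.fst f f) ≫ f = (g ≫ pullback.snd f f) ≫ f := by
    simp only [Category.assoc, pullback.condition]
  have h2 : g ≫ pullback.fst f f = g ≫ pullback.snd f f := hinj _ h1
  have h3 : g = (g ≫ pullback.fst f f) ≫ pullback.diagonal f := by
    apply pullback.hom_ext
    · simp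
    · simp [h2]
  have hz : g (IsLocalRing.closedPoint _) = z := by
    rw [hg, Scheme.Hom.comp_apply, Scheme.fromSpecResidueField_apply]
  refine ⟨(g ≫ pullback.fst f f) (IsLocalRing.closedPoint _), ?_⟩
  rw [← Scheme.Hom.comp_apply, ← h3, hz]

/-- A normal affine open has integrally closed coordinate ring. -/
theorem isIntegrallyClosed_of_isAffineOpen {Y : Scheme.{u}} [IsIntegral Y]
    (hN : ∀ y : Y, IsIntegrallyClosed (Y.presheaf.stalk y)) {V : Y.Opens} (hV : IsAffineOpen V)
    [Nonempty V] : IsIntegrallyClosed Γ(Y, V) := by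
  refine IsIntegrallyClosed.of_localization_maximal fun p _ hp => ?_
  haveI := hp
  have hmem : hV.fromSpec ⟨p, hp.isPrime⟩ ∈ V := by
    have : hV.fromSpec ⟨p, hp.isPrime⟩ ∈ Set.range hV.fromSpec := Set.mem_range_self _
    rwa [hV.range_fromSpec] at this
  have hpr : hV.primeIdealOf ⟨hV.fromSpec ⟨p, hp.isPrime⟩, hmem⟩ = ⟨p, hp.isPrime⟩ :=
    hV.fromSpec.isOpenEmbedding.injective (hV.fromSpec_primeIdealOf _)
  letI := Y.presheaf.algebra_section_stalk ⟨hV.fromSpec ⟨p, hp.isPrime⟩, hmem⟩
  haveI h1 := hV.isLocalization_stalk ⟨hV.fromSpec ⟨p, hp.isPrime⟩, hmem⟩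
  rw [hpr] at h1
  haveI := hN (hV.fromSpec ⟨p, hp.isPrime⟩)
  exact IsIntegrallyClosed.of_equiv (IsLocalization.algEquiv p.primeCompl
    (Y.presheaf.stalk (hV.fromSpec ⟨p, hp.isPrime⟩)) (Localization.AtPrime p)).toRingEquiv

/-- Integrality over sections of a normal affine open, tested in the stalk at a point equal to the
generic point. -/
theorem exists_germ_eq_of_monic {Y : Scheme.{u}} [IsIntegral Y]
    (hN : ∀ y : Y, IsIntegrallyClosed (Y.presheaf.stalk y)) {V : Y.Opens} (hV : IsAffineOpen V)
    (y₀ : Y) (h₀ : y₀ = genericPoint Y) (hy₀ : y₀ ∈ V) (α : Y.presheaf.stalk y₀)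
    (p : Polynomial Γ(Y, V)) (hp : p.Monic)
    (hα : Polynomial.eval₂ (Y.presheaf.germ V y₀ hy₀).hom α p = 0) :
    ∃ a : Γ(Y, V), Y.presheaf.germ V y₀ hy₀ a = α := by
  subst h₀
  haveI : Nonempty V := ⟨⟨_, hy₀⟩⟩
  haveI := isIntegrallyClosed_of_isAffineOpen hN hV
  haveI := functionField_isFractionRing_of_isAffineOpen Y V hV
  have hint : _root_.IsIntegral Γ(Y, V) (α : Y.functionField) := ⟨p, hp, hα⟩
  obtain ⟨a, ha⟩ := IsIntegrallyClosed.isIntegral_iff.mp hint
  exact ⟨a, ha⟩

/-- An integral birational morphism of integral schemes with normal target is an isomorphism. -/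
theorem isIso_of_isIntegralHom_of_birational {Y' Y : Scheme.{u}} [IsIntegral Y'] [IsIntegral Y]
    (hN : ∀ y : Y, IsIntegrallyClosed (Y.presheaf.stalk y)) (u : Y' ⟶ Y) [IsIntegralHom u]
    (hgen : u (genericPoint Y') = genericPoint Y)
    (hbir : IsIso (u.stalkMap (genericPoint Y'))) : IsIso u := by
  change MorphismProperty.isomorphisms Scheme u
  rw [IsZariskiLocalAtTarget.iff_of_iSup_eq_top (P := MorphismProperty.isomorphisms Scheme)
    (fun V : Y.affineOpens => (V : Y.Opens)) (iSup_affineOpens_eq_top Y)]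
  intro V
  change IsIso (u ∣_ (V : Y.Opens))
  rw [isIso_morphismRestrict_iff_isIso_app u V.2, ConcreteCategory.isIso_iff_bijective]
  by_cases hne : Nonempty (V : Y.Opens)
  · have hηV : u (genericPoint Y') ∈ (V : Y.Opens) := by
      rw [hgen]
      obtain ⟨⟨v, hv⟩⟩ := hne
      exact ((genericPoint_spec Y).mem_open_set_iff V.1.2).mpr ⟨v, trivial, hv⟩
    have hσ : Function.Bijective (u.stalkMap (genericPoint Y')) :=
      (ConcreteCategory.isIso_iff_bijective _).mp hbir
    have hgY' := germ_injective_of_isIntegral Y' (genericPoint Y') (U := u ⁻¹ᵁ (V : Y.Opens)) hηV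
    have hgY := germ_injective_of_isIntegral Y (u (genericPoint Y')) (U := (V : Y.Opens)) hηV
    have hcomp : ∀ a : Γ(Y, (V : Y.Opens)),
        u.stalkMap (genericPoint Y') (Y.presheaf.germ _ (u (genericPoint Y')) hηV a) =
          Y'.presheaf.germ (u ⁻¹ᵁ (V : Y.Opens)) (genericPoint Y') hηV (u.app V a) :=
      fun a => u.germ_stalkMap_apply V (genericPoint Y') hηV a
    refine ⟨fun a b hab => ?_, fun b => ?_⟩
    · apply hgY
      apply hσ.1
      rw [hcomp, hcomp]
      exact congrArg _ hab
    · obtain ⟨p, hp, hpb⟩ := u.isIntegral_app V V.2 b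
      obtain ⟨α, hα⟩ := hσ.2 (Y'.presheaf.germ (u ⁻¹ᵁ (V : Y.Opens)) (genericPoint Y') hηV b)
      have hα' : Polynomial.eval₂ (Y.presheaf.germ V (u (genericPoint Y')) hηV).hom α p = 0 := by
        apply hσ.1
        rw [map_zero]
        have e1 := Polynomial.hom_eval₂ p (Y.presheaf.germ V (u (genericPoint Y')) hηV).hom
          (u.stalkMap (genericPoint Y')).hom α
        have e2 := Polynomial.hom_eval₂ p (u.app V).hom
          (Y'.presheaf.germ (u ⁻¹ᵁ (V : Y.Opens)) (genericPoint Y') hηV).hom b
        have e3 : (u.stalkMap (genericPoint Y')).hom.comp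
            (Y.presheaf.germ V (u (genericPoint Y')) hηV).hom =
            (Y'.presheaf.germ (u ⁻¹ᵁ (V : Y.Opens)) (genericPoint Y') hηV).hom.comp
              (u.app V).hom := RingHom.ext hcomp
        have e1' : u.stalkMap (genericPoint Y')
            (Polynomial.eval₂ (Y.presheaf.germ V (u (genericPoint Y')) hηV).hom α p) = _ := e1
        rw [e1', e3]
        have hα'' : (u.stalkMap (genericPoint Y')).hom α =
            (Y'.presheaf.germ (u ⁻¹ᵁ (V : Y.Opens)) (genericPoint Y') hηV).hom b := hα
        rw [hα'', ← e2, hpb, map_zero]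
      obtain ⟨a, ha⟩ := exists_germ_eq_of_monic hN V.2 _ hgen hηV α p hp hα'
      refine ⟨a, ?_⟩
      apply hgY'
      rw [← hcomp, ha]
      exact hα
  · have hV : (V : Y.Opens) = ⊥ := by
      ext x
      simp only [TopologicalSpace.Opens.coe_bot, Set.mem_empty_iff_false, iff_false]
      exact fun hx => hne ⟨⟨x, hx⟩⟩
    haveI : Subsingleton Γ(Y', u ⁻¹ᵁ (V : Y.Opens)) := by
      rw [hV]
      exact inferInstanceAs (Subsingleton Γ(Y', ⊥))
    haveI : Subsingleton Γ(Y, (V : Y.Opens)) := by
      rw [hV]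
      infer_instance
    exact ⟨fun a b _ => Subsingleton.elim _ _, fun b => ⟨0, Subsingleton.elim _ _⟩⟩

/-- Zariski's main theorem for birational quasi-finite separated morphisms onto a normal scheme. -/
theorem isOpenImmersion_of_birational_of_isSeparated {X Y : Scheme.{u}} [IsIntegral X]
    [IsIntegral Y] (hN : ∀ y : Y, IsIntegrallyClosed (Y.presheaf.stalk y)) (f : X ⟶ Y)
    [LocallyQuasiFinite f] [LocallyOfFiniteType f] [IsSeparated f] [QuasiCompact f]
    (hgen : f (genericPoint X) = genericPoint Y)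
    (hbir : IsIso (f.stalkMap (genericPoint X))) : IsOpenImmersion f := by
  have ht : f.toNormalization (genericPoint X) = genericPoint f.normalization :=
    genericPoint_eq_of_isOpenImmersion f.toNormalization
  have hfac := f.toNormalization_fromNormalization
  have hgen' : f.fromNormalization (genericPoint f.normalization) = genericPoint Y := by
    rw [← ht, ← Scheme.Hom.comp_apply, hfac, hgen]
  have hbir' : IsIso (f.fromNormalization.stalkMap (genericPoint f.normalization)) := by
    have h1 : IsIso ((f.toNormalization ≫ f.fromNormalization).stalkMap (genericPoint X)) := by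
      rw [hfac]; exact hbir
    rw [Scheme.Hom.stalkMap_comp] at h1
    have h2 : IsIso (f.fromNormalization.stalkMap (f.toNormalization (genericPoint X))) :=
      @IsIso.of_isIso_comp_right _ _ _ _ _
        (f.fromNormalization.stalkMap (f.toNormalization (genericPoint X)))
        (f.toNormalization.stalkMap (genericPoint X)) inferInstance h1
    rw [ht] at h2; exact h2
  haveI := isIso_of_isIntegralHom_of_birational hN f.fromNormalization hgen' hbir'
  rw [← hfac]; infer_instance

/-- Restriction of a birational quasi-finite morphism onto a normal scheme to opens on which it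
is separated and quasi-compact is an open immersion. -/
theorem isOpenImmersion_resLE_of_birational {X Y : Scheme.{u}} [IsIntegral X] [IsIntegral Y]
    (hN : ∀ y : Y, IsIntegrallyClosed (Y.presheaf.stalk y)) (f : X ⟶ Y) [LocallyQuasiFinite f]
    [LocallyOfFiniteType f] (hgen : f (genericPoint X) = genericPoint Y)
    (hbir : IsIso (f.stalkMap (genericPoint X)))
    (U : X.Opens) (V : Y.Opens) (e : U ≤ f ⁻¹ᵁ V) (x₀ : X) (hx₀ : x₀ ∈ U)
    [IsSeparated (f.resLE V U e)] [QuasiCompact (f.resLE V U e)] :
    IsOpenImmersion (f.resLE V U e) := by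
  haveI : Nonempty ↥(U : Scheme.{u}) := ⟨⟨x₀, hx₀⟩⟩
  haveI : Nonempty ↥(V : Scheme.{u}) := ⟨⟨f x₀, e hx₀⟩⟩
  haveI : IsIntegral (U : Scheme.{u}) := isIntegral_of_isOpenImmersion U.ι
  haveI : IsIntegral (V : Scheme.{u}) := isIntegral_of_isOpenImmersion V.ι
  haveI : LocallyQuasiFinite (f.resLE V U e) := IsZariskiLocalAtSource.resLE e inferInstance
  haveI : LocallyOfFiniteType (f.resLE V U e) := IsZariskiLocalAtSource.resLE e inferInstance
  have hNV : ∀ v : (V : Scheme.{u}), IsIntegrallyClosed ((V : Scheme.{u}).presheaf.stalk v) :=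
    fun v => by
      haveI := hN (V.ι v)
      exact IsIntegrallyClosed.of_equiv (asIso (V.ι.stalkMap v)).commRingCatIsoToRingEquiv
  have hUη : U.ι (genericPoint (U : Scheme.{u})) = genericPoint X :=
    genericPoint_eq_of_isOpenImmersion U.ι
  have hVη : V.ι (genericPoint (V : Scheme.{u})) = genericPoint Y :=
    genericPoint_eq_of_isOpenImmersion V.ι
  have hcomp : f.resLE V U e ≫ V.ι = U.ι ≫ f := Scheme.Hom.resLE_comp_ι f e
  have hgen_g : f.resLE V U e (genericPoint (U : Scheme.{u})) = genericPoint (V : Scheme.{u}) := by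
    apply V.ι.isOpenEmbedding.injective
    rw [← Scheme.Hom.comp_apply, hcomp, Scheme.Hom.comp_apply, hUη, hgen, hVη]
  have hbir_g : IsIso ((f.resLE V U e).stalkMap (genericPoint (U : Scheme.{u}))) := by
    have h1 : IsIso (f.stalkMap (U.ι (genericPoint (U : Scheme.{u})))) := by rw [hUη]; exact hbir
    have h2 : IsIso ((U.ι ≫ f).stalkMap (genericPoint (U : Scheme.{u}))) := by
      rw [Scheme.Hom.stalkMap_comp]
      exact @IsIso.comp_isIso _ _ _ _ _ _ _ h1 inferInstance
    have h3 : IsIso ((f.resLE V U e ≫ V.ι).stalkMap (genericPoint (U : Scheme.{u}))) := by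
      rw [hcomp]; exact h2
    rw [Scheme.Hom.stalkMap_comp] at h3
    exact @IsIso.of_isIso_comp_left _ _ _ _ _
      (V.ι.stalkMap (f.resLE V U e (genericPoint (U : Scheme.{u}))))
      ((f.resLE V U e).stalkMap (genericPoint (U : Scheme.{u}))) inferInstance h3
  exact isOpenImmersion_of_birational_of_isSeparated hNV (f.resLE V U e) hgen_g hbir_g

end Groth.Agent.H54
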