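import Mathlib
import Groth.Prelude.Def_MoreMor
import Groth.Agent.H7.GeomFibre

/-!
# Positivity of the weights `length × insep degree` (helper54, (R1) for helper2's S1421)
-/

set_option autoImplicit false
universe u
open AlgebraicGeometry CategoryTheory Limits

namespace Groth.Agent.H54.WtPos

theorem length_pos_of_quasiFinite (A B : Type u) [CommRing A] [CommRing B] [IsLocalRing A]
    [IsLocalRing B] [Algebra A B] [IsLocalHom (algebraMap A B)] [Algebra.QuasiFinite A B] :
    0 < (Module.length B
      (B ⧸ Ideal.map (algebraMap A B) (IsLocalRing.maximalIdeal A))).toNat := by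
  have hle : Ideal.map (algebraMap A B) (IsLocalRing.maximalIdeal A) ≤
      IsLocalRing.maximalIdeal B := by
    rw [Ideal.map_le_iff_le_comap]
    intro a ha
    rw [Ideal.mem_comap, IsLocalRing.mem_maximalIdeal, mem_nonunits_iff]
    rw [IsLocalRing.mem_maximalIdeal, mem_nonunits_iff] at ha
    exact fun hu => ha (isUnit_of_map_unit (algebraMap A B) a hu)
  have hne : Ideal.map (algebraMap A B) (IsLocalRing.maximalIdeal A) ≠ ⊤ := fun h =>
    (IsLocalRing.maximalIdeal.isMaximal B).ne_top (top_le_iff.mp (h ▸ hle))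
  haveI : Nontrivial (B ⧸ Ideal.map (algebraMap A B) (IsLocalRing.maximalIdeal A)) :=
    Ideal.Quotient.nontrivial_iff.mpr hne
  letI : Field (A ⧸ IsLocalRing.maximalIdeal A) := Ideal.Quotient.field _
  haveI : Algebra.QuasiFinite A (B ⧸ Ideal.map (algebraMap A B) (IsLocalRing.maximalIdeal A)) :=
    inferInstance
  haveI : Algebra.QuasiFinite (A ⧸ IsLocalRing.maximalIdeal A)
      (B ⧸ Ideal.map (algebraMap A B) (IsLocalRing.maximalIdeal A)) :=
    Algebra.QuasiFinite.of_restrictScalars A _ _
  haveI : Module.Finite (A ⧸ IsLocalRing.maximalIdeal A)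
      (B ⧸ Ideal.map (algebraMap A B) (IsLocalRing.maximalIdeal A)) :=
    Module.Finite.of_quasiFinite
  haveI : IsArtinianRing (B ⧸ Ideal.map (algebraMap A B) (IsLocalRing.maximalIdeal A)) :=
    IsArtinianRing.of_finite (A ⧸ IsLocalRing.maximalIdeal A) _
  have h1 : Module.length B (B ⧸ Ideal.map (algebraMap A B) (IsLocalRing.maximalIdeal A)) =
      Module.length (B ⧸ Ideal.map (algebraMap A B) (IsLocalRing.maximalIdeal A))
        (B ⧸ Ideal.map (algebraMap A B) (IsLocalRing.maximalIdeal A)) :=
    Module.length_eq_of_surjective Ideal.Quotient.mk_surjective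
  have h2 : Module.length (B ⧸ Ideal.map (algebraMap A B) (IsLocalRing.maximalIdeal A))
      (B ⧸ Ideal.map (algebraMap A B) (IsLocalRing.maximalIdeal A)) ≠ ⊤ :=
    Module.length_ne_top
  have h3 : Module.length B (B ⧸ Ideal.map (algebraMap A B) (IsLocalRing.maximalIdeal A)) ≠ 0 :=
    (Module.length_pos_iff.mpr inferInstance).ne'
  exact ENat.toNat_pos h3 (h1 ▸ h2)

/-- (R1) -/
theorem wt_pos {X Y : Scheme.{u}} (f : X ⟶ Y) [LocallyQuasiFinite f] [LocallyOfFiniteType f] (x : X) :
    0 < (Module.length ↑(X.presheaf.stalk x) (↑(X.presheaf.stalk x) ⧸ Ideal.map (f.stalkMap x).hom (IsLocalRing.maximalIdeal ↑(Y.presheaf.stalk (f x))))).toNat ∧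
    0 < (letI := (f.residueFieldMap x).hom.toAlgebra;
       Field.finInsepDegree (Y.residueField (f x)) (X.residueField x)) := by
  constructor
  · letI := (f.stalkMap x).hom.toAlgebra
    haveI hloc : IsLocalHom (algebraMap (Y.presheaf.stalk (f x)) (X.presheaf.stalk x)) :=
      inferInstanceAs (IsLocalHom (f.stalkMap x).hom)
    haveI hqf : Algebra.QuasiFinite (Y.presheaf.stalk (f x)) (X.presheaf.stalk x) :=
      f.quasiFiniteAt x
    exact length_pos_of_quasiFinite (Y.presheaf.stalk (f x)) (X.presheaf.stalk x)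
  · letI := (f.residueFieldMap x).hom.toAlgebra
    haveI hfin : Module.Finite (Y.residueField (f x)) (X.residueField x) :=
      Groth.Agent.H7.finite_residueFieldMap f x (f.quasiFiniteAt x)
    have h1 := Field.finSepDegree_mul_finInsepDegree (Y.residueField (f x)) (X.residueField x)
    have h2 : 0 < Module.finrank (Y.residueField (f x)) (X.residueField x) := Module.finrank_pos
    rw [← h1] at h2
    exact Nat.pos_of_mul_pos_left h2 |> fun h => by
      rcases Nat.eq_zero_or_pos (Field.finInsepDegree (Y.residueField (f x)) (X.residueField x)) with h0 | h0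
      · rw [h0, mul_zero] at h2; exact absurd h2 (lt_irrefl 0)
      · exact h0

end Groth.Agent.H54.WtPos
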