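import Mathlib
import Groth.Prelude
import Groth.Agent.H9.ComapIdeal

/-! (FLAT) for helper95's S7927 squad: the inverse image of an effective Cartier ideal under a flat
morphism is effective Cartier. -/

set_option autoImplicit false
universe u
open CategoryTheory CategoryTheory.Limits AlgebraicGeometry

namespace Groth.Agent.H54.CD_FLAT

/-- A flat ring homomorphism maps nonzerodivisors to nonzerodivisors. -/
theorem map_mem_nonZeroDivisors_of_flat {A B : Type u} [CommRing A] [CommRing B] (φ : A →+* B)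
    (hφ : φ.Flat) {a : A} (ha : a ∈ nonZeroDivisors A) : φ a ∈ nonZeroDivisors B := by
  letI := φ.toAlgebra
  haveI : Module.Flat A B := hφ
  have hreg : IsSMulRegular B a := Module.Flat.isSMulRegular_of_nonZeroDivisors ha
  rw [mem_nonZeroDivisors_iff_left]
  intro b hb
  apply hreg
  show a • b = a • (0 : B)
  rw [smul_zero, Algebra.smul_def]
  exact hb

/-- (FLAT) -/
theorem FLAT {X Y : Scheme.{u}} (f : X ⟶ Y) [Flat f] (I : Y.IdealSheafData)
    (hI : BlowUp.IsEffCartierIdeal I) : BlowUp.IsEffCartierIdeal (I.comap f) := by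
  intro x
  obtain ⟨U, hxU, a, ha, hIa⟩ := hI (f x)
  obtain ⟨V, hV, hxV, hVU⟩ := TopologicalSpace.Opens.isBasis_iff_nbhd.mp X.isBasis_affineOpens
    (show x ∈ f ⁻¹ᵁ U.1 from hxU)
  have hflat : (f.appLE U.1 V hVU).hom.Flat :=
    HasRingHomProperty.appLE (P := @Flat) f ‹Flat f› U ⟨V, hV⟩ hVU
  refine ⟨⟨V, hV⟩, hxV, (f.appLE U.1 V hVU).hom a,
    map_mem_nonZeroDivisors_of_flat _ hflat ha, ?_⟩
  rw [Groth.Agent.H9.comap_ideal f I U ⟨V, hV⟩ hVU, hIa, Ideal.map_span, Set.image_singleton]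

end Groth.Agent.H54.CD_FLAT
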