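import Mathlib

set_option autoImplicit false
set_option backward.isDefEq.respectTransparency.types false
universe u
open CategoryTheory CategoryTheory.Limits Opposite

namespace Groth.Agent.H54.EpsM_E1c

variable (Λ : Type (u + 1)) [CommRing Λ]

/-- (E1c) sheafification commutes with the forgetful functor: bijectivity of `toSheafify` on sections
can be checked on underlying types. -/
theorem bijective_toSheafify_of_forget {C : Type (u + 1)} [Category.{u} C]
    (J : GrothendieckTopology C) [HasSheafify J (ModuleCat.{u + 1} Λ)]
    [HasSheafify J (Type (u + 1))] (P : Cᵒᵖ ⥤ (ModuleCat.{u + 1} Λ)) (W : C)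
    (h : Function.Bijective ((toSheafify J (P ⋙ forget (ModuleCat.{u + 1} Λ))).app (op W))) :
    Function.Bijective ((toSheafify J P).app (op W)).hom := by
  have e := sheafComposeIso_hom_fac J (forget (ModuleCat.{u + 1} Λ)) P
  have e' := congrArg (fun t => t.app (op W)) e
  simp only [NatTrans.comp_app, Functor.whiskerRight_app] at e'
  have hiso : Function.Bijective
      ((sheafifyComposeIso J (forget (ModuleCat.{u + 1} Λ)) P).hom.app (op W)) :=
    (isIso_iff_bijective _).mp inferInstance
  have key : ∀ x, ((sheafifyComposeIso J (forget (ModuleCat.{u + 1} Λ)) P).hom.app (op W))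
      (((toSheafify J (P ⋙ forget (ModuleCat.{u + 1} Λ))).app (op W)) x) =
      ((toSheafify J P).app (op W)).hom x := fun x => ConcreteCategory.congr_hom e' x
  have hfun : ⇑((toSheafify J P).app (op W)).hom =
      ⇑(ConcreteCategory.hom ((sheafifyComposeIso J (forget (ModuleCat.{u + 1} Λ)) P).hom.app (op W))) ∘
        ⇑(ConcreteCategory.hom ((toSheafify J (P ⋙ forget (ModuleCat.{u + 1} Λ))).app (op W))) :=
    funext fun x => (key x).symm
  rw [hfun]
  exact hiso.comp h

end Groth.Agent.H54.EpsM_E1c
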