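import Mathlib
import Groth.Prelude.Def_PBC
import Groth.Prelude.Def_ProEtS
import Groth.Prelude.Def_EtModW
import Groth.Agent.H23.EpsDefs
import Groth.Agent.H23.EpsDefsM
import Groth.Agent.H23.WCDefs

/-!
# (U0)-M of helper23's squad #11: port of `Groth.Agent.H96.Eps_U0` to sheaves of `Λ`-modules.
-/

set_option autoImplicit false
set_option backward.isDefEq.respectTransparency.types false
universe u
open CategoryTheory CategoryTheory.Limits AlgebraicGeometry Opposite
open Groth.Agent.H23.EpsDefs Groth.Agent.H23.EpsDefsM Groth.Agent.H23.WCDefs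

namespace Groth.Agent.H54.EpsM_U0

variable (Λ : Type (u + 1)) [CommRing Λ] (X : Scheme.{u})

/-- (U0) the unit of `ε⁻¹ ⊣ ε_*` on sections over `U` (sheaves of `Λ`-modules). -/
theorem unit_app_hom_app (F : EtModW.Mod Λ X) [ProEtS.EpsCont X] (U : X.Etale) :
    (((Functor.sheafPullbackConstruction.sheafAdjunctionContinuous (ProEtS.eps X)
      (ModuleCat.{u + 1} Λ) X.smallEtaleTopology (Scheme.ProEt.topology X)).unit.app F).hom.app
        (op U)) =
      ((ProEtS.eps X).op.lanUnit.app F.obj).app (op U) ≫
        (thetaE Λ X F.obj).app (op ((ProEtS.eps X).obj U)) := by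
  have h := Adjunction.map_restrictFullyFaithful_unit_app
    (adj := ((ProEtS.eps X).op.lanAdjunction (ModuleCat.{u + 1} Λ)).comp
      (sheafificationAdjunction (Scheme.ProEt.topology X) (ModuleCat.{u + 1} Λ)))
    (hiC := fullyFaithfulSheafToPresheaf X.smallEtaleTopology (ModuleCat.{u + 1} Λ))
    (hiD := Functor.FullyFaithful.id _) (comm1 := Iso.refl _) (comm2 := Iso.refl _)
    (L := Functor.sheafPullbackConstruction.sheafPullback (ProEtS.eps X) (ModuleCat.{u + 1} Λ)
      X.smallEtaleTopology (Scheme.ProEt.topology X))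
    (R := (ProEtS.eps X).sheafPushforwardContinuous (ModuleCat.{u + 1} Λ) X.smallEtaleTopology
      (Scheme.ProEt.topology X)) F
  have h' := congrArg (fun t => t.app (op U)) h
  simp only [Iso.refl_hom, NatTrans.id_app, Adjunction.comp_unit_app] at h'
  exact h'

end Groth.Agent.H54.EpsM_U0
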