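import Mathlib.AlgebraicGeometry.SpreadingOut
import Mathlib.AlgebraicGeometry.Properties
import Mathlib.RingTheory.Spectrum.Prime.Topology
import Mathlib.RingTheory.Ideal.MinimalPrime.Basic

set_option autoImplicit false
universe u
open CategoryTheory AlgebraicGeometry

namespace Groth.Agent.H54

/-- An open subspace of a space with finitely many irreducible components has finitely many
irreducible components. -/
theorem finite_irreducibleComponents_of_isOpenEmbedding {Z X : Type*} [TopologicalSpace Z]
    [TopologicalSpace X] (j : Z → X) (hj : Topology.IsOpenEmbedding j)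
    (h : (irreducibleComponents X).Finite) : (irreducibleComponents Z).Finite := by
  classical
  have key : ∀ C : Set Z, C ∈ irreducibleComponents Z →
      ∃ u : Set X, u ∈ irreducibleComponents X ∧ j '' C ⊆ u := by
    intro C hC
    exact exists_mem_irreducibleComponents_subset_of_isIrreducible (j '' C)
      (hC.1.image j hj.continuous.continuousOn)
  choose! T hT using key
  refine Set.Finite.of_injOn (f := T) (fun C hC => (hT C hC).1) ?_ h
  have hmax : ∀ C : Set Z, C ∈ irreducibleComponents Z → C = j ⁻¹' (T C) := by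
    intro C hC
    have hsub : C ⊆ j ⁻¹' (T C) := fun z hz => (hT C hC).2 ⟨z, hz, rfl⟩
    have hirr : IsIrreducible (j ⁻¹' (T C)) :=
      ⟨hC.1.nonempty.mono hsub, (hT C hC).1.1.isPreirreducible.preimage hj⟩
    exact hC.eq_of_le hirr hsub
  intro C hC C' hC' hCC'
  rw [hmax C hC, hmax C' hC', hCC']

/-- The condition of `Scheme.IsGermInjective.Spec` for a reduced ring with finitely many minimal
primes. -/
theorem exists_notMem_forall_mul_eq_zero {R : Type*} [CommRing R] [IsReduced R]
    (hfin : (minimalPrimes R).Finite) (I : Ideal R) [hI : I.IsPrime] :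
    ∃ f : R, f ∉ I ∧ ∀ (x y : R), y * x = 0 → y ∉ I → ∃ n : ℕ, f ^ n * x = 0 := by
  classical
  have key : ∀ q : Ideal R, ¬ q ≤ I → ∃ a, a ∈ q ∧ a ∉ I := by
    intro q hq
    exact SetLike.not_le_iff_exists.mp hq
  choose! a ha using key
  refine ⟨∏ q ∈ hfin.toFinset.filter (fun q => ¬ q ≤ I), a q, ?_, ?_⟩
  · have : (∏ q ∈ hfin.toFinset.filter (fun q => ¬ q ≤ I), a q) ∈ I.primeCompl :=
      Submonoid.prod_mem _ (fun q hq => (ha q (Finset.mem_filter.mp hq).2).2)
    exact this
  · intro x y hyx hy
    refine ⟨1, ?_⟩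
    rw [pow_one]
    have hnil : (∏ q ∈ hfin.toFinset.filter (fun q => ¬ q ≤ I), a q) * x ∈
        sInf (minimalPrimes R) := by
      rw [Ideal.mem_sInf]
      intro q hq
      haveI hqp : q.IsPrime := hq.1.1
      by_cases hqI : q ≤ I
      · have hyq : y ∉ q := fun h => hy (hqI h)
        have hx : x ∈ q := by
          have h0 : y * x ∈ q := hyx ▸ q.zero_mem
          exact (hqp.mem_or_mem h0).resolve_left hyq
        exact q.mul_mem_left _ hx
      · have hmem : q ∈ hfin.toFinset.filter (fun q => ¬ q ≤ I) :=
          Finset.mem_filter.mpr ⟨hfin.mem_toFinset.mpr hq, hqI⟩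
        have hdvd : a q ∣ ∏ q ∈ hfin.toFinset.filter (fun q => ¬ q ≤ I), a q :=
          Finset.dvd_prod_of_mem a hmem
        exact q.mul_mem_right _ (q.mem_of_dvd hdvd (ha q hqI).1)
    have h2 : sInf (minimalPrimes R) = ⊥ := by
      show sInf (⊥ : Ideal R).minimalPrimes = ⊥
      rw [Ideal.sInf_minimalPrimes]
      exact nilradical_eq_zero R
    rw [h2] at hnil
    exact hnil

theorem finite_minimalPrimes_of_finite_irreducibleComponents (R : Type*) [CommRing R]
    (h : (irreducibleComponents (PrimeSpectrum R)).Finite) : (minimalPrimes R).Finite := by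
  rw [← PrimeSpectrum.vanishingIdeal_irreducibleComponents]
  exact h.image _

/-- A reduced scheme with finitely many irreducible components is germ-injective at every
point. -/
theorem isGermInjectiveAt_of_isReduced (S : Scheme.{u}) [IsReduced S]
    (hS : (irreducibleComponents (S : Type u)).Finite) (s : S) : S.IsGermInjectiveAt s := by
  obtain ⟨_, ⟨W, hW, rfl⟩, hsW, -⟩ :=
    S.isBasis_affineOpens.exists_subset_of_mem_open (Set.mem_univ s) isOpen_univ
  have h1 : (irreducibleComponents (Spec Γ(S, W) : Type u)).Finite :=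
    finite_irreducibleComponents_of_isOpenEmbedding _ hW.fromSpec.isOpenEmbedding hS
  have h2 : (minimalPrimes Γ(S, W)).Finite :=
    finite_minimalPrimes_of_finite_irreducibleComponents Γ(S, W) h1
  haveI : (Spec Γ(S, W)).IsGermInjective :=
    Scheme.IsGermInjective.Spec (fun I hI => by
      haveI := hI
      exact exists_notMem_forall_mul_eq_zero h2 I)
  have h3 : S.IsGermInjectiveAt (hW.fromSpec (hW.primeIdealOf ⟨s, hsW⟩)) :=
    (isGermInjectiveAt_iff_of_isOpenImmersion (f := hW.fromSpec)).mpr inferInstance
  rwa [hW.fromSpec_primeIdealOf ⟨s, hsW⟩] at h3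

end Groth.Agent.H54
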