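import Mathlib.AlgebraicGeometry.IdealSheaf.Functorial
import Mathlib.AlgebraicGeometry.Morphisms.Separated

set_option autoImplicit false
universe u

namespace Groth.Agent.H54

open AlgebraicGeometry CategoryTheory

/-- The kernel of a morphism from a reduced scheme is the vanishing ideal of the closure of its range. -/
lemma ker_eq_vanishingIdeal {X Y : Scheme.{u}} [IsReduced X] (f : X ⟶ Y) :
    f.ker = Scheme.IdealSheafData.vanishingIdeal ⟨closure (Set.range f), isClosed_closure⟩ := by
  have h1 : f.ker = (𝟙 X ≫ f).ker := by rw [Category.id_comp]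
  rw [h1, Scheme.Hom.ker_comp, Scheme.Hom.ker_eq_bot_of_isIso, ← Scheme.nilradical_eq_bot,
    ← Scheme.IdealSheafData.vanishingIdeal_top, Scheme.IdealSheafData.map_vanishingIdeal]
  congr 1
  apply TopologicalSpace.Closeds.ext
  simp

end Groth.Agent.H54
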