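import Groth.Agent.H85.CycOpen

/-!
# Piece (CIa) of the S1929 squad (helper34)

Orders along specializations are the same on a closed subscheme and on the ambient scheme.
-/

set_option autoImplicit false
universe u
open CategoryTheory AlgebraicGeometry TopologicalSpace Opposite

namespace Groth.Agent.H54.KeyCIa

open Groth.Agent.H85.CycOpen

variable {X D : Scheme.{u}}

section

variable (i : D ⟶ X) [IsClosedImmersion i] {d d' : D} (h : d' ⤳ d) (h' : i d' ⤳ i d)

/-- the surjection `O_{X,i d} → O_{D,d}/𝔭_{d'}` -/
noncomputable def ψ : X.presheaf.stalk (i d) →+* Cyc.LocQuot d d' h :=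
  (Ideal.Quotient.mk (RingHom.ker (Cyc.specMap d d' h))).comp (i.stalkMap d).hom

theorem ψ_apply (a : X.presheaf.stalk (i d)) :
    ψ i h a = Ideal.Quotient.mk (RingHom.ker (Cyc.specMap d d' h)) ((i.stalkMap d).hom a) := rfl

theorem ψ_surjective : Function.Surjective (ψ i h) := by
  intro r
  obtain ⟨b, rfl⟩ := Ideal.Quotient.mk_surjective r
  obtain ⟨a, rfl⟩ := i.stalkMap_surjective d b
  exact ⟨a, rfl⟩

theorem ker_ψ : RingHom.ker (ψ i h) = RingHom.ker (Cyc.specMap (i d) (i d') h') := by
  ext a
  rw [RingHom.mem_ker, RingHom.mem_ker, ψ_apply, Ideal.Quotient.eq_zero_iff_mem, RingHom.mem_ker]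
  have hc : Cyc.specMap d d' h ((i.stalkMap d).hom a) =
      (i.residueFieldMap d').hom (Cyc.specMap (i d) (i d') h' a) := specMap_comm i h a
  constructor
  · intro h0
    rw [hc] at h0
    exact (map_eq_zero_iff _ (i.residueFieldMap d').hom.injective).mp h0
  · intro h0
    rw [hc, h0, map_zero]

/-- the induced isomorphism of the local rings of the closure of `d'`. -/
noncomputable def e : Cyc.LocQuot (i d) (i d') h' ≃+* Cyc.LocQuot d d' h :=
  (Ideal.quotEquivOfEq (ker_ψ i h h').symm).trans
    (RingHom.quotientKerEquivOfSurjective (ψ_surjective i h))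

theorem e_mk (a : X.presheaf.stalk (i d)) :
    e i h h' (Ideal.Quotient.mk _ a) =
      Ideal.Quotient.mk (RingHom.ker (Cyc.specMap d d' h)) ((i.stalkMap d).hom a) := rfl

theorem residueFieldMap_surjective (x : D) : Function.Surjective (i.residueFieldMap x).hom := by
  intro g'
  obtain ⟨b, rfl⟩ := D.residue_surjective x g'
  obtain ⟨a, rfl⟩ := i.stalkMap_surjective x b
  refine ⟨X.residue (i x) a, ?_⟩
  have := congrArg (fun φ => φ.hom a) (Scheme.residue_residueFieldMap i x)
  exact this

/-- the residue field isomorphism of a closed immersion. -/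
noncomputable def σ (x : D) : X.residueField (i x) ≃+* D.residueField x :=
  RingEquiv.ofBijective (i.residueFieldMap x).hom
    ⟨(i.residueFieldMap x).hom.injective, residueFieldMap_surjective i x⟩

theorem compat (r : Cyc.LocQuot (i d) (i d') h') :
    σ i d' (algebraMap (Cyc.LocQuot (i d) (i d') h') (X.residueField (i d')) r) =
      algebraMap (Cyc.LocQuot d d' h) (D.residueField d') (e i h h' r) := by
  obtain ⟨a, rfl⟩ := Ideal.Quotient.mk_surjective r
  rw [e_mk]
  exact (specMap_comm i h a).symm

end

/-- (CIa) orders along specializations are the same on a closed subscheme and on the ambient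
scheme. -/
theorem ordAt_residueFieldMap (i : D ⟶ X) [IsClosedImmersion i] {d d' : D} (h : d' ⤳ d)
    (h' : i d' ⤳ i d) (g : X.residueField (i d')) :
    Cyc.ordAt d d' h ((i.residueFieldMap d').hom g) = Cyc.ordAt (i d) (i d') h' g := by
  unfold Cyc.ordAt
  exact ordFrac_congr (e i h h') (σ i d') (compat i h h') g

end Groth.Agent.H54.KeyCIa
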