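import Mathlib
import Groth.Agent.H54.FibreDimTdeg
import Groth.Agent.H9.FibDimTop

/-!
# Morphisms of finite type `k`-schemes whose closed fibres are irreducible of constant dimension
-/

set_option autoImplicit false
universe u

open CategoryTheory CategoryTheory.Limits AlgebraicGeometry Topology

namespace Groth.Agent.H54

/-- A constructible subset of a space with a generic point contains, or is disjoint from, an open
neighbourhood of the generic point. -/
theorem exists_open_of_isConstructible_of_generic {T : Type*} [TopologicalSpace T] (η : T)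
    (hη : ∀ t : T, η ⤳ t) {s : Set T} (hs : IsConstructible s) :
    (η ∈ s → ∃ U : Set T, IsOpen U ∧ η ∈ U ∧ U ⊆ s) ∧
      (η ∉ s → ∃ U : Set T, IsOpen U ∧ η ∈ U ∧ U ⊆ sᶜ) := by
  induction hs using IsConstructible.empty_union_induction with
  | open_retrocompact U hU hU' =>
    refine ⟨fun h => ⟨U, hU, h, subset_rfl⟩, fun h => ⟨Set.univ, isOpen_univ, trivial, ?_⟩⟩
    intro t _ htU
    exact h ((hη t).mem_open hU htU)
  | union s hs t ht ihs iht =>
    refine ⟨fun h => ?_, fun h => ?_⟩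
    · rcases h with h | h
      · obtain ⟨U, h1, h2, h3⟩ := ihs.1 h
        exact ⟨U, h1, h2, h3.trans Set.subset_union_left⟩
      · obtain ⟨U, h1, h2, h3⟩ := iht.1 h
        exact ⟨U, h1, h2, h3.trans Set.subset_union_right⟩
    · have hs' : η ∉ s := fun h' => h (Or.inl h')
      have ht' : η ∉ t := fun h' => h (Or.inr h')
      obtain ⟨U, h1, h2, h3⟩ := ihs.2 hs'
      obtain ⟨V, k1, k2, k3⟩ := iht.2 ht'
      refine ⟨U ∩ V, h1.inter k1, ⟨h2, k2⟩, ?_⟩
      rintro z ⟨hzU, hzV⟩ (hz | hz)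
      · exact h3 hzU hz
      · exact k3 hzV hz
  | compl s hs ih =>
    refine ⟨fun h => ih.2 h, fun h => ?_⟩
    have h' : η ∈ s := by
      by_contra hc
      exact h hc
    obtain ⟨U, h1, h2, h3⟩ := ih.1 h'
    exact ⟨U, h1, h2, by rw [compl_compl]; exact h3⟩

/-- The dimension of a scheme with a generic point. -/
theorem topologicalKrullDim_eq_tdeg_of_generic {k : Type u} [Field k] {X : Scheme.{u}}
    (s : X ⟶ Spec (CommRingCat.of k)) [LocallyOfFiniteType s] (ξ : X) (hξ : ∀ x : X, ξ ⤳ x) :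
    topologicalKrullDim X = (tdeg s ξ : WithBot ℕ∞) := by
  apply le_antisymm
  · exact topologicalKrullDim_le_of_forall_tdeg_le s (tdeg s ξ)
      (fun y => tdeg_le_of_specializes s (hξ y))
  · have h1 := topologicalKrullDim_closure_singleton s ξ
    rw [← h1]
    exact topologicalKrullDim_subspace_le X _

section

variable {k : Type u} [Field k] {X Y : Scheme.{u}}

/-- The generic point of an irreducible closed fibre. -/
theorem exists_fibre_generic (qX : X ⟶ Spec (CommRingCat.of k)) [LocallyOfFiniteType qX]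
    (f : X ⟶ Y) (d : ℕ) (y : Y) (hy : IsClosed ({y} : Set Y))
    (hirr : IsIrreducible (f.base ⁻¹' {y}))
    (hdim : topologicalKrullDim ↥(f.base ⁻¹' {y}) = d) :
    ∃ γ : X, closure ({γ} : Set X) = f.base ⁻¹' {y} ∧ tdeg qX γ = d := by
  have hcl : IsClosed (f.base ⁻¹' {y}) := hy.preimage f.continuous
  obtain ⟨γ, hγ⟩ : ∃ γ : X, closure ({γ} : Set X) = f.base ⁻¹' {y} :=
    ⟨_, hirr.closure_genericPoint hcl⟩
  refine ⟨γ, hγ, ?_⟩
  rw [← hγ, topologicalKrullDim_closure_singleton qX γ] at hdim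
  exact_mod_cast hdim

/-- The basic bound: `tdeg ξ ≤ tdeg (f ξ) + d`, with equality forcing `ξ` to specialize to the
generic point of the fibre. -/
theorem fibre_bound (qX : X ⟶ Spec (CommRingCat.of k)) (qY : Y ⟶ Spec (CommRingCat.of k))
    [LocallyOfFiniteType qX] [LocallyOfFiniteType qY] (f : X ⟶ Y) (hf : f ≫ qY = qX) (d : ℕ)
    (ξ x : X) (hsp : ξ ⤳ x) (hx : IsClosed ({x} : Set X)) (y : Y) (hfx : f.base x = y)
    (γ : X) (hγ : closure ({γ} : Set X) = f.base ⁻¹' {y}) (hγd : tdeg qX γ = d) :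
    tdeg qX ξ ≤ tdeg qY (f.base ξ) + d ∧ (tdeg qY (f.base ξ) + d ≤ tdeg qX ξ → ξ ⤳ γ) := by
  obtain ⟨x₁, h1, h2, h3⟩ := exists_point_fibre_tdeg qX qY f ξ x hsp hx
  have hy : IsClosed ({f.base x} : Set Y) := isClosed_image_of_isClosed qX qY f hf x hx
  have hfx₁ : f.base x₁ = y := by
    have h4 : f.base x₁ ∈ closure ({f.base x} : Set Y) := specializes_iff_mem_closure.mp h2
    rw [hy.closure_eq] at h4
    exact (Set.mem_singleton_iff.mp h4).trans hfx
  have hmem : x₁ ∈ closure ({γ} : Set X) := by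
    rw [hγ]; exact hfx₁
  have hγx₁ : γ ⤳ x₁ := specializes_iff_mem_closure.mpr hmem
  have h5 := tdeg_le_of_specializes qX hγx₁
  refine ⟨by omega, fun hge => ?_⟩
  by_cases hne : γ = x₁
  · rw [hne]; exact h1
  · have := tdeg_lt_of_specializes qX hγx₁ hne
    omega

/-- Upper semicontinuity: at generic points of components, `tdeg (f ξ) + d ≤ tdeg ξ`. -/
theorem tdeg_ge_generic (qX : X ⟶ Spec (CommRingCat.of k)) (qY : Y ⟶ Spec (CommRingCat.of k))
    [LocallyOfFiniteType qX] [LocallyOfFiniteType qY] (f : X ⟶ Y) (hf : f ≫ qY = qX) (d : ℕ)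
    (hirr : ∀ y : Y, IsClosed ({y} : Set Y) → IsIrreducible (f.base ⁻¹' {y}))
    (hdim : ∀ y : Y, IsClosed ({y} : Set Y) → topologicalKrullDim ↥(f.base ⁻¹' {y}) = d)
    (ξ : X) (hξ : closure ({ξ} : Set X) ∈ irreducibleComponents (X : Type u)) :
    tdeg qY (f.base ξ) + d ≤ tdeg qX ξ := by
  haveI : LocallyOfFiniteType (f ≫ qY) := by rw [hf]; infer_instance
  haveI : LocallyOfFiniteType f := locallyOfFiniteType_of_comp f qY
  haveI : JacobsonSpace X := LocallyOfFiniteType.jacobsonSpace qX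
  have hfd := fibreDimAt_generic qX qY f hf ξ hξ
  have hO := Groth.Agent.H9.FibDim.isOpen_setOf_fibreDimAt_le f (tdeg qX ξ - tdeg qY (f.base ξ))
  have hξO : ξ ∈ {x : X | FlatMor.fibreDimAt f x ≤
      ((tdeg qX ξ - tdeg qY (f.base ξ) : ℕ) : WithBot ℕ∞)} := hfd.le
  obtain ⟨x, hxO, hxcl⟩ := nonempty_inter_closedPoints ⟨ξ, hξO⟩ hO.isLocallyClosed
  have hxcl' : IsClosed ({x} : Set X) := hxcl
  have hy : IsClosed ({f.base x} : Set Y) := isClosed_image_of_isClosed qX qY f hf x hxcl'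
  obtain ⟨γ, hγ, hγd⟩ := exists_fibre_generic qX f d (f.base x) hy (hirr _ hy) (hdim _ hy)
  have hγx : γ ⤳ x := specializes_iff_mem_closure.mpr (by rw [hγ]; rfl)
  have hγO : γ ∈ {x : X | FlatMor.fibreDimAt f x ≤
      ((tdeg qX ξ - tdeg qY (f.base ξ) : ℕ) : WithBot ℕ∞)} := hγx.mem_open hO hxO
  have hfγ : f.base γ = f.base x := by
    have : γ ∈ f.base ⁻¹' {f.base x} := by rw [← hγ]; exact subset_closure rfl
    exact this
  have h0 : tdeg qY (f.base γ) = 0 := by
    rw [hfγ]; exact tdeg_eq_zero_of_isClosed qY _ hy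
  have h1 := tdeg_sub_le_fibreDimAt qX qY f hf γ
  have h2 : ((tdeg qX γ - tdeg qY (f.base γ) : ℕ) : WithBot ℕ∞) ≤
      ((tdeg qX ξ - tdeg qY (f.base ξ) : ℕ) : WithBot ℕ∞) := h1.trans hγO
  have h3 : tdeg qX γ - tdeg qY (f.base γ) ≤ tdeg qX ξ - tdeg qY (f.base ξ) := by
    exact_mod_cast h2
  have h4 : tdeg qY (f.base ξ) ≤ tdeg qX ξ := tdeg_le_of_hom qY qX f hf ξ
  omega

/-- At the generic point of every irreducible component, `tdeg ξ = tdeg (f ξ) + d`. -/
theorem tdeg_generic_eq (qX : X ⟶ Spec (CommRingCat.of k)) (qY : Y ⟶ Spec (CommRingCat.of k))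
    [LocallyOfFiniteType qX] [QuasiCompact qX] [LocallyOfFiniteType qY] (f : X ⟶ Y)
    (hf : f ≫ qY = qX) (d : ℕ)
    (hirr : ∀ y : Y, IsClosed ({y} : Set Y) → IsIrreducible (f.base ⁻¹' {y}))
    (hdim : ∀ y : Y, IsClosed ({y} : Set Y) → topologicalKrullDim ↥(f.base ⁻¹' {y}) = d)
    (ξ : X) (hξ : closure ({ξ} : Set X) ∈ irreducibleComponents (X : Type u)) :
    tdeg qX ξ = tdeg qY (f.base ξ) + d := by
  haveI : CompactSpace X := QuasiCompact.compactSpace_of_compactSpace qX
  obtain ⟨x, hxmem, hxcl⟩ := (isClosed_closure (s := ({ξ} : Set X))).exists_closed_singleton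
    ⟨ξ, subset_closure rfl⟩
  have hsp : ξ ⤳ x := specializes_iff_mem_closure.mpr hxmem
  have hy : IsClosed ({f.base x} : Set Y) := isClosed_image_of_isClosed qX qY f hf x hxcl
  obtain ⟨γ, hγ, hγd⟩ := exists_fibre_generic qX f d (f.base x) hy (hirr _ hy) (hdim _ hy)
  have h1 := (fibre_bound qX qY f hf d ξ x hsp hxcl (f.base x) rfl γ hγ hγd).1
  have h2 := tdeg_ge_generic qX qY f hf d hirr hdim ξ hξ
  omega

/-- An irreducible component meeting a closed fibre contains it. -/
theorem fibre_subset_of_meets (qX : X ⟶ Spec (CommRingCat.of k))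
    (qY : Y ⟶ Spec (CommRingCat.of k))
    [LocallyOfFiniteType qX] [QuasiCompact qX] [LocallyOfFiniteType qY] (f : X ⟶ Y)
    (hf : f ≫ qY = qX) (d : ℕ)
    (hirr : ∀ y : Y, IsClosed ({y} : Set Y) → IsIrreducible (f.base ⁻¹' {y}))
    (hdim : ∀ y : Y, IsClosed ({y} : Set Y) → topologicalKrullDim ↥(f.base ⁻¹' {y}) = d)
    (ξ : X) (hξ : closure ({ξ} : Set X) ∈ irreducibleComponents (X : Type u))
    (y : Y) (hy : IsClosed ({y} : Set Y)) (x₀ : X) (hx₀ : f.base x₀ = y) (hsp₀ : ξ ⤳ x₀) :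
    f.base ⁻¹' {y} ⊆ closure ({ξ} : Set X) := by
  haveI : CompactSpace X := QuasiCompact.compactSpace_of_compactSpace qX
  have hclf : IsClosed (f.base ⁻¹' {y}) := hy.preimage f.continuous
  obtain ⟨x, hxmem, hxcl⟩ := (isClosed_closure (s := ({x₀} : Set X))).exists_closed_singleton
    ⟨x₀, subset_closure rfl⟩
  have hx₀x : x₀ ⤳ x := specializes_iff_mem_closure.mpr hxmem
  have hfx : f.base x = y :=
    closure_minimal (Set.singleton_subset_iff.mpr (show x₀ ∈ f.base ⁻¹' {y} from hx₀)) hclf hxmem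
  obtain ⟨γ, hγ, hγd⟩ := exists_fibre_generic qX f d y hy (hirr _ hy) (hdim _ hy)
  have h1 := (fibre_bound qX qY f hf d ξ x (hsp₀.trans hx₀x) hxcl y hfx γ hγ hγd).2
  have h2 := tdeg_generic_eq qX qY f hf d hirr hdim ξ hξ
  have hξγ : ξ ⤳ γ := h1 (by omega)
  rw [← hγ]
  exact closure_minimal (Set.singleton_subset_iff.mpr (specializes_iff_mem_closure.mp hξγ))
    isClosed_closure

/-- At most one irreducible component dominates the (irreducible) target. -/
theorem generic_unique (qX : X ⟶ Spec (CommRingCat.of k)) (qY : Y ⟶ Spec (CommRingCat.of k))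
    [LocallyOfFiniteType qX] [QuasiCompact qX] [LocallyOfFiniteType qY] [QuasiCompact qY]
    (f : X ⟶ Y) (hf : f ≫ qY = qX) (d : ℕ)
    (hirr : ∀ y : Y, IsClosed ({y} : Set Y) → IsIrreducible (f.base ⁻¹' {y}))
    (hdim : ∀ y : Y, IsClosed ({y} : Set Y) → topologicalKrullDim ↥(f.base ⁻¹' {y}) = d)
    (ξ ξ' : X) (hξ : closure ({ξ} : Set X) ∈ irreducibleComponents (X : Type u))
    (hξ' : closure ({ξ'} : Set X) ∈ irreducibleComponents (X : Type u))
    (η : Y) (hη : ∀ y : Y, η ⤳ y) (h1 : f.base ξ = η) (h2 : f.base ξ' = η) : ξ = ξ' := by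
  haveI : CompactSpace X := QuasiCompact.compactSpace_of_compactSpace qX
  haveI : CompactSpace Y := QuasiCompact.compactSpace_of_compactSpace qY
  haveI : IsLocallyNoetherian X := LocallyOfFiniteType.isLocallyNoetherian qX
  haveI : IsLocallyNoetherian Y := LocallyOfFiniteType.isLocallyNoetherian qY
  haveI : IsNoetherian X := {}
  haveI : LocallyOfFiniteType (f ≫ qY) := by rw [hf]; infer_instance
  haveI : LocallyOfFiniteType f := locallyOfFiniteType_of_comp f qY
  haveI : JacobsonSpace Y := LocallyOfFiniteType.jacobsonSpace qY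
  suffices hmem : ξ ∈ closure ({ξ'} : Set X) from
    (eq_of_specializes_generic hξ (specializes_iff_mem_closure.mpr hmem)).symm
  by_contra hnot
  have hOopen : IsOpen (closure ({ξ'} : Set X))ᶜ := isClosed_closure.isOpen_compl
  have hOc : IsConstructible (closure ({ξ'} : Set X))ᶜ :=
    (TopologicalSpace.NoetherianSpace.isCompact _).isConstructible hOopen
  have hZc : IsConstructible (closure ({ξ'} : Set X)) := by
    have := hOc.compl
    rwa [compl_compl] at this
  have hE := f.isConstructible_image hOc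
  have hE' := f.isConstructible_image hZc
  obtain ⟨U, hU, hηU, hUs⟩ := (exists_open_of_isConstructible_of_generic η hη hE).1
    ⟨ξ, hnot, h1⟩
  obtain ⟨U', hU', hηU', hUs'⟩ := (exists_open_of_isConstructible_of_generic η hη hE').1
    ⟨ξ', subset_closure rfl, h2⟩
  obtain ⟨y, ⟨hyU, hyU'⟩, hycl⟩ := nonempty_inter_closedPoints (Z := U ∩ U') ⟨η, hηU, hηU'⟩
    (hU.inter hU').isLocallyClosed
  have hycl' : IsClosed ({y} : Set Y) := hycl
  obtain ⟨x, hxO, hfx⟩ := hUs hyU
  obtain ⟨x', hxZ, hfx'⟩ := hUs' hyU'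
  have hsub := fibre_subset_of_meets qX qY f hf d hirr hdim ξ' hξ' y hycl' x' hfx'
    (specializes_iff_mem_closure.mpr hxZ)
  exact hxO (hsub hfx)

/-- Some irreducible component dominates the target. -/
theorem exists_dominant_generic (qX : X ⟶ Spec (CommRingCat.of k))
    (qY : Y ⟶ Spec (CommRingCat.of k))
    [LocallyOfFiniteType qX] [QuasiCompact qX] [LocallyOfFiniteType qY]
    (f : X ⟶ Y)
    (hirr : ∀ y : Y, IsClosed ({y} : Set Y) → IsIrreducible (f.base ⁻¹' {y}))
    (η : Y) (hη : ∀ y : Y, η ⤳ y) :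
    ∃ ξ : X, closure ({ξ} : Set X) ∈ irreducibleComponents (X : Type u) ∧ f.base ξ = η := by
  haveI : CompactSpace X := QuasiCompact.compactSpace_of_compactSpace qX
  haveI : IsLocallyNoetherian Y := LocallyOfFiniteType.isLocallyNoetherian qY
  haveI : JacobsonSpace Y := LocallyOfFiniteType.jacobsonSpace qY
  haveI : QuasiCompact f := inferInstance
  have hd : DenseRange f.base := by
    have h1 : Dense (closedPoints Y) := dense_iff_closure_eq.mpr closure_closedPoints
    refine h1.mono ?_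
    intro y hy
    obtain ⟨x, hx⟩ := (hirr y hy).nonempty
    exact ⟨x, hx⟩
  obtain ⟨u, hu⟩ := exists_specializes_of_denseRange f hd η
  have hfu : f.base u = η := (hu.antisymm (hη _)).eq
  obtain ⟨ξ, hξu, hξ⟩ := exists_generic_specializes u
  refine ⟨ξ, hξ, ?_⟩
  have h1 : f.base ξ ⤳ η := hfu ▸ hξu.map f.continuous
  exact (h1.antisymm (hη _)).eq

end

end Groth.Agent.H54
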