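import Mathlib

/-!
# helper54: (T1) irreducibility of `Spec (K ⊗[A] B)` descends along field extensions
(piece for helper38's S0419 squad).
-/

set_option autoImplicit false
universe u
open TensorProduct

namespace Groth.Agent.H54.IrrT1

/-- (T1) irreducibility descends along field extensions. -/
theorem irreducibleSpace_of_fieldExt {A B : Type u} [CommRing A] [CommRing B] [Algebra A B]
    (K K' : Type u) [Field K] [Field K'] [Algebra A K] [Algebra A K'] [Algebra K K']
    [IsScalarTower A K K'] (h : IrreducibleSpace (PrimeSpectrum (K' ⊗[A] B))) :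
    IrreducibleSpace (PrimeSpectrum (K ⊗[A] B)) := by
  haveI : Module.FaithfullyFlat K K' := inferInstance
  haveI : Module.FaithfullyFlat (K ⊗[A] B) ((K ⊗[A] B) ⊗[K] K') := inferInstance
  let e : ((K ⊗[A] B) ⊗[K] K') ≃+* K' ⊗[A] B :=
    (Algebra.TensorProduct.comm K (K ⊗[A] B) K').toRingEquiv.trans
      (Algebra.TensorProduct.cancelBaseChange A K K K' B).toRingEquiv
  let g : (K ⊗[A] B) →+* K' ⊗[A] B :=
    e.toRingHom.comp (algebraMap (K ⊗[A] B) ((K ⊗[A] B) ⊗[K] K'))
  have hg : e.symm.toRingHom.comp g = algebraMap (K ⊗[A] B) ((K ⊗[A] B) ⊗[K] K') := by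
    refine RingHom.ext fun x => ?_
    show e.symm (e (algebraMap (K ⊗[A] B) ((K ⊗[A] B) ⊗[K] K') x)) = _
    exact e.symm_apply_apply _
  have hsurj : Function.Surjective (PrimeSpectrum.comap g) := by
    intro y
    obtain ⟨z, hz⟩ := PrimeSpectrum.comap_surjective_of_faithfullyFlat
      (A := K ⊗[A] B) (B := (K ⊗[A] B) ⊗[K] K') y
    refine ⟨PrimeSpectrum.comap e.symm.toRingHom z, ?_⟩
    rw [← hz]
    apply PrimeSpectrum.ext
    show Ideal.comap g (Ideal.comap e.symm.toRingHom z.asIdeal)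
      = Ideal.comap (algebraMap (K ⊗[A] B) ((K ⊗[A] B) ⊗[K] K')) z.asIdeal
    rw [Ideal.comap_comap, hg]
  exact hsurj.irreducibleSpace (PrimeSpectrum.continuous_comap g)

end Groth.Agent.H54.IrrT1
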