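import Mathlib

/-!
# helper54: (EXT) ring homs to algebraically closed fields extend along integral extensions
(piece for helper38's S0419 squad).
-/

set_option autoImplicit false
universe u
open TensorProduct

namespace Groth.Agent.H54.IrrEXT

/-- (EXT) ring homs to algebraically closed fields extend along integral extensions. -/
theorem exists_extension_of_isIntegral {A A' : Type u} [CommRing A] [CommRing A'] [Algebra A A']
    [Algebra.IsIntegral A A'] (hinj : Function.Injective (algebraMap A A'))
    {K : Type u} [Field K] [IsAlgClosed K] (φ : A →+* K) :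
    ∃ φ' : A' →+* K, φ'.comp (algebraMap A A') = φ := by
  haveI : (RingHom.ker φ).IsPrime := RingHom.ker_isPrime φ
  obtain ⟨q, -, hqp, hq⟩ := Ideal.exists_ideal_over_prime_of_isIntegral (RingHom.ker φ)
    (⊥ : Ideal A') (by rw [Ideal.comap_bot_of_injective _ hinj]; exact bot_le)
  haveI := hqp
  let phibar : A ⧸ q.comap (algebraMap A A') →+* K :=
    Ideal.Quotient.lift (q.comap (algebraMap A A')) φ (fun a ha => by rw [hq] at ha; exact ha)
  have hphibar_inj : Function.Injective phibar := by
    rw [injective_iff_map_eq_zero]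
    intro x hx
    obtain ⟨a, rfl⟩ := Ideal.Quotient.mk_surjective x
    have h1 : φ a = 0 := hx
    rw [Ideal.Quotient.eq_zero_iff_mem, hq]
    exact h1
  letI : Algebra (A ⧸ q.comap (algebraMap A A')) K := phibar.toAlgebra
  haveI : Module.IsTorsionFree (A ⧸ q.comap (algebraMap A A')) K :=
    Module.isTorsionFree_iff_algebraMap_injective.mpr hphibar_inj
  haveI : Module.IsTorsionFree (A ⧸ q.comap (algebraMap A A')) (A' ⧸ q) :=
    Module.isTorsionFree_iff_algebraMap_injective.mpr Ideal.algebraMap_quotient_injective
  let psi : (A' ⧸ q) →ₐ[A ⧸ q.comap (algebraMap A A')] K := IsAlgClosed.lift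
  refine ⟨psi.toRingHom.comp (Ideal.Quotient.mk q), ?_⟩
  ext a
  show psi (Ideal.Quotient.mk q (algebraMap A A' a)) = φ a
  have h1 : Ideal.Quotient.mk q (algebraMap A A' a)
      = algebraMap (A ⧸ q.comap (algebraMap A A')) (A' ⧸ q) (Ideal.Quotient.mk _ a) := rfl
  rw [h1, psi.commutes]
  rfl

end Groth.Agent.H54.IrrEXT
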