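import Mathlib
import Groth.Agent.H54.FibreTdeg
import Groth.Agent.H54.FibreKrull
import Groth.Agent.H54.ValDense

/-!
# Generically finite dominant morphisms of integral schemes

Helper lemmas for the equivalence between finiteness of the function field extension, finiteness
over a nonempty open, and uniqueness of the point over the generic point.
-/

set_option autoImplicit false
universe u
open CategoryTheory CategoryTheory.Limits AlgebraicGeometry

namespace Groth.Agent.H54

section Ring

/-- Integrality of the localised map once the generators become integral after multiplying by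
`g`. -/
theorem isIntegral_away_map {R S Rg Sg : Type*} [CommRing R] [CommRing S] [CommRing Rg]
    [CommRing Sg] [Algebra R Rg] [Algebra S Sg] (φ : R →+* S) (g : R)
    [IsLocalization.Away g Rg] [IsLocalization.Away (φ g) Sg]
    (s : Set S) (hs : @Algebra.adjoin R S _ _ φ.toAlgebra s = ⊤)
    (hint : ∀ z ∈ s, φ.IsIntegralElem (φ g * z)) :
    (IsLocalization.Away.map Rg Sg φ g).IsIntegral := by
  letI iRS : Algebra R S := φ.toAlgebra
  obtain ⟨ψ, hψ⟩ : ∃ ψ : Rg →+* Sg, ψ = IsLocalization.Away.map Rg Sg φ g := ⟨_, rfl⟩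
  rw [← hψ]
  have hcomm : ψ.comp (algebraMap R Rg) = (algebraMap S Sg).comp φ := by
    rw [hψ]; exact IsLocalization.map_comp _
  letI iRgSg : Algebra Rg Sg := ψ.toAlgebra
  have hcomm' : (algebraMap Rg Sg).comp (algebraMap R Rg) =
      (algebraMap S Sg).comp (algebraMap R S) := hcomm
  obtain ⟨t, htdef⟩ : ∃ t : Sg, t = algebraMap Rg Sg (IsLocalization.Away.invSelf g) :=
    ⟨_, rfl⟩
  have ht_int : IsIntegral Rg t := by rw [htdef]; exact isIntegral_algebraMap
  have ht : algebraMap S Sg (φ g) * t = 1 := by
    have h1 : algebraMap S Sg (φ g) = algebraMap Rg Sg (algebraMap R Rg g) :=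
      (RingHom.congr_fun hcomm' g).symm
    rw [h1, htdef, ← map_mul, IsLocalization.Away.mul_invSelf, map_one]
  have hmap : ∀ a : S, IsIntegral R a → IsIntegral Rg (algebraMap S Sg a) := fun a ha =>
    IsIntegral.map_of_comp_eq (algebraMap R Rg) (algebraMap S Sg) hcomm' ha
  have hgen : ∀ a : S, IsIntegral Rg (algebraMap S Sg a) := by
    intro a
    have ha : a ∈ Algebra.adjoin R s := by rw [hs]; exact Algebra.mem_top
    induction ha using Algebra.adjoin_induction with
    | mem z hz =>
      have h2 : algebraMap S Sg z = t * algebraMap S Sg (φ g * z) := by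
        rw [map_mul, ← mul_assoc, mul_comm t, ht, one_mul]
      rw [h2]
      exact ht_int.mul (hmap _ (hint z hz))
    | algebraMap r =>
      have h3 : algebraMap S Sg (algebraMap R S r) = algebraMap Rg Sg (algebraMap R Rg r) :=
        (RingHom.congr_fun hcomm' r).symm
      rw [h3]; exact isIntegral_algebraMap
    | add x y _ _ hx hy => rw [map_add]; exact hx.add hy
    | mul x y _ _ hx hy => rw [map_mul]; exact hx.mul hy
  intro x
  show IsIntegral Rg x
  obtain ⟨n, a, hna⟩ := IsLocalization.Away.surj (φ g) x
  have hx : x = algebraMap S Sg a * t ^ n := by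
    rw [← hna, mul_assoc, ← mul_pow, ht, one_pow, mul_one]
  rw [hx]
  exact (hgen a).mul (ht_int.pow n)

end Ring

/-- A dominant morphism of irreducible schemes sends the generic point to the generic point. -/
theorem map_genericPoint {X Y : Scheme.{u}} [IsIntegral X] [IsIntegral Y] (f : X ⟶ Y)
    [IsDominant f] : f.base (genericPoint ↥X) = genericPoint ↥Y := by
  have h1 : IsGenericPoint (f.base (genericPoint ↥X)) (closure (f.base '' ⊤)) :=
    (genericPoint_spec X).image f.continuous
  rw [Set.top_eq_univ, Set.image_univ, f.denseRange.closure_range] at h1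
  exact ((genericPoint_spec Y).eq h1).symm

/-- On an integral scheme, the residue field at the generic point is the fraction field of the
sections over any affine open. -/
theorem isFractionRing_residueField_generic {Z : Scheme.{u}} [IsIntegral Z] (z : Z)
    (hz : z = genericPoint ↥Z) (W : Z.Opens) (hW : IsAffineOpen W) (hzW : z ∈ W) :
    letI := (Z.presheaf.germ W z hzW ≫ Z.residue z).hom.toAlgebra
    IsFractionRing Γ(Z, W) (Z.residueField z) := by
  subst hz
  haveI : Nonempty W.toScheme := ⟨⟨_, hzW⟩⟩
  letI := (Z.presheaf.germ W (genericPoint ↥Z) hzW ≫ Z.residue (genericPoint ↥Z)).hom.toAlgebra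
  haveI hfr := functionField_isFractionRing_of_isAffineOpen Z W hW
  have hres_inj : Function.Injective (Z.residue (genericPoint ↥Z)).hom :=
    RingHom.injective (Z.residue (genericPoint ↥Z)).hom
  have hgerm_inj : Function.Injective (Z.presheaf.germ W (genericPoint ↥Z) hzW).hom :=
    germ_injective_of_isIntegral Z _ hzW
  haveI : FaithfulSMul Γ(Z, W) (Z.residueField (genericPoint ↥Z)) := by
    rw [faithfulSMul_iff_algebraMap_injective]
    exact hres_inj.comp hgerm_inj
  apply IsFractionRing.of_field
  intro t
  obtain ⟨s, rfl⟩ := Z.residue_surjective (genericPoint ↥Z) t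
  obtain ⟨x, y, -, rfl⟩ := IsFractionRing.div_surjective Γ(Z, W) (K := Z.functionField) s
  exact ⟨x, y, map_div₀ (Z.residue (genericPoint ↥Z)).hom _ _⟩

/-- Compatibility of sections, germs, residues and the map on residue fields. -/
theorem appLE_germ_residue {X Y : Scheme.{u}} (f : X ⟶ Y) {V : Y.Opens} {U : X.Opens}
    (e : U ≤ f ⁻¹ᵁ V) (x : X) (hxU : x ∈ U) :
    f.appLE V U e ≫ X.presheaf.germ U x hxU ≫ X.residue x =
      Y.presheaf.germ V (f.base x) (e hxU) ≫ Y.residue (f.base x) ≫ f.residueFieldMap x := by
  have h1 : f.appLE V U e ≫ X.presheaf.germ U x hxU =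
      Y.presheaf.germ V (f.base x) (e hxU) ≫ f.stalkMap x := by
    rw [Scheme.Hom.germ_stalkMap, Scheme.Hom.appLE, Category.assoc]
    congr 1
    exact X.presheaf.germ_res (homOfLE e) x hxU
  rw [← Category.assoc, h1, Category.assoc, Scheme.residue_residueFieldMap]

/-- Finiteness of the restriction to affine opens is finiteness of the ring map. -/
theorem isFinite_resLE_iff {X Y : Scheme.{u}} (f : X ⟶ Y) {V : Y.Opens} {U : X.Opens}
    (hV : IsAffineOpen V) (hU : IsAffineOpen U) (e : U ≤ f ⁻¹ᵁ V) :
    IsFinite (f.resLE V U e) ↔ (f.appLE V U e).hom.Finite := by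
  haveI : IsAffine V.toScheme := hV
  haveI : IsAffine U.toScheme := hU
  rw [HasAffineProperty.iff_of_isAffine (P := @IsFinite), and_iff_right (by infer_instance)]
  have h : (f.resLE V U e).appTop = V.topIso.hom ≫ f.appLE V U e ≫ U.topIso.inv :=
    Scheme.Hom.resLE_app_top f e
  rw [h, CommRingCat.hom_comp, RingHom.finite_respectsIso.cancel_left_isIso,
    CommRingCat.hom_comp, RingHom.finite_respectsIso.cancel_right_isIso]

theorem isFinite_morphismRestrict_of_resLE {X Y : Scheme.{u}} (f : X ⟶ Y) (V : Y.Opens)
    (W : X.Opens) (hW : W = f ⁻¹ᵁ V) (e : W ≤ f ⁻¹ᵁ V) (h : IsFinite (f.resLE V W e)) :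
    IsFinite (f ∣_ V) := by
  subst hW
  rwa [Scheme.Hom.resLE_eq_morphismRestrict] at h

/-- Finite residue field extension is the same as algebraic, for morphisms locally of finite
type. -/
theorem finite_residueField_iff_isAlgebraic {X Y : Scheme.{u}} (f : X ⟶ Y)
    [LocallyOfFiniteType f] (x : X) :
    letI := (f.residueFieldMap x).hom.toAlgebra
    Module.Finite (Y.residueField (f.base x)) (X.residueField x) ↔
      Algebra.IsAlgebraic (Y.residueField (f.base x)) (X.residueField x) := by
  letI := (f.residueFieldMap x).hom.toAlgebra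
  constructor
  · intro h
    exact inferInstance
  · intro h
    haveI : Algebra.EssFiniteType (Y.residueField (f.base x)) (X.residueField x) :=
      RingHom.EssFiniteType.residueFieldMap (LocallyOfFiniteType.stalkMap f x)
    exact Algebra.finite_of_essFiniteType_of_isAlgebraic

theorem isAlgebraic_iff_tdeg_eq_zero {X Y : Scheme.{u}} (f : X ⟶ Y) [LocallyOfFiniteType f]
    (s : Y) (z : f.fiber s) (x : X) (hx : (f.fiberι s).base z = x) :
    (letI := (f.residueFieldMap x).hom.toAlgebra;
      Algebra.IsAlgebraic (Y.residueField (f.base x)) (X.residueField x)) ↔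
    tdeg (fiberQ f s) z = 0 := by
  subst hx
  have h := trdeg_fiber_eq f s z
  letI := (f.residueFieldMap ((f.fiberι s).base z)).hom.toAlgebra
  rw [← trdeg_eq_zero_iff, h]
  exact_mod_cast Iff.rfl

/-- If `ξ` specializes to every point, the residue field extension at `ξ` is algebraic iff `ξ` is
the only point of its fibre. -/
theorem isAlgebraic_iff_unique_preimage {X Y : Scheme.{u}} (f : X ⟶ Y) [LocallyOfFiniteType f]
    (ξ : X) (hgen : ∀ x : X, ξ ⤳ x) :
    (letI := (f.residueFieldMap ξ).hom.toAlgebra;
      Algebra.IsAlgebraic (Y.residueField (f.base ξ)) (X.residueField ξ)) ↔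
    ∀ x : X, f.base x = f.base ξ → x = ξ := by
  rw [isAlgebraic_iff_tdeg_eq_zero f (f.base ξ) (f.asFiber ξ) ξ (f.fiberι_asFiber ξ)]
  constructor
  · intro hT x hx
    have hcl : IsClosed ({f.asFiber ξ} : Set (f.fiber (f.base ξ))) :=
      isClosed_of_tdeg_eq_zero (fiberQ f (f.base ξ)) _ hT
    have hxr : x ∈ Set.range (f.fiberι (f.base ξ)).base := by
      rw [f.range_fiberι]; exact hx
    obtain ⟨z, rfl⟩ := hxr
    have hsp : f.asFiber ξ ⤳ z := by
      rw [← (f.fiberι (f.base ξ)).isEmbedding.toIsInducing.specializes_iff, f.fiberι_asFiber ξ]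
      exact hgen _
    have hz : z ∈ ({f.asFiber ξ} : Set (f.fiber (f.base ξ))) :=
      hsp.mem_closed hcl (Set.mem_singleton _)
    rw [Set.mem_singleton_iff.mp hz]
    exact f.fiberι_asFiber ξ
  · intro hC
    apply tdeg_eq_zero_of_isClosed
    have huniv : ({f.asFiber ξ} : Set (f.fiber (f.base ξ))) = Set.univ := by
      apply Set.eq_univ_of_forall
      intro z
      rw [Set.mem_singleton_iff]
      apply (f.fiberι (f.base ξ)).isEmbedding.injective
      rw [f.fiberι_asFiber ξ]
      exact hC _ (fiberι_mem f (f.base ξ) z)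
    rw [huniv]
    exact isClosed_univ

end Groth.Agent.H54
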