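import Mathlib
import Groth.Prelude.Def_BlowUp2

/-!
# (FTP) + (SUP) for helper95's S8858 squad: finite products of finite type ideal sheaves are of
finite type, and their support is the union of the supports.
-/

set_option autoImplicit false
universe u
open CategoryTheory CategoryTheory.Limits AlgebraicGeometry

namespace Groth.Agent.H54.ADM_FTP

/-- (FTP) -/
theorem FTP {X : Scheme.{u}} {ι : Type*} (s : Finset ι) (𝓘 : ι → X.IdealSheafData)
    (h : ∀ i ∈ s, BlowUp.IsFiniteTypeIdeal (𝓘 i)) : BlowUp.IsFiniteTypeIdeal (∏ i ∈ s, 𝓘 i) := by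
  classical
  induction s using Finset.induction_on with
  | empty =>
    intro U
    rw [Finset.prod_empty]
    show (⊤ : Ideal Γ(X, U.1)).FG
    exact ⟨{1}, by rw [Finset.coe_singleton, Ideal.span_singleton_one]⟩
  | insert a s ha ih =>
    intro U
    rw [Finset.prod_insert ha]
    show ((𝓘 a).ideal U * (∏ i ∈ s, 𝓘 i).ideal U).FG
    exact Ideal.FG.mul (h a (Finset.mem_insert_self a s) U)
      (ih (fun i hi => h i (Finset.mem_insert_of_mem hi)) U)

/-- (SUP) -/
theorem SUP {X : Scheme.{u}} {ι : Type*} (s : Finset ι) (𝓘 : ι → X.IdealSheafData) (U : X.Opens)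
    (h : ∀ i ∈ s, Disjoint ((𝓘 i).support : Set X) (U : Set X)) :
    Disjoint ((∏ i ∈ s, 𝓘 i).support : Set X) (U : Set X) := by
  classical
  induction s using Finset.induction_on with
  | empty =>
    rw [Finset.prod_empty, Scheme.IdealSheafData.one_eq_top, Scheme.IdealSheafData.support_top,
      TopologicalSpace.Closeds.coe_bot]
    exact Set.empty_disjoint _
  | insert a s ha ih =>
    rw [Finset.prod_insert ha, Scheme.IdealSheafData.support_mul, TopologicalSpace.Closeds.coe_sup]
    exact Set.disjoint_union_left.mpr ⟨h a (Finset.mem_insert_self a s),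
      ih (fun i hi => h i (Finset.mem_insert_of_mem hi))⟩

end Groth.Agent.H54.ADM_FTP
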