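import Mathlib
import Groth.Agent.H43.SekSuwaAK

/-!
# helper54: `α^{λ,N} : G_{λ,N} ⟶ μ_N` becomes an isomorphism after base change to any
`R`-algebra in which `λ` is a unit (in particular over the generic point).
-/

set_option autoImplicit false
universe u

namespace Groth.Agent.H54.AlphaNGeneric
open SekSuwa Polynomial TensorProduct CategoryTheory CategoryTheory.Limits AlgebraicGeometry

section Alg
variable {R : Type u} [CommRing R] {lam : R} {N : ℕ} (h : DivCond lam N)

theorem exists_aeval_t (hN : 0 < N) (m : AK R lam N h) :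
    ∃ q : R[X], Polynomial.aeval (AK.t : AK R lam N h) q = m := by
  obtain ⟨x, rfl⟩ := (Groth.Agent.H43.SekSuwaAK.akEquiv h hN).surjective m
  obtain ⟨q, rfl⟩ := AdjoinRoot.mk_surjective x
  refine ⟨q, ?_⟩
  have h1 : (Groth.Agent.H43.SekSuwaAK.akEquiv h hN) (AdjoinRoot.mk _ q)
      = Groth.Agent.H43.SekSuwaAK.fwd h (AdjoinRoot.mk _ q) := rfl
  rw [h1, ← AdjoinRoot.aeval_eq, ← Polynomial.aeval_algHom_apply,
    Groth.Agent.H43.SekSuwaAK.fwd_root]

theorem surjective_baseChange_alphaN (hN : 0 < N)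
    {K' : Type u} [CommRing K'] [Algebra R K'] (hlam : IsUnit (algebraMap R K' lam)) :
    Function.Surjective (Algebra.TensorProduct.map (AlgHom.id K' K')
      (alphaNHom R lam N h : MonoidAlgebra R (Multiplicative (ZMod N)) →ₐ[R] AK R lam N h)) := by
  generalize hPhi : Algebra.TensorProduct.map (AlgHom.id K' K')
      (alphaNHom R lam N h : MonoidAlgebra R (Multiplicative (ZMod N)) →ₐ[R] AK R lam N h) = Phi
  obtain ⟨c, hc⟩ := hlam.exists_left_inv
  have hu : (1 : K') ⊗ₜ[R] (1 + lam • (AK.t : AK R lam N h)) ∈ Phi.range := by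
    refine (AlgHom.mem_range Phi).mpr
      ⟨(1 : K') ⊗ₜ[R] MonoidAlgebra.single (Multiplicative.ofAdd (1 : ZMod N)) (1 : R), ?_⟩
    rw [← hPhi, Algebra.TensorProduct.map_tmul, AlgHom.id_apply]
    congr 1
    exact alphaNHom_single_one R lam N h
  have h1 : (1 : K') ⊗ₜ[R] (lam • (AK.t : AK R lam N h))
      = algebraMap R K' lam • ((1 : K') ⊗ₜ[R] (AK.t : AK R lam N h)) := by
    rw [TensorProduct.smul_tmul', ← TensorProduct.smul_tmul, smul_eq_mul, mul_one,
      Algebra.smul_def, mul_one]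
  have h2 : (1 : K') ⊗ₜ[R] (AK.t : AK R lam N h)
      = c • ((1 : K') ⊗ₜ[R] (1 + lam • (AK.t : AK R lam N h)) - 1) := by
    rw [TensorProduct.tmul_add, h1, ← Algebra.TensorProduct.one_def, add_sub_cancel_left,
      smul_smul, hc, one_smul]
  have ht : (1 : K') ⊗ₜ[R] (AK.t : AK R lam N h) ∈ Phi.range := by
    rw [h2]
    exact Subalgebra.smul_mem _ (Subalgebra.sub_mem _ hu (Subalgebra.one_mem _)) c
  suffices hz : ∀ z, z ∈ Phi.range from fun z => (AlgHom.mem_range Phi).mp (hz z)
  intro z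
  induction z using TensorProduct.induction_on with
  | zero => exact Subalgebra.zero_mem _
  | tmul x m =>
    obtain ⟨q, rfl⟩ := exists_aeval_t h hN m
    have h3 : x ⊗ₜ[R] (Polynomial.aeval (AK.t : AK R lam N h) q)
        = x • ((1 : K') ⊗ₜ[R] Polynomial.aeval (AK.t : AK R lam N h) q) := by
      rw [TensorProduct.smul_tmul', smul_eq_mul, mul_one]
    rw [h3]
    refine Subalgebra.smul_mem _ ?_ x
    have h4 : (1 : K') ⊗ₜ[R] Polynomial.aeval (AK.t : AK R lam N h) q
        = Polynomial.aeval ((1 : K') ⊗ₜ[R] (AK.t : AK R lam N h)) q :=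
      (Polynomial.aeval_algHom_apply
        (Algebra.TensorProduct.includeRight : AK R lam N h →ₐ[R] K' ⊗[R] AK R lam N h)
        AK.t q).symm
    rw [h4]
    have ht' : (1 : K') ⊗ₜ[R] (AK.t : AK R lam N h) ∈ Phi.range.restrictScalars R := ht
    have h5 := Polynomial.aeval_subalgebra_coe q (Phi.range.restrictScalars R) ⟨_, ht'⟩
    rw [← h5]
    exact (Polynomial.aeval (⟨_, ht'⟩ : Phi.range.restrictScalars R) q).2
  | add a b ha hb => exact Subalgebra.add_mem _ ha hb

theorem bijective_baseChange_alphaN [Nontrivial R] (hN : 0 < N)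
    {K' : Type u} [CommRing K'] [Nontrivial K'] [Algebra R K']
    (hlam : IsUnit (algebraMap R K' lam)) :
    Function.Bijective (Algebra.TensorProduct.map (AlgHom.id K' K')
      (alphaNHom R lam N h : MonoidAlgebra R (Multiplicative (ZMod N)) →ₐ[R] AK R lam N h)) := by
  haveI : NeZero N := ⟨hN.ne'⟩
  haveI := Groth.Agent.H43.SekSuwaAK.free_AK h hN
  haveI := Groth.Agent.H43.SekSuwaAK.finite_AK h hN
  haveI : Module.Free R (MonoidAlgebra R (Multiplicative (ZMod N))) :=
    Module.Free.of_equiv (MonoidAlgebra.coeffLinearEquiv R).symm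
  haveI : Module.Finite R (MonoidAlgebra R (Multiplicative (ZMod N))) :=
    Module.Finite.equiv (MonoidAlgebra.coeffLinearEquiv R).symm
  have hsurj := surjective_baseChange_alphaN h hN hlam
  have hfr : Module.finrank K' (K' ⊗[R] MonoidAlgebra R (Multiplicative (ZMod N)))
      = Module.finrank K' (K' ⊗[R] AK R lam N h) := by
    rw [Module.finrank_baseChange, Module.finrank_baseChange,
      Groth.Agent.H43.SekSuwaAK.finrank_AK h hN,
      (MonoidAlgebra.coeffLinearEquiv R).finrank_eq, Module.finrank_finsupp_self,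
      Fintype.card_multiplicative, ZMod.card]
  obtain ⟨e⟩ := FiniteDimensional.nonempty_linearEquiv_of_finrank_eq hfr
  exact OrzechProperty.bijective_of_surjective_of_injective e.toLinearMap
    (Algebra.TensorProduct.map (AlgHom.id K' K')
      (alphaNHom R lam N h : MonoidAlgebra R (Multiplicative (ZMod N)) →ₐ[R]
        AK R lam N h)).toLinearMap e.injective hsurj

end Alg

section Abs

theorem isIso_lift_of_isPullback {C : Type*} [Category C] {P₁ P₂ X₁ X₂ Y Z : C}
    {p₁ : P₁ ⟶ X₁} {q₁ : P₁ ⟶ Y} {f₁ : X₁ ⟶ Z} {g : Y ⟶ Z}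
    {p₂ : P₂ ⟶ X₂} {q₂ : P₂ ⟶ Y} {f₂ : X₂ ⟶ Z}
    (hp₁ : IsPullback p₁ q₁ f₁ g) (hp₂ : IsPullback p₂ q₂ f₂ g)
    [HasPullback f₁ g] [HasPullback f₂ g]
    (al : X₂ ⟶ X₁) (S : P₂ ⟶ P₁) [IsIso S] (hS1 : S ≫ p₁ = p₂ ≫ al) (hS2 : S ≫ q₁ = q₂)
    (L : pullback f₂ g ⟶ pullback f₁ g)
    (hfst : L ≫ pullback.fst f₁ g = pullback.fst f₂ g ≫ al)
    (hsnd : L ≫ pullback.snd f₁ g = pullback.snd f₂ g) : IsIso L := by
  have hcomm : hp₂.isoPullback.hom ≫ L = S ≫ hp₁.isoPullback.hom := by
    apply pullback.hom_ext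
    · rw [Category.assoc, hfst, ← Category.assoc, hp₂.isoPullback_hom_fst, Category.assoc,
        hp₁.isoPullback_hom_fst, hS1]
    · rw [Category.assoc, hsnd, hp₂.isoPullback_hom_snd, Category.assoc,
        hp₁.isoPullback_hom_snd, hS2]
  have hL : L = hp₂.isoPullback.inv ≫ S ≫ hp₁.isoPullback.hom := by
    rw [← hcomm, Iso.inv_hom_id_assoc]
  rw [hL]
  infer_instance

end Abs

section Sch
variable {R : Type u} [CommRing R] [Nontrivial R] {lam : R} {N : ℕ} (h : DivCond lam N)

theorem isIso_pullback_alphaN (hN : 0 < N) (Kc : CommRingCat.{u}) [Nontrivial Kc]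
    (psi : CommRingCat.of R ⟶ Kc) (hu : IsUnit (psi.hom lam)) :
    IsIso ((Over.pullback (Spec.map psi)).map (alphaN R lam N h)) := by
  letI : Algebra R Kc := psi.hom.toAlgebra
  have hbij := bijective_baseChange_alphaN h hN (K' := Kc) hu
  generalize hPhi : Algebra.TensorProduct.map (AlgHom.id Kc Kc)
      (alphaNHom R lam N h : MonoidAlgebra R (Multiplicative (ZMod N)) →ₐ[R] AK R lam N h)
      = Phi at hbij
  haveI : IsIso (CommRingCat.ofHom (Phi : Kc ⊗[R] MonoidAlgebra R (Multiplicative (ZMod N))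
      →+* Kc ⊗[R] AK R lam N h)) :=
    (ConcreteCategory.isIso_iff_bijective _).mpr hbij
  have hp₁ : IsPullback
      (Spec.map (CommRingCat.ofHom (Algebra.TensorProduct.includeRight.toRingHom :
        MonoidAlgebra R (Multiplicative (ZMod N)) →+*
          Kc ⊗[R] MonoidAlgebra R (Multiplicative (ZMod N)))))
      (Spec.map (CommRingCat.ofHom (Algebra.TensorProduct.includeLeftRingHom :
        Kc →+* Kc ⊗[R] MonoidAlgebra R (Multiplicative (ZMod N)))))
      (Red.diag R (ZMod N)).hom (Spec.map psi) :=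
    (isPullback_SpecMap_of_isPushout _ _ _ _
      (CommRingCat.isPushout_tensorProduct R Kc (MonoidAlgebra R (Multiplicative (ZMod N))))).flip
  have hp₂ : IsPullback
      (Spec.map (CommRingCat.ofHom (Algebra.TensorProduct.includeRight.toRingHom :
        AK R lam N h →+* Kc ⊗[R] AK R lam N h)))
      (Spec.map (CommRingCat.ofHom (Algebra.TensorProduct.includeLeftRingHom :
        Kc →+* Kc ⊗[R] AK R lam N h)))
      (GK R lam N h).hom (Spec.map psi) :=
    (isPullback_SpecMap_of_isPushout _ _ _ _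
      (CommRingCat.isPushout_tensorProduct R Kc (AK R lam N h))).flip
  have hal : (alphaN R lam N h).left = Spec.map (CommRingCat.ofHom
      ((alphaNHom R lam N h : MonoidAlgebra R (Multiplicative (ZMod N)) →ₐc[R] AK R lam N h) :
        MonoidAlgebra R (Multiplicative (ZMod N)) →+* AK R lam N h)) := specHom_left _
  have hsq1 : CommRingCat.ofHom
        ((alphaNHom R lam N h : MonoidAlgebra R (Multiplicative (ZMod N)) →ₐc[R] AK R lam N h) :
          MonoidAlgebra R (Multiplicative (ZMod N)) →+* AK R lam N h)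
      ≫ CommRingCat.ofHom (Algebra.TensorProduct.includeRight.toRingHom :
        AK R lam N h →+* Kc ⊗[R] AK R lam N h)
      = CommRingCat.ofHom (Algebra.TensorProduct.includeRight.toRingHom :
          MonoidAlgebra R (Multiplicative (ZMod N)) →+*
            Kc ⊗[R] MonoidAlgebra R (Multiplicative (ZMod N)))
        ≫ CommRingCat.ofHom (Phi : Kc ⊗[R] MonoidAlgebra R (Multiplicative (ZMod N))
            →+* Kc ⊗[R] AK R lam N h) := by
    apply CommRingCat.hom_ext
    apply RingHom.ext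
    intro x
    rw [← hPhi]
    exact (Algebra.TensorProduct.map_tmul (AlgHom.id Kc Kc)
      (alphaNHom R lam N h : MonoidAlgebra R (Multiplicative (ZMod N)) →ₐ[R] AK R lam N h)
      (1 : Kc) x).symm
  have hsq2 : CommRingCat.ofHom (Algebra.TensorProduct.includeLeftRingHom :
        Kc →+* Kc ⊗[R] MonoidAlgebra R (Multiplicative (ZMod N)))
      ≫ CommRingCat.ofHom (Phi : Kc ⊗[R] MonoidAlgebra R (Multiplicative (ZMod N))
            →+* Kc ⊗[R] AK R lam N h)
      = CommRingCat.ofHom (Algebra.TensorProduct.includeLeftRingHom :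
        Kc →+* Kc ⊗[R] AK R lam N h) := by
    apply CommRingCat.hom_ext
    apply RingHom.ext
    intro c
    rw [← hPhi]
    show (Algebra.TensorProduct.map (AlgHom.id Kc Kc)
      (alphaNHom R lam N h : MonoidAlgebra R (Multiplicative (ZMod N)) →ₐ[R] AK R lam N h))
      (c ⊗ₜ[R] (1 : MonoidAlgebra R (Multiplicative (ZMod N)))) = c ⊗ₜ[R] (1 : AK R lam N h)
    rw [Algebra.TensorProduct.map_tmul, map_one, AlgHom.id_apply]
  have hS1 : Spec.map (CommRingCat.ofHom (Phi : Kc ⊗[R] MonoidAlgebra R (Multiplicative (ZMod N))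
        →+* Kc ⊗[R] AK R lam N h))
      ≫ Spec.map (CommRingCat.ofHom (Algebra.TensorProduct.includeRight.toRingHom :
          MonoidAlgebra R (Multiplicative (ZMod N)) →+*
            Kc ⊗[R] MonoidAlgebra R (Multiplicative (ZMod N))))
      = Spec.map (CommRingCat.ofHom (Algebra.TensorProduct.includeRight.toRingHom :
          AK R lam N h →+* Kc ⊗[R] AK R lam N h))
        ≫ Spec.map (CommRingCat.ofHom
          ((alphaNHom R lam N h : MonoidAlgebra R (Multiplicative (ZMod N)) →ₐc[R] AK R lam N h) :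
            MonoidAlgebra R (Multiplicative (ZMod N)) →+* AK R lam N h)) := by
    rw [← Spec.map_comp, ← Spec.map_comp, hsq1]
  have hS2 : Spec.map (CommRingCat.ofHom (Phi : Kc ⊗[R] MonoidAlgebra R (Multiplicative (ZMod N))
        →+* Kc ⊗[R] AK R lam N h))
      ≫ Spec.map (CommRingCat.ofHom (Algebra.TensorProduct.includeLeftRingHom :
        Kc →+* Kc ⊗[R] MonoidAlgebra R (Multiplicative (ZMod N))))
      = Spec.map (CommRingCat.ofHom (Algebra.TensorProduct.includeLeftRingHom :
        Kc →+* Kc ⊗[R] AK R lam N h)) := by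
    rw [← Spec.map_comp, hsq2]
  haveI : IsIso (Spec.map (CommRingCat.ofHom (Phi : Kc ⊗[R] MonoidAlgebra R (Multiplicative (ZMod N))
        →+* Kc ⊗[R] AK R lam N h))) := inferInstance
  have hiso : IsIso ((Over.pullback (Spec.map psi)).map (alphaN R lam N h)).left :=
    isIso_lift_of_isPullback hp₁ hp₂ (alphaN R lam N h).left
      (Spec.map (CommRingCat.ofHom (Phi : Kc ⊗[R] MonoidAlgebra R (Multiplicative (ZMod N))
        →+* Kc ⊗[R] AK R lam N h))) hS1 hS2 _ (pullback.lift_fst _ _ _) (pullback.lift_snd _ _ _)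
  haveI : IsIso ((Over.forget _).map ((Over.pullback (Spec.map psi)).map (alphaN R lam N h))) :=
    hiso
  exact isIso_of_reflects_iso _ (Over.forget _)

end Sch

end Groth.Agent.H54.AlphaNGeneric
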