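import Mathlib
import Groth.Prelude
import Groth.Agent.H18.ArtinResidue
import Groth.Agent.H58.SD_C2

/-! (SOS) for helper63's S5346 squad: over a local Artinian base, surjectivity on stalks lifts from
the closed fibre. -/

set_option autoImplicit false
universe u
open CategoryTheory CategoryTheory.Limits AlgebraicGeometry

namespace Groth.Agent.H54.ArtRes_SOS

/-- nilpotent Nakayama for arbitrary modules over an arbitrary commutative ring
(same proof as `Groth.Agent.H18.ArtinResidue.eq_top_of_sup_smul_eq_top`). -/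
theorem nak {T : Type*} [CommRing T] {M : Type*} [AddCommGroup M] [Module T M]
    {I : Ideal T} (hI : IsNilpotent I) (N : Submodule T M)
    (h : N ⊔ I • (⊤ : Submodule T M) = ⊤) : N = ⊤ := by
  have key : ∀ k : ℕ, N ⊔ (I ^ k) • (⊤ : Submodule T M) = ⊤ := by
    intro k
    induction k with
    | zero => simp
    | succ k ih =>
      rw [eq_top_iff]
      calc (⊤ : Submodule T M) = N ⊔ I ^ k • (⊤ : Submodule T M) := ih.symm
        _ = N ⊔ I ^ k • (N ⊔ I • (⊤ : Submodule T M)) := by rw [h]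
        _ = N ⊔ (I ^ k • N ⊔ I ^ k • (I • (⊤ : Submodule T M))) := by rw [Submodule.smul_sup]
        _ ≤ N ⊔ I ^ (k + 1) • (⊤ : Submodule T M) := by
          refine sup_le le_sup_left (sup_le ?_ ?_)
          · exact le_trans Submodule.smul_le_right le_sup_left
          · rw [← mul_smul, ← pow_succ]
            exact le_sup_right
  obtain ⟨n, hn⟩ := hI
  have := key n
  rw [hn] at this
  simpa using this

section Key

variable {A : Type u} [CommRing A] {X : Scheme.{u}}

/-- the structure map `A → O_{X,x}` -/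
noncomputable def ρ (π : X ⟶ Spec (CommRingCat.of A)) (x : X) : A →+* X.presheaf.stalk x :=
  ((Scheme.ΓSpecIso (CommRingCat.of A)).inv ≫ π.appTop ≫ X.presheaf.germ ⊤ x trivial).hom

theorem ρ_comp {Y : Scheme.{u}} (u : X ⟶ Y) (g : Y ⟶ Spec (CommRingCat.of A)) (x : X) :
    (u.stalkMap x).hom.comp (ρ g (u x)) = ρ (u ≫ g) x := by
  have h : ((Scheme.ΓSpecIso (CommRingCat.of A)).inv ≫ g.appTop ≫
      Y.presheaf.germ ⊤ (u x) trivial) ≫ u.stalkMap x =
      (Scheme.ΓSpecIso (CommRingCat.of A)).inv ≫ (u ≫ g).appTop ≫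
        X.presheaf.germ ⊤ x trivial := by
    rw [Scheme.Hom.comp_appTop, Category.assoc, Category.assoc, Category.assoc]
    congr 2
    exact Scheme.Hom.germ_stalkMap u ⊤ x trivial
  exact congrArg CommRingCat.Hom.hom h

theorem ρ_eq_appLE (π : X ⟶ Spec (CommRingCat.of A)) (x : X) (W : X.Opens) (hxW : x ∈ W) :
    ρ π x = (X.presheaf.germ W x hxW).hom.comp
      ((Scheme.ΓSpecIso (CommRingCat.of A)).inv ≫ π.appLE ⊤ W le_top).hom := by
  have h : (Scheme.ΓSpecIso (CommRingCat.of A)).inv ≫ π.appTop ≫ X.presheaf.germ ⊤ x trivial =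
      ((Scheme.ΓSpecIso (CommRingCat.of A)).inv ≫ π.appLE ⊤ W le_top) ≫
        X.presheaf.germ W x hxW := by
    rw [Category.assoc]
    congr 1
    rw [Scheme.Hom.appLE, Category.assoc, TopCat.Presheaf.germ_res']
    rfl
  exact congrArg CommRingCat.Hom.hom h

/-- KEY, with the projection abstracted as a variable. -/
theorem key' (π : X ⟶ Spec (CommRingCat.of A)) (J : Ideal A)
    (fst : pullback π (Spec.map (CommRingCat.ofHom (Ideal.Quotient.mk J))) ⟶ X)
    (hfst : fst = pullback.fst π (Spec.map (CommRingCat.ofHom (Ideal.Quotient.mk J))))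
    (z : ↥(pullback π (Spec.map (CommRingCat.ofHom (Ideal.Quotient.mk J)))))
    (s : X.presheaf.stalk (fst z)) (hs : (fst.stalkMap z) s = 0) :
    s ∈ J.map (ρ π (fst z)) := by
  haveI : IsClosedImmersion (Spec.map (CommRingCat.ofHom (Ideal.Quotient.mk J))) :=
    IsClosedImmersion.spec_of_surjective _ Ideal.Quotient.mk_surjective
  haveI : IsClosedImmersion fst := by rw [hfst]; infer_instance
  -- represent `s` by a section `b` on an open `V`
  obtain ⟨V, hxV, b, hbs⟩ := X.presheaf.exists_germ_eq s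
  subst hbs
  have h1 : (pullback π (Spec.map (CommRingCat.ofHom (Ideal.Quotient.mk J)))).presheaf.germ
        (fst ⁻¹ᵁ V) z hxV (fst.app V b) =
      (pullback π (Spec.map (CommRingCat.ofHom (Ideal.Quotient.mk J)))).presheaf.germ
        (fst ⁻¹ᵁ V) z hxV 0 := by
    rw [map_zero, ← Scheme.Hom.germ_stalkMap_apply]
    exact hs
  obtain ⟨W₀, hzW₀, iU, iV, h2⟩ :=
    (pullback π (Spec.map (CommRingCat.ofHom (Ideal.Quotient.mk J)))).presheaf.germ_eq
      z hxV hxV _ _ h1
  rw [map_zero] at h2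
  -- `W₀ = fst⁻¹ W'`
  obtain ⟨W', hW'open, hW'⟩ := fst.isEmbedding.isInducing.isOpen_iff.mp W₀.isOpen
  have hxW' : fst z ∈ W' := by
    have : z ∈ fst ⁻¹' W' := by rw [hW']; exact hzW₀
    exact this
  obtain ⟨W, hW, hxW, hWle⟩ := TopologicalSpace.Opens.isBasis_iff_nbhd.mp X.isBasis_affineOpens
    (show fst z ∈ (⟨W', hW'open⟩ : X.Opens) ⊓ V from ⟨hxW', hxV⟩)
  have hWV : W ≤ V := hWle.trans inf_le_right
  have hWW₀ : fst ⁻¹ᵁ W ≤ W₀ := by
    intro y hy
    have h3 : y ∈ fst ⁻¹' W' := (hWle hy).1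
    rw [hW'] at h3
    exact h3
  have hb' : fst.app W (X.presheaf.map (homOfLE hWV).op b) = 0 := by
    have nat := ConcreteCategory.congr_hom (fst.naturality (homOfLE hWV).op) b
    rw [ConcreteCategory.comp_apply, ConcreteCategory.comp_apply] at nat
    rw [nat]
    show ((pullback π (Spec.map (CommRingCat.ofHom (Ideal.Quotient.mk J)))).presheaf.map
      ((TopologicalSpace.Opens.map fst.base).map (homOfLE hWV)).op) (fst.app V b) = 0
    have hfac : ((TopologicalSpace.Opens.map fst.base).map (homOfLE hWV)).op =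
        iU.op ≫ (homOfLE hWW₀).op := by
      rw [← op_comp]
      congr 1
    rw [hfac, Functor.map_comp, ConcreteCategory.comp_apply, h2, map_zero]
  subst hfst
  have hmem := Groth.Agent.H58.SD_C2.mem_map_of_fst_app_eq_zero (CommRingCat.of A) π J W hW
    (X.presheaf.map (homOfLE hWV).op b) hb'
  have hgerm : X.presheaf.germ V _ hxV b =
      X.presheaf.germ W _ hxW (X.presheaf.map (homOfLE hWV).op b) :=
    (X.presheaf.germ_res_apply (homOfLE hWV) _ hxW b).symm
  rw [hgerm, ρ_eq_appLE π _ W hxW, ← Ideal.map_map]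
  exact Ideal.mem_map_of_mem _ hmem

/-- KEY: the kernel of the stalk map of the closed fibre is generated by `J`. -/
theorem key (π : X ⟶ Spec (CommRingCat.of A)) (J : Ideal A)
    (z : ↥(pullback π (Spec.map (CommRingCat.ofHom (Ideal.Quotient.mk J)))))
    (s : X.presheaf.stalk ((pullback.fst π (Spec.map (CommRingCat.ofHom (Ideal.Quotient.mk J)))) z))
    (hs : ((pullback.fst π (Spec.map (CommRingCat.ofHom (Ideal.Quotient.mk J)))).stalkMap z) s = 0) :
    s ∈ J.map (ρ π ((pullback.fst π (Spec.map (CommRingCat.ofHom (Ideal.Quotient.mk J)))) z)) :=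
  key' π J _ rfl z s hs

end Key

/-- Main step, for a nilpotent ideal `J` and the concrete pullback. -/
theorem main' {A : Type u} [CommRing A] (J : Ideal A) (hJ : IsNilpotent J) {X Y : Scheme.{u}}
    (u : X ⟶ Y) (g : Y ⟶ Spec (CommRingCat.of A))
    [Surjective (pullback.fst (u ≫ g) (Spec.map (CommRingCat.ofHom (Ideal.Quotient.mk J))))]
    [SurjectiveOnStalks
      (pullback.fst (u ≫ g) (Spec.map (CommRingCat.ofHom (Ideal.Quotient.mk J))) ≫ u)] :
    SurjectiveOnStalks u := by
  refine ⟨fun x => ?_⟩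
  obtain ⟨z, rfl⟩ :=
    (pullback.fst (u ≫ g) (Spec.map (CommRingCat.ofHom (Ideal.Quotient.mk J)))).surjective x
  generalize hfst : pullback.fst (u ≫ g) (Spec.map (CommRingCat.ofHom (Ideal.Quotient.mk J))) = fst
  have hsurj : Function.Surjective ((fst ≫ u).stalkMap z) := by
    subst hfst
    exact Scheme.Hom.stalkMap_surjective _ z
  have hkey : ∀ s : X.presheaf.stalk (fst z), (fst.stalkMap z) s = 0 →
      s ∈ J.map (ρ (u ≫ g) (fst z)) := fun s hs => key' (u ≫ g) J fst hfst.symm z s hs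
  clear hfst
  letI : Algebra (Y.presheaf.stalk (u (fst z))) (X.presheaf.stalk (fst z)) :=
    (u.stalkMap (fst z)).hom.toAlgebra
  have halg : algebraMap (Y.presheaf.stalk (u (fst z))) (X.presheaf.stalk (fst z)) =
      (u.stalkMap (fst z)).hom := rfl
  have hJT : IsNilpotent (J.map (ρ g (u (fst z)))) := by
    obtain ⟨k, hk⟩ := hJ
    refine ⟨k, ?_⟩
    rw [← Ideal.map_pow, hk]
    exact Ideal.map_bot
  have hN : LinearMap.range (Algebra.linearMap (Y.presheaf.stalk (u (fst z)))
      (X.presheaf.stalk (fst z))) = ⊤ := by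
    apply nak hJT
    rw [eq_top_iff]
    intro s _
    obtain ⟨t, ht⟩ : ∃ t : Y.presheaf.stalk (u (fst z)),
        (fst.stalkMap z) ((u.stalkMap (fst z)) t) = (fst.stalkMap z) s := by
      obtain ⟨t, ht⟩ := hsurj ((fst.stalkMap z) s)
      rw [Scheme.Hom.stalkMap_comp] at ht
      exact ⟨t, ht⟩
    have hker : (fst.stalkMap z) (s - (u.stalkMap (fst z)) t) = 0 := by
      rw [map_sub, sub_eq_zero]
      exact ht.symm
    have hmem := hkey _ hker
    have hsub : s - (u.stalkMap (fst z)) t ∈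
        (J.map (ρ g (u (fst z)))) • (⊤ : Submodule (Y.presheaf.stalk (u (fst z)))
          (X.presheaf.stalk (fst z))) := by
      rw [Ideal.smul_top_eq_map, Submodule.restrictScalars_mem, halg, Ideal.map_map, ρ_comp]
      exact hmem
    have hdec : s = (u.stalkMap (fst z)) t + (s - (u.stalkMap (fst z)) t) := by ring
    rw [hdec]
    exact Submodule.add_mem_sup ⟨t, rfl⟩ hsub
  intro s
  have hs : s ∈ LinearMap.range (Algebra.linearMap (Y.presheaf.stalk (u (fst z)))
      (X.presheaf.stalk (fst z))) := by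
    rw [hN]
    exact Submodule.mem_top
  obtain ⟨t, ht⟩ := hs
  exact ⟨t, ht⟩

/-- (SOS) -/
theorem surjectiveOnStalks_of_residue {A : Type u} [CommRing A] [IsArtinianRing A] [IsLocalRing A]
    {X Y X₀ Y₀ : Scheme.{u}} (u : X ⟶ Y) (g : Y ⟶ Spec (CommRingCat.of A))
    (p : X₀ ⟶ X) (u₀ : X₀ ⟶ Y₀) (q : Y₀ ⟶ Y)
    (b : Y₀ ⟶ Spec (CommRingCat.of (IsLocalRing.ResidueField A)))
    (hX : IsPullback p u₀ u q)
    (hY : IsPullback q b g (Spec.map (CommRingCat.ofHom (IsLocalRing.residue A))))
    (h : SurjectiveOnStalks u₀) : SurjectiveOnStalks u := by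
  have hXY : IsPullback p (u₀ ≫ b) (u ≫ g)
      (Spec.map (CommRingCat.ofHom (Ideal.Quotient.mk (IsLocalRing.maximalIdeal A)))) :=
    hX.paste_vert hY
  have hY' : IsPullback q b g
      (Spec.map (CommRingCat.ofHom (Ideal.Quotient.mk (IsLocalRing.maximalIdeal A)))) := hY
  haveI hi : IsClosedImmersion
      (Spec.map (CommRingCat.ofHom (Ideal.Quotient.mk (IsLocalRing.maximalIdeal A)))) :=
    IsClosedImmersion.spec_of_surjective _ Ideal.Quotient.mk_surjective
  haveI hisurj : Surjective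
      (Spec.map (CommRingCat.ofHom (Ideal.Quotient.mk (IsLocalRing.maximalIdeal A)))) :=
    ⟨fun y => by
      let s : ↥(Spec ((Spec (CommRingCat.of A)).residueField y)) := IsLocalRing.closedPoint _
      refine ⟨(Groth.Agent.H18.ArtinResidue.e y) s, ?_⟩
      have h1 := congrArg (fun f : Spec ((Spec (CommRingCat.of A)).residueField y) ⟶
        Spec (CommRingCat.of A) => f s) (Groth.Agent.H18.ArtinResidue.e_comp y)
      exact h1.trans (Scheme.fromSpecResidueField_apply y s)⟩
  haveI hq : IsClosedImmersion q :=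
    MorphismProperty.of_isPullback (P := @IsClosedImmersion) hY'.flip hi
  have he : hXY.isoPullback.inv ≫ p = pullback.fst _ _ := hXY.isoPullback_inv_fst
  have hcomp : pullback.fst (u ≫ g)
      (Spec.map (CommRingCat.ofHom (Ideal.Quotient.mk (IsLocalRing.maximalIdeal A)))) ≫ u =
      hXY.isoPullback.inv ≫ u₀ ≫ q := by
    rw [← hX.w, ← Category.assoc]
    exact congrArg (· ≫ u) he.symm
  haveI : SurjectiveOnStalks (pullback.fst (u ≫ g)
      (Spec.map (CommRingCat.ofHom (Ideal.Quotient.mk (IsLocalRing.maximalIdeal A)))) ≫ u) := by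
    rw [hcomp]
    haveI h1 : SurjectiveOnStalks u₀ := h
    haveI h2 : SurjectiveOnStalks q := inferInstance
    haveI h3 : SurjectiveOnStalks (u₀ ≫ q) := inferInstance
    haveI h4 : SurjectiveOnStalks hXY.isoPullback.inv := inferInstance
    exact @SurjectiveOnStalks.comp _ _ _ _ _ h4 h3
  exact main' (IsLocalRing.maximalIdeal A) Groth.Agent.H18.ArtinResidue.isNilpotent_maximalIdeal u g

end Groth.Agent.H54.ArtRes_SOS
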