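import Mathlib
import Groth.Prelude
import Groth.Agent.H9.ComapIdeal

/-!
# Piece (A4) of the S1695 squad (helper95)

If `σ` is a global function lying in the effective Cartier ideal `E` whose pullback along
`j : Spec C ⟶ X'` generates the pulled back ideal and is a nonzerodivisor, then `σ` generates `E`
near the image of `j`.
-/

set_option autoImplicit false
universe u
open CategoryTheory CategoryTheory.Limits AlgebraicGeometry

namespace Groth.Agent.H54.BC_A4

/-- If `E` is generated by the nonzerodivisor `c` on the affine `U` and `s = u * c`, then on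
`D(u)` the ideal `E` is generated by the nonzerodivisor `s`. -/
theorem ideal_basicOpen_eq_span {X : Scheme.{u}} (E : X.IdealSheafData) (U : X.affineOpens)
    (c u s : Γ(X, U.1)) (hc : c ∈ nonZeroDivisors Γ(X, U.1)) (hE : E.ideal U = Ideal.span {c})
    (hs : s = u * c) :
    (E.ideal (X.affineBasicOpen u) : Ideal Γ(X, X.basicOpen u)) =
        Ideal.span {(X.presheaf.map (homOfLE (X.basicOpen_le u)).op).hom s} ∧
      (X.presheaf.map (homOfLE (X.basicOpen_le u)).op).hom s ∈
        nonZeroDivisors Γ(X, X.basicOpen u) := by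
  haveI : IsLocalization.Away u Γ(X, X.basicOpen u) := U.2.isLocalization_basicOpen u
  have hunit : IsUnit ((X.presheaf.map (homOfLE (X.basicOpen_le u)).op).hom u) :=
    IsLocalization.map_units Γ(X, X.basicOpen u) (⟨u, Submonoid.mem_powers u⟩ : Submonoid.powers u)
  have hcn : (X.presheaf.map (homOfLE (X.basicOpen_le u)).op).hom c ∈
      nonZeroDivisors Γ(X, X.basicOpen u) :=
    IsLocalization.map_nonZeroDivisors_le (Submonoid.powers u) Γ(X, X.basicOpen u)
      (Submonoid.mem_map_of_mem (algebraMap Γ(X, U.1) Γ(X, X.basicOpen u)) hc)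
  have h1 : (E.ideal (X.affineBasicOpen u) : Ideal Γ(X, X.basicOpen u)) =
      Ideal.span {(X.presheaf.map (homOfLE (X.basicOpen_le u)).op).hom c} := by
    have := (E.map_ideal_basicOpen U u).symm
    rw [hE, Ideal.map_span, Set.image_singleton] at this
    exact this
  subst hs
  rw [map_mul]
  refine ⟨?_, mul_mem hunit.mem_nonZeroDivisors hcn⟩
  rw [Ideal.span_singleton_mul_left_unit hunit]
  exact h1

theorem A4 {X' : Scheme.{u}} (C : Type u) [CommRing C] (E : X'.IdealSheafData)
    (hE : BlowUp.IsEffCartierIdeal E) (j : Spec (CommRingCat.of C) ⟶ X') (σ : Γ(X', ⊤))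
    (hσ : ∀ W : X'.affineOpens,
      (X'.presheaf.map (homOfLE (le_top : W.1 ≤ ⊤)).op).hom σ ∈ E.ideal W)
    (hnzd : j.appTop.hom σ ∈ nonZeroDivisors Γ(Spec (CommRingCat.of C), ⊤))
    (hgen : (E.comap j).ideal ⟨⊤, isAffineOpen_top _⟩ = Ideal.span {j.appTop.hom σ})
    (y : Spec (CommRingCat.of C)) :
    ∃ W : X'.affineOpens, j y ∈ W.1 ∧
      E.ideal W = Ideal.span {(X'.presheaf.map (homOfLE (le_top : W.1 ≤ ⊤)).op).hom σ} ∧
      (X'.presheaf.map (homOfLE (le_top : W.1 ≤ ⊤)).op).hom σ ∈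
        nonZeroDivisors Γ(X', W.1) := by
  obtain ⟨W₀, hyW₀, c, hc, hEc⟩ := hE (j y)
  have hσ0 := hσ W₀
  rw [hEc] at hσ0
  obtain ⟨u, hu⟩ := Ideal.mem_span_singleton'.mp hσ0
  -- a basic open neighbourhood of `y` inside `j⁻¹ W₀`
  have hTop : IsAffineOpen (⊤ : (Spec (CommRingCat.of C)).Opens) := isAffineOpen_top _
  obtain ⟨h, hle, hyh⟩ := hTop.exists_basicOpen_le (V := j ⁻¹ᵁ W₀.1) ⟨y, hyW₀⟩
    (TopologicalSpace.Opens.mem_top _)
  have hVaff : IsAffineOpen ((Spec (CommRingCat.of C)).basicOpen h) := hTop.basicOpen h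
  -- two descriptions of the pulled back ideal on `D(h)`
  have hI1 : (E.comap j).ideal ⟨(Spec (CommRingCat.of C)).basicOpen h, hVaff⟩ =
      Ideal.span {(j.appLE W₀.1 ((Spec (CommRingCat.of C)).basicOpen h) hle).hom c} := by
    have := Groth.Agent.H9.comap_ideal j E W₀ ⟨(Spec (CommRingCat.of C)).basicOpen h, hVaff⟩ hle
    rw [hEc, Ideal.map_span, Set.image_singleton] at this
    exact this
  have hI2 : (E.comap j).ideal ⟨(Spec (CommRingCat.of C)).basicOpen h, hVaff⟩ =
      Ideal.span {((Spec (CommRingCat.of C)).presheaf.map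
        (homOfLE ((Spec (CommRingCat.of C)).basicOpen_le h)).op).hom (j.appTop.hom σ)} := by
    have := ((E.comap j).map_ideal_basicOpen ⟨⊤, isAffineOpen_top _⟩ h).symm
    rw [hgen, Ideal.map_span, Set.image_singleton] at this
    exact this
  -- naturality
  have hnat : j.appTop ≫ (Spec (CommRingCat.of C)).presheaf.map
        (homOfLE ((Spec (CommRingCat.of C)).basicOpen_le h)).op =
      X'.presheaf.map (homOfLE (le_top : W₀.1 ≤ ⊤)).op ≫
        j.appLE W₀.1 ((Spec (CommRingCat.of C)).basicOpen h) hle := by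
    rw [Scheme.Hom.map_appLE, Scheme.Hom.appLE]
    rfl
  have ht : ((Spec (CommRingCat.of C)).presheaf.map
        (homOfLE ((Spec (CommRingCat.of C)).basicOpen_le h)).op).hom (j.appTop.hom σ) =
      (j.appLE W₀.1 ((Spec (CommRingCat.of C)).basicOpen h) hle).hom u *
        (j.appLE W₀.1 ((Spec (CommRingCat.of C)).basicOpen h) hle).hom c := by
    rw [← map_mul, hu]
    exact congrArg (fun φ => φ.hom σ) hnat
  -- the pulled back generator is a nonzerodivisor on `D(h)`
  haveI : IsLocalization.Away h Γ(Spec (CommRingCat.of C), (Spec (CommRingCat.of C)).basicOpen h) :=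
    hTop.isLocalization_basicOpen h
  have tnzd : ((Spec (CommRingCat.of C)).presheaf.map
        (homOfLE ((Spec (CommRingCat.of C)).basicOpen_le h)).op).hom (j.appTop.hom σ) ∈
      nonZeroDivisors Γ(Spec (CommRingCat.of C), (Spec (CommRingCat.of C)).basicOpen h) :=
    IsLocalization.map_nonZeroDivisors_le (Submonoid.powers h)
      Γ(Spec (CommRingCat.of C), (Spec (CommRingCat.of C)).basicOpen h)
      (Submonoid.mem_map_of_mem (algebraMap Γ(Spec (CommRingCat.of C), ⊤)
        Γ(Spec (CommRingCat.of C), (Spec (CommRingCat.of C)).basicOpen h)) hnzd)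
  -- `j^♯ u` is a unit on `D(h)`
  have hle2 : Ideal.span {(j.appLE W₀.1 ((Spec (CommRingCat.of C)).basicOpen h) hle).hom c} ≤
      Ideal.span {((Spec (CommRingCat.of C)).presheaf.map
        (homOfLE ((Spec (CommRingCat.of C)).basicOpen_le h)).op).hom (j.appTop.hom σ)} :=
    le_of_eq (hI1.symm.trans hI2)
  obtain ⟨v, hv⟩ := Ideal.mem_span_singleton'.mp (hle2 (Ideal.mem_span_singleton_self _))
  have h1 : (j.appLE W₀.1 ((Spec (CommRingCat.of C)).basicOpen h) hle).hom u * v = 1 := by
    have h2 : ((j.appLE W₀.1 ((Spec (CommRingCat.of C)).basicOpen h) hle).hom u * v) *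
        ((Spec (CommRingCat.of C)).presheaf.map
          (homOfLE ((Spec (CommRingCat.of C)).basicOpen_le h)).op).hom (j.appTop.hom σ) =
        1 * ((Spec (CommRingCat.of C)).presheaf.map
          (homOfLE ((Spec (CommRingCat.of C)).basicOpen_le h)).op).hom (j.appTop.hom σ) := by
      rw [one_mul, mul_assoc, hv]
      exact ht.symm
    exact (mul_cancel_right_mem_nonZeroDivisors tnzd).mp h2
  have hunit : IsUnit ((j.appLE W₀.1 ((Spec (CommRingCat.of C)).basicOpen h) hle).hom u) :=
    ⟨⟨_, v, h1, by rw [mul_comm]; exact h1⟩, rfl⟩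
  -- hence `j y ∈ D(u)`
  have hb1 : (Spec (CommRingCat.of C)).basicOpen
      ((j.appLE W₀.1 ((Spec (CommRingCat.of C)).basicOpen h) hle).hom u) =
      (Spec (CommRingCat.of C)).basicOpen h :=
    (Spec (CommRingCat.of C)).basicOpen_of_isUnit hunit
  have hy2 : y ∈ (Spec (CommRingCat.of C)).basicOpen
      ((j.appLE W₀.1 ((Spec (CommRingCat.of C)).basicOpen h) hle).hom u) := by
    rw [hb1]; exact hyh
  have hy3 : y ∈ (Spec (CommRingCat.of C)).basicOpen h ⊓ j ⁻¹ᵁ (X'.basicOpen u) := by
    rw [← Scheme.basicOpen_appLE j ((Spec (CommRingCat.of C)).basicOpen h) W₀.1 hle u]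
    exact hy2
  -- conclusion on `D(u)`
  have hres : (X'.presheaf.map (homOfLE (le_top : (X'.affineBasicOpen u).1 ≤ ⊤)).op).hom σ =
      (X'.presheaf.map (homOfLE (X'.basicOpen_le u)).op).hom
        ((X'.presheaf.map (homOfLE (le_top : W₀.1 ≤ ⊤)).op).hom σ) := by
    have hcomp : X'.presheaf.map (homOfLE (le_top : W₀.1 ≤ ⊤)).op ≫
        X'.presheaf.map (homOfLE (X'.basicOpen_le u)).op =
        X'.presheaf.map (homOfLE (le_top : (X'.affineBasicOpen u).1 ≤ ⊤)).op := by
      rw [← Functor.map_comp]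
      rfl
    exact (congrArg (fun φ => φ.hom σ) hcomp).symm
  obtain ⟨hL1, hL2⟩ := ideal_basicOpen_eq_span E W₀ c u
    ((X'.presheaf.map (homOfLE (le_top : W₀.1 ≤ ⊤)).op).hom σ) hc hEc hu.symm
  refine ⟨X'.affineBasicOpen u, hy3.2, ?_, ?_⟩
  · rw [hres]
    exact hL1
  · rw [hres]
    exact hL2

end Groth.Agent.H54.BC_A4
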