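import Mathlib
import Groth.Prelude.Def_BlowUp2

/-!
# (UI) for helper95's S8859 squad: uniqueness of blow-ups
-/

set_option autoImplicit false
universe u
open CategoryTheory CategoryTheory.Limits AlgebraicGeometry

namespace Groth.Agent.H54.BUEX_UI

/-- (UI) a morphism of blow-ups of the same ideal is an isomorphism. -/
theorem UI {X B₁ B₂ : Scheme.{u}} (I : X.IdealSheafData) (b₁ : B₁ ⟶ X) (b₂ : B₂ ⟶ X)
    (h₁ : BlowUp.IsBlowUp b₁ I) (h₂ : BlowUp.IsBlowUp b₂ I) (l : B₁ ⟶ B₂) (hl : l ≫ b₂ = b₁) :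
    IsIso l := by
  obtain ⟨k, hk, -⟩ := h₁.2 B₂ b₂ h₂.1
  have hk' : k ≫ b₁ = b₂ := hk
  have h11 : l ≫ k = 𝟙 B₁ :=
    (h₁.2 B₁ b₁ h₁.1).unique (by rw [Category.assoc, hk', hl]) (Category.id_comp _)
  have h22 : k ≫ l = 𝟙 B₂ :=
    (h₂.2 B₂ b₂ h₂.1).unique (by rw [Category.assoc, hl, hk']) (Category.id_comp _)
  exact ⟨⟨k, h11, h22⟩⟩

end Groth.Agent.H54.BUEX_UI
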