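import Mathlib
import Groth.Agent.H54.FibreTdeg
import Groth.Agent.H54.FibreKrull
import Groth.Agent.H54.FibreImm

/-!
# Closed immersions detected on closed points and cotangent spaces
-/

set_option autoImplicit false
universe u
open CategoryTheory CategoryTheory.Limits AlgebraicGeometry

namespace Groth.Agent.H54

/-- At a closed point of a scheme locally of finite type over a field, the residue field is
integral over the base field. -/
theorem resMapOf_isIntegral_of_isClosed {k : Type u} [Field k] {X : Scheme.{u}}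
    (s : X ⟶ Spec (CommRingCat.of k)) [LocallyOfFiniteType s] (x : X)
    (hx : IsClosed ({x} : Set X)) : (resMapOf s x).IsIntegral := by
  have h0 := tdeg_eq_zero_of_isClosed s x hx
  have h1 : @Algebra.trdeg k (X.residueField x) _ _ (resMapOf s x).toAlgebra =
      (tdeg s x : Cardinal.{u}) := tdeg_spec s x
  letI := (resMapOf s x).toAlgebra
  rw [h0, Nat.cast_zero, trdeg_eq_zero_iff] at h1
  haveI := h1
  intro z
  exact (Algebra.IsIntegral.isIntegral z : IsIntegral k z)

/-- A morphism factoring through the spectrum of a field kills the maximal ideals on stalks. -/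
theorem stalkMap_eq_zero_of_fac {F Y : Scheme.{u}} {K : Type u} [Field K]
    (a : F ⟶ Spec (CommRingCat.of K)) (j : Spec (CommRingCat.of K) ⟶ Y) (z : F)
    (t : Y.presheaf.stalk (j.base (a.base z)))
    (ht : t ∈ IsLocalRing.maximalIdeal (Y.presheaf.stalk (j.base (a.base z)))) :
    (a.stalkMap z).hom ((j.stalkMap (a.base z)).hom t) = 0 := by
  have hfield : IsField ((Spec (CommRingCat.of K)).presheaf.stalk (a.base z)) := by
    apply isField_stalk_of_closure_mem_irreducibleComponents
    rw [irreducibleComponents_eq_singleton, Set.mem_singleton_iff]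
    apply Set.eq_univ_of_forall
    intro w
    rw [Subsingleton.elim w (a.base z)]
    exact subset_closure rfl
  have hnu : ¬ IsUnit ((j.stalkMap (a.base z)).hom t) := fun hu =>
    ht ((isUnit_map_iff (j.stalkMap (a.base z)).hom t).mp hu)
  have h0 : (j.stalkMap (a.base z)).hom t = 0 := by
    by_contra hne
    obtain ⟨b, hb⟩ := hfield.mul_inv_cancel hne
    exact hnu (IsUnit.of_mul_eq_one b hb)
  rw [h0, map_zero]

theorem stalkMap_eq_zero_of_fac' {F Y : Scheme.{u}} {K : Type u} [Field K] (h : F ⟶ Y)
    (a : F ⟶ Spec (CommRingCat.of K)) (j : Spec (CommRingCat.of K) ⟶ Y) (hfac : h = a ≫ j)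
    (z : F) (t : Y.presheaf.stalk (h.base z))
    (ht : t ∈ IsLocalRing.maximalIdeal (Y.presheaf.stalk (h.base z))) :
    (h.stalkMap z).hom t = 0 := by
  subst hfac
  rw [Scheme.Hom.stalkMap_comp]
  exact stalkMap_eq_zero_of_fac a j z t ht

/-- The cotangent condition forces the local ring of the fibre to be a field. -/
theorem maximalIdeal_fiber_eq_bot {X Y : Scheme.{u}} (f : X ⟶ Y) (y : Y) (z : f.fiber y)
    [IsNoetherianRing ((f.fiber y).presheaf.stalk z)]
    (hT : Ideal.map (f.stalkMap ((f.fiberι y).base z)).hom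
        (IsLocalRing.maximalIdeal (Y.presheaf.stalk (f.base ((f.fiberι y).base z)))) ⊔
      IsLocalRing.maximalIdeal (X.presheaf.stalk ((f.fiberι y).base z)) ^ 2 =
        IsLocalRing.maximalIdeal (X.presheaf.stalk ((f.fiberι y).base z))) :
    IsLocalRing.maximalIdeal ((f.fiber y).presheaf.stalk z) = ⊥ := by
  obtain ⟨σ, hσ⟩ : ∃ σ, σ = ((f.fiberι y).stalkMap z).hom := ⟨_, rfl⟩
  obtain ⟨φ, hφ⟩ : ∃ φ, φ = (f.stalkMap ((f.fiberι y).base z)).hom := ⟨_, rfl⟩
  have hσsurj : Function.Surjective σ := by
    rw [hσ]; exact (f.fiberι y).stalkMap_surjective z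
  haveI hσloc : IsLocalHom σ := by rw [hσ]; infer_instance
  have hkill : ∀ t ∈ IsLocalRing.maximalIdeal
      (Y.presheaf.stalk (f.base ((f.fiberι y).base z))), σ (φ t) = 0 := by
    intro t ht
    have h1 : σ (φ t) = ((f.fiberι y ≫ f).stalkMap z).hom t := by
      rw [Scheme.Hom.stalkMap_comp, hσ, hφ]; rfl
    rw [h1]
    exact stalkMap_eq_zero_of_fac' (f.fiberι y ≫ f) (f.fiberToSpecResidueField y)
      (Y.fromSpecResidueField y) (f.fiber_fac y) z t ht
  have hm_le : ∀ a ∈ IsLocalRing.maximalIdeal (X.presheaf.stalk ((f.fiberι y).base z)),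
      σ a ∈ IsLocalRing.maximalIdeal ((f.fiber y).presheaf.stalk z) := by
    intro a ha
    rw [IsLocalRing.mem_maximalIdeal, mem_nonunits_iff] at ha ⊢
    exact fun hu => ha ((isUnit_map_iff σ a).mp hu)
  have hle : IsLocalRing.maximalIdeal ((f.fiber y).presheaf.stalk z) ≤
      IsLocalRing.maximalIdeal ((f.fiber y).presheaf.stalk z) *
        IsLocalRing.maximalIdeal ((f.fiber y).presheaf.stalk z) := by
    intro t ht
    obtain ⟨a, rfl⟩ := hσsurj t
    have ha : a ∈ IsLocalRing.maximalIdeal (X.presheaf.stalk ((f.fiberι y).base z)) := by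
      rw [IsLocalRing.mem_maximalIdeal, mem_nonunits_iff] at ht ⊢
      exact fun hu => ht (hu.map σ)
    rw [← hT, ← hφ] at ha
    obtain ⟨b, hb, c, hc, rfl⟩ := Submodule.mem_sup.mp ha
    have hb0 : σ b = 0 := by
      have hle' : Ideal.map φ (IsLocalRing.maximalIdeal
          (Y.presheaf.stalk (f.base ((f.fiberι y).base z)))) ≤ RingHom.ker σ :=
        Ideal.map_le_iff_le_comap.mpr fun t ht => RingHom.mem_ker.mpr (hkill t ht)
      exact RingHom.mem_ker.mp (hle' hb)
    have hc' : σ c ∈ IsLocalRing.maximalIdeal ((f.fiber y).presheaf.stalk z) ^ 2 := by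
      have h2 : σ c ∈ Ideal.map σ
          (IsLocalRing.maximalIdeal (X.presheaf.stalk ((f.fiberι y).base z)) ^ 2) :=
        Ideal.mem_map_of_mem σ hc
      rw [Ideal.map_pow] at h2
      have hmap_le : Ideal.map σ
          (IsLocalRing.maximalIdeal (X.presheaf.stalk ((f.fiberι y).base z))) ≤
          IsLocalRing.maximalIdeal ((f.fiber y).presheaf.stalk z) :=
        Ideal.map_le_iff_le_comap.mpr fun a ha => hm_le a ha
      exact Ideal.pow_right_mono hmap_le 2 h2
    rw [map_add, hb0, zero_add, ← pow_two]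
    exact hc'
  have hfg : (IsLocalRing.maximalIdeal ((f.fiber y).presheaf.stalk z)).FG :=
    IsNoetherian.noetherian _
  exact Submodule.eq_bot_of_le_smul_of_le_jacobson_bot _ _ hfg (by rwa [smul_eq_mul])
    (IsLocalRing.maximalIdeal_le_jacobson _)

/-- On a one-point scheme the germ map on global sections is injective. -/
theorem germ_top_injective_of_forall_eq {F : Scheme.{u}} (x₀ : F) (hall : ∀ z : F, z = x₀) :
    Function.Injective (F.presheaf.germ ⊤ x₀ trivial).hom := by
  rw [injective_iff_map_eq_zero]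
  intro s hs
  have hs' : F.presheaf.germ ⊤ x₀ trivial s = F.presheaf.germ ⊤ x₀ trivial 0 := by
    rw [map_zero]; exact hs
  obtain ⟨W, hW, iU, iV, e⟩ := F.presheaf.germ_eq (U := ⊤) (V := ⊤) x₀ trivial trivial s 0 hs'
  have hWtop : W = ⊤ := by
    ext z
    rw [hall z]
    exact ⟨fun _ => trivial, fun _ => hW⟩
  subst hWtop
  have h1 : iU = 𝟙 _ := Subsingleton.elim _ _
  have h2 : iV = 𝟙 _ := Subsingleton.elim _ _
  rw [h1, h2] at e
  simpa using e

/-- The fibre condition at a closed point: for a quasi-compact morphism of schemes locally of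
finite type over an algebraically closed field that is injective on closed points and has
surjective cotangent maps at closed points. -/
theorem fibCond_of_closedPoint (k : Type u) [Field k] [IsAlgClosed k] {X Y : Scheme.{u}}
    (f : X ⟶ Y) (q : Y ⟶ Spec (CommRingCat.of k)) [LocallyOfFiniteType q]
    [LocallyOfFiniteType (f ≫ q)] [QuasiCompact f]
    (hinj : Set.InjOn f.base {x : X | IsClosed ({x} : Set X)})
    (hT : ∀ x : X, IsClosed ({x} : Set X) →
      Ideal.map (f.stalkMap x).hom (IsLocalRing.maximalIdeal (Y.presheaf.stalk (f.base x))) ⊔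
        IsLocalRing.maximalIdeal (X.presheaf.stalk x) ^ 2 =
          IsLocalRing.maximalIdeal (X.presheaf.stalk x))
    (y : Y) (hy : IsClosed ({y} : Set Y)) : FibCond f y := by
  haveI : LocallyOfFiniteType f := locallyOfFiniteType_of_comp f q
  by_cases he : IsEmpty (f.fiber y)
  · exact Or.inl he
  right
  haveI hne : Nonempty (f.fiber y) := not_isEmpty_iff.mp he
  have hrange : IsClosed (Set.range (f.fiberι y).base) := by
    rw [f.range_fiberι]; exact hy.preimage f.continuous
  have hcemb : Topology.IsClosedEmbedding (f.fiberι y).base :=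
    ⟨(f.fiberι y).isEmbedding, hrange⟩
  have hclpt : ∀ z : f.fiber y, IsClosed ({z} : Set (f.fiber y)) →
      IsClosed ({(f.fiberι y).base z} : Set X) := fun z hz => by
    have := hcemb.isClosedMap _ hz
    rwa [Set.image_singleton] at this
  have hcl_eq : ∀ z z' : f.fiber y, IsClosed ({z} : Set (f.fiber y)) →
      IsClosed ({z'} : Set (f.fiber y)) → z = z' := by
    intro z z' hz hz'
    apply (f.fiberι y).isEmbedding.injective
    apply hinj (hclpt z hz) (hclpt z' hz')
    rw [fiberι_mem f y z, fiberι_mem f y z']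
  obtain ⟨x₀, -, hx₀⟩ := (isClosed_univ (X := f.fiber y)).exists_closed_singleton
    ⟨Classical.arbitrary _, trivial⟩
  haveI : JacobsonSpace (f.fiber y) := LocallyOfFiniteType.jacobsonSpace (fiberQ f y)
  have hcp : closedPoints (f.fiber y) = {x₀} := by
    ext z
    rw [mem_closedPoints_iff, Set.mem_singleton_iff]
    exact ⟨fun hz => hcl_eq z x₀ hz hx₀, fun h => h ▸ hx₀⟩
  have hall : ∀ z : f.fiber y, z = x₀ := by
    intro z
    have h1 : z ∈ closure (closedPoints (f.fiber y)) := by
      rw [closure_closedPoints]; trivial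
    rw [hcp, hx₀.closure_eq] at h1
    exact h1
  haveI : IsAffine (f.fiber y) := by
    obtain ⟨U, hU, hxU, -⟩ :=
      exists_isAffineOpen_mem_and_subset (X := f.fiber y) (x := x₀) (U := ⊤) trivial
    have hUtop : U = ⊤ := by
      ext z
      rw [hall z]
      exact ⟨fun _ => trivial, fun _ => hxU⟩
    rw [hUtop] at hU
    haveI : IsAffine (⊤ : (f.fiber y).Opens).toScheme := hU
    exact IsAffine.of_isIso (Scheme.topIso (f.fiber y)).inv
  haveI : IsLocallyNoetherian (f.fiber y) :=
    LocallyOfFiniteType.isLocallyNoetherian (fiberQ f y)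
  have hm : IsLocalRing.maximalIdeal ((f.fiber y).presheaf.stalk x₀) = ⊥ :=
    maximalIdeal_fiber_eq_bot f y x₀ (hT _ (hclpt x₀ hx₀))
  -- surjectivity of the residue field map
  have hint1 : (resMapOf q y).IsIntegral := resMapOf_isIntegral_of_isClosed q y hy
  have hint2 : (resMapOf (fiberQ f y) x₀).IsIntegral :=
    resMapOf_isIntegral_of_isClosed (fiberQ f y) x₀ hx₀
  have hbij : Function.Bijective ((resMapOf (fiberQ f y) x₀).comp (resMapOf q y)) :=
    IsAlgClosed.ringHom_bijective_of_isIntegral _ (RingHom.IsIntegral.trans _ _ hint1 hint2)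
  have hsurj : Function.Surjective (resMapOf (fiberQ f y) x₀) := fun e => by
    obtain ⟨c, hc⟩ := hbij.2 e
    exact ⟨resMapOf q y c, hc⟩
  haveI : IsClosedImmersion (f.fiberToSpecResidueField y) := by
    rw [HasAffineProperty.iff_of_isAffine (P := @IsClosedImmersion)]
    refine ⟨inferInstance, fun b => ?_⟩
    obtain ⟨c, hc⟩ := hsurj ((f.fiber y).residue x₀ ((f.fiber y).presheaf.germ ⊤ x₀ trivial b))
    refine ⟨(Scheme.ΓSpecIso (CommRingCat.of (Y.residueField y))).inv.hom c, ?_⟩
    apply germ_top_injective_of_forall_eq x₀ hall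
    have h3 : (f.fiber y).residue x₀ ((f.fiber y).presheaf.germ ⊤ x₀ trivial
        ((f.fiberToSpecResidueField y).appTop.hom
          ((Scheme.ΓSpecIso (CommRingCat.of (Y.residueField y))).inv.hom c))) =
        (f.fiber y).residue x₀ ((f.fiber y).presheaf.germ ⊤ x₀ trivial b) := hc
    have h4 : (f.fiber y).presheaf.germ ⊤ x₀ trivial
        ((f.fiberToSpecResidueField y).appTop.hom
          ((Scheme.ΓSpecIso (CommRingCat.of (Y.residueField y))).inv.hom c)) -
        (f.fiber y).presheaf.germ ⊤ x₀ trivial b ∈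
          IsLocalRing.maximalIdeal ((f.fiber y).presheaf.stalk x₀) := by
      rw [← IsLocalRing.residue_eq_zero_iff, map_sub, sub_eq_zero]
      exact h3
    rw [hm, Ideal.mem_bot, sub_eq_zero] at h4
    exact h4
  haveI : Surjective (f.fiberToSpecResidueField y) := ⟨fun z => by
    exact ⟨x₀, Subsingleton.elim (α := PrimeSpectrum _) _ _⟩⟩
  exact isIso_of_isClosedImmersion_of_surjective _

end Groth.Agent.H54
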