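import Groth.Agent.H54.ZMT
import Groth.Agent.S7659

set_option autoImplicit false
universe u

namespace Groth.Agent.H54

open AlgebraicGeometry CategoryTheory Limits

/-- An element of the function field integral over a normal local ring lies in it. -/
theorem exists_stalkSpecializes_eq_of_monic {W : Scheme.{u}} [IsIntegral W] (y y₀ : W)
    (h₀ : y₀ = genericPoint W) (hs : y₀ ⤳ y) (hy : IsIntegrallyClosed (W.presheaf.stalk y))
    (α : W.presheaf.stalk y₀) (q : Polynomial (W.presheaf.stalk y)) (hq : q.Monic)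
    (hα : Polynomial.eval₂ (W.presheaf.stalkSpecializes hs).hom α q = 0) :
    ∃ a : W.presheaf.stalk y, W.presheaf.stalkSpecializes hs a = α := by
  subst h₀
  have hint : _root_.IsIntegral (W.presheaf.stalk y) (α : W.functionField) := ⟨q, hq, hα⟩
  obtain ⟨a, ha⟩ := IsIntegrallyClosed.isIntegral_iff.mp hint
  exact ⟨a, ha⟩

theorem stalkSpecializes_injective_of_eq_genericPoint {W : Scheme.{u}} [IsIntegral W] (y y₀ : W)
    (h₀ : y₀ = genericPoint W) (hs : y₀ ⤳ y) :
    Function.Injective (W.presheaf.stalkSpecializes hs) := by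
  subst h₀
  exact IsFractionRing.injective (W.presheaf.stalk y) W.functionField

/-- An integral birational morphism of integral schemes induces an isomorphism on the stalk at
any point lying over a normal point. -/
theorem isIso_stalkMap_of_isIntegralHom_of_birational {N W : Scheme.{u}} [IsIntegral N]
    [IsIntegral W] (π : N ⟶ W) [IsIntegralHom π]
    (hgen : π (genericPoint N) = genericPoint W)
    (hbir : IsIso (π.stalkMap (genericPoint N))) (n : N)
    (hy : IsIntegrallyClosed (W.presheaf.stalk (π n))) : IsIso (π.stalkMap n) := by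
  rw [ConcreteCategory.isIso_iff_bijective]
  have hσ : Function.Bijective (π.stalkMap (genericPoint N)) :=
    (ConcreteCategory.isIso_iff_bijective _).mp hbir
  have hsN : genericPoint N ⤳ n := (genericPoint_spec N).specializes trivial
  have hsW : π (genericPoint N) ⤳ π n := π.base.hom.map_specializes hsN
  have hnat : ∀ a : W.presheaf.stalk (π n),
      π.stalkMap (genericPoint N) (W.presheaf.stalkSpecializes hsW a) =
        N.presheaf.stalkSpecializes hsN (π.stalkMap n a) :=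
    fun a => Scheme.Hom.stalkSpecializes_stalkMap_apply π (genericPoint N) n hsN a
  have hinjN : Function.Injective (N.presheaf.stalkSpecializes hsN) :=
    stalkSpecializes_injective_of_eq_genericPoint n _ rfl hsN
  have hinjW : Function.Injective (W.presheaf.stalkSpecializes hsW) :=
    stalkSpecializes_injective_of_eq_genericPoint (π n) _ hgen hsW
  obtain ⟨_, ⟨W₀, hW₀, rfl⟩, hnW₀, -⟩ :=
    W.isBasis_affineOpens.exists_subset_of_mem_open (Set.mem_univ (π n)) isOpen_univ
  have hN₀ : IsAffineOpen (π ⁻¹ᵁ W₀) := hW₀.preimage π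
  have hηN₀ : genericPoint N ∈ π ⁻¹ᵁ W₀ :=
    ((genericPoint_spec N).mem_open_set_iff (π ⁻¹ᵁ W₀).2).mpr ⟨n, trivial, hnW₀⟩
  have key : ∀ c : Γ(N, π ⁻¹ᵁ W₀), ∃ a : W.presheaf.stalk (π n),
      π.stalkMap n a = N.presheaf.germ (π ⁻¹ᵁ W₀) n hnW₀ c := by
    intro c
    obtain ⟨p, hp, hpc⟩ := π.isIntegral_app W₀ hW₀ c
    obtain ⟨α, hα⟩ := hσ.2 (N.presheaf.germ (π ⁻¹ᵁ W₀) (genericPoint N) hηN₀ c)
    have hcomp : ∀ a : Γ(W, W₀),
        π.stalkMap (genericPoint N) (W.presheaf.germ _ (π (genericPoint N)) hηN₀ a) =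
          N.presheaf.germ (π ⁻¹ᵁ W₀) (genericPoint N) hηN₀ (π.app W₀ a) :=
      fun a => π.germ_stalkMap_apply W₀ (genericPoint N) hηN₀ a
    have e4 : (W.presheaf.stalkSpecializes hsW).hom.comp (W.presheaf.germ W₀ (π n) hnW₀).hom =
        (W.presheaf.germ W₀ (π (genericPoint N)) hηN₀).hom := by
      rw [← CommRingCat.hom_comp, TopCat.Presheaf.germ_stalkSpecializes]
    have hα' : Polynomial.eval₂ (W.presheaf.stalkSpecializes hsW).hom α
        (p.map (W.presheaf.germ W₀ (π n) hnW₀).hom) = 0 := by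
      rw [Polynomial.eval₂_map, e4]
      apply hσ.1
      rw [map_zero]
      have e1 := Polynomial.hom_eval₂ p (W.presheaf.germ W₀ (π (genericPoint N)) hηN₀).hom
        (π.stalkMap (genericPoint N)).hom α
      have e2 := Polynomial.hom_eval₂ p (π.app W₀).hom
        (N.presheaf.germ (π ⁻¹ᵁ W₀) (genericPoint N) hηN₀).hom c
      have e3 : (π.stalkMap (genericPoint N)).hom.comp
          (W.presheaf.germ W₀ (π (genericPoint N)) hηN₀).hom =
          (N.presheaf.germ (π ⁻¹ᵁ W₀) (genericPoint N) hηN₀).hom.comp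
            (π.app W₀).hom := RingHom.ext hcomp
      have e1' : π.stalkMap (genericPoint N)
          (Polynomial.eval₂ (W.presheaf.germ W₀ (π (genericPoint N)) hηN₀).hom α p) = _ := e1
      rw [e1', e3]
      have hα'' : (π.stalkMap (genericPoint N)).hom α =
          (N.presheaf.germ (π ⁻¹ᵁ W₀) (genericPoint N) hηN₀).hom c := hα
      rw [hα'', ← e2, hpc, map_zero]
    obtain ⟨a, ha⟩ := exists_stalkSpecializes_eq_of_monic (π n) _ hgen hsW hy α _
      (hp.map _) hα'
    refine ⟨a, hinjN ?_⟩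
    rw [← hnat, ha, hα]
    exact (TopCat.Presheaf.germ_stalkSpecializes_apply N.presheaf hnW₀ hsN c).symm
  refine ⟨fun a b hab => ?_, fun β => ?_⟩
  · apply hinjW
    apply hσ.1
    rw [hnat, hnat, hab]
  · have hn' : n ∈ π ⁻¹ᵁ W₀ := hnW₀
    letI := N.presheaf.algebra_section_stalk ⟨n, hn'⟩
    haveI hloc := hN₀.isLocalization_stalk ⟨n, hn'⟩
    obtain ⟨⟨c, t⟩, hct⟩ :=
      IsLocalization.surj (hN₀.primeIdealOf ⟨n, hn'⟩).asIdeal.primeCompl β
    have hunit : IsUnit (algebraMap Γ(N, π ⁻¹ᵁ W₀) (N.presheaf.stalk n) (t : Γ(N, π ⁻¹ᵁ W₀))) :=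
      IsLocalization.map_units _ t
    obtain ⟨a_c, hac⟩ := key c
    obtain ⟨a_t, hat⟩ := key (t : Γ(N, π ⁻¹ᵁ W₀))
    have hat' : (π.stalkMap n).hom a_t =
        algebraMap Γ(N, π ⁻¹ᵁ W₀) (N.presheaf.stalk n) (t : Γ(N, π ⁻¹ᵁ W₀)) := hat
    have hac' : (π.stalkMap n).hom a_c =
        algebraMap Γ(N, π ⁻¹ᵁ W₀) (N.presheaf.stalk n) c := hac
    have hunit' : IsUnit a_t := by
      apply isUnit_of_map_unit (π.stalkMap n).hom
      rw [hat']; exact hunit
    obtain ⟨v, hv⟩ := hunit'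
    refine ⟨a_c * ↑v⁻¹, ?_⟩
    apply hunit.mul_right_cancel
    have hct' : β * algebraMap Γ(N, π ⁻¹ᵁ W₀) (N.presheaf.stalk n) (t : Γ(N, π ⁻¹ᵁ W₀)) =
        algebraMap Γ(N, π ⁻¹ᵁ W₀) (N.presheaf.stalk n) c := hct
    rw [hct', ← hat', ← hac']
    show (π.stalkMap n).hom (a_c * ↑v⁻¹) * (π.stalkMap n).hom a_t = (π.stalkMap n).hom a_c
    rw [← map_mul, ← hv, mul_assoc, Units.inv_mul, mul_one]

/-- Stalk version of Zariski's main theorem for birational quasi-finite separated morphisms: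
the stalk map is an isomorphism at any point over a normal point. -/
theorem isIso_stalkMap_of_birational_of_isSeparated {X Y : Scheme.{u}} [IsIntegral X]
    [IsIntegral Y] (f : X ⟶ Y)
    [LocallyQuasiFinite f] [LocallyOfFiniteType f] [IsSeparated f] [QuasiCompact f]
    (hgen : f (genericPoint X) = genericPoint Y)
    (hbir : IsIso (f.stalkMap (genericPoint X))) (x : X)
    (hy : IsIntegrallyClosed (Y.presheaf.stalk (f x))) : IsIso (f.stalkMap x) := by
  have ht : f.toNormalization (genericPoint X) = genericPoint f.normalization :=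
    genericPoint_eq_of_isOpenImmersion f.toNormalization
  have hfac := f.toNormalization_fromNormalization
  have hgen' : f.fromNormalization (genericPoint f.normalization) = genericPoint Y := by
    rw [← ht, ← Scheme.Hom.comp_apply, hfac, hgen]
  have hbir' : IsIso (f.fromNormalization.stalkMap (genericPoint f.normalization)) := by
    have h1 : IsIso ((f.toNormalization ≫ f.fromNormalization).stalkMap (genericPoint X)) := by
      rw [hfac]; exact hbir
    rw [Scheme.Hom.stalkMap_comp] at h1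
    have h2 : IsIso (f.fromNormalization.stalkMap (f.toNormalization (genericPoint X))) :=
      @IsIso.of_isIso_comp_right _ _ _ _ _
        (f.fromNormalization.stalkMap (f.toNormalization (genericPoint X)))
        (f.toNormalization.stalkMap (genericPoint X)) inferInstance h1
    rw [ht] at h2; exact h2
  have hpt : f.fromNormalization (f.toNormalization x) = f x := by
    rw [← Scheme.Hom.comp_apply, hfac]
  have hy' : IsIntegrallyClosed
      (Y.presheaf.stalk (f.fromNormalization (f.toNormalization x))) := by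
    rw [hpt]; exact hy
  have h1 := isIso_stalkMap_of_isIntegralHom_of_birational f.fromNormalization hgen' hbir'
    (f.toNormalization x) hy'
  have h2 : IsIso ((f.toNormalization ≫ f.fromNormalization).stalkMap x) := by
    rw [Scheme.Hom.stalkMap_comp]
    exact @IsIso.comp_isIso _ _ _ _ _ _ _ h1 inferInstance
  rw [hfac] at h2; exact h2

/-- Restricting a birational morphism to nonempty opens keeps it birational. -/
theorem birational_resLE {X Y : Scheme.{u}} [IsIntegral X] [IsIntegral Y] (f : X ⟶ Y)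
    (hgen : f (genericPoint X) = genericPoint Y) (hbir : IsIso (f.stalkMap (genericPoint X)))
    (U : X.Opens) (V : Y.Opens) (e : U ≤ f ⁻¹ᵁ V)
    [IsIntegral (U : Scheme.{u})] [IsIntegral (V : Scheme.{u})] :
    f.resLE V U e (genericPoint (U : Scheme.{u})) = genericPoint (V : Scheme.{u}) ∧
      IsIso ((f.resLE V U e).stalkMap (genericPoint (U : Scheme.{u}))) := by
  have hUη : U.ι (genericPoint (U : Scheme.{u})) = genericPoint X :=
    genericPoint_eq_of_isOpenImmersion U.ι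
  have hVη : V.ι (genericPoint (V : Scheme.{u})) = genericPoint Y :=
    genericPoint_eq_of_isOpenImmersion V.ι
  have hcomp : f.resLE V U e ≫ V.ι = U.ι ≫ f := Scheme.Hom.resLE_comp_ι f e
  refine ⟨?_, ?_⟩
  · apply V.ι.isOpenEmbedding.injective
    rw [← Scheme.Hom.comp_apply, hcomp, Scheme.Hom.comp_apply, hUη, hgen, hVη]
  · have h1 : IsIso (f.stalkMap (U.ι (genericPoint (U : Scheme.{u})))) := by rw [hUη]; exact hbir
    have h2 : IsIso ((U.ι ≫ f).stalkMap (genericPoint (U : Scheme.{u}))) := by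
      rw [Scheme.Hom.stalkMap_comp]
      exact @IsIso.comp_isIso _ _ _ _ _ _ _ h1 inferInstance
    have h3 : IsIso ((f.resLE V U e ≫ V.ι).stalkMap (genericPoint (U : Scheme.{u}))) := by
      rw [hcomp]; exact h2
    rw [Scheme.Hom.stalkMap_comp] at h3
    exact @IsIso.of_isIso_comp_left _ _ _ _ _
      (V.ι.stalkMap (f.resLE V U e (genericPoint (U : Scheme.{u}))))
      ((f.resLE V U e).stalkMap (genericPoint (U : Scheme.{u}))) inferInstance h3

theorem quasiFiniteAt_of_isOpen_singleton {X Y : Scheme.{u}} (f : X ⟶ Y) [LocallyOfFiniteType f]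
    (x₀ : X) (y : Y) (h : f x₀ = y) (x : f.fiber y) (hxx : f.fiberι y x = x₀)
    (hx : IsOpen ({x} : Set (f.fiber y))) : f.QuasiFiniteAt x₀ := by
  subst h
  have hxa : x = f.asFiber x₀ :=
    (f.fiberι _).isEmbedding.injective (by rw [hxx, f.fiberι_asFiber])
  rw [Scheme.Hom.quasiFiniteAt_iff_isOpen_singleton_asFiber, ← hxa]
  exact hx

/-- A birational separated morphism, locally of finite type, with a quasi-finite point over
a normal point has an isomorphic stalk map there. -/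
theorem isIso_stalkMap_of_quasiFiniteAt_aux {X Y : Scheme.{u}} [IsIntegral X]
    [IsIntegral Y] (f : X ⟶ Y) [LocallyOfFiniteType f]
    (hgen : f (genericPoint X) = genericPoint Y) (hbir : IsIso (f.stalkMap (genericPoint X)))
    (x₀ : X) (hy : IsIntegrallyClosed (Y.presheaf.stalk (f x₀)))
    (W : Y.Opens) (hW : IsAffineOpen W) (hxW : f x₀ ∈ W) (V : X.Opens) (hV : IsAffineOpen V)
    (hxV : x₀ ∈ V) (hVW : (V : Set X) ⊆ ((f ⁻¹ᵁ W) ⊓ f.quasiFiniteLocus : X.Opens)) :
    IsIso (f.stalkMap x₀) := by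
  have e : V ≤ f ⁻¹ᵁ W := fun z hz => (hVW hz).1
  haveI : IsAffine (V : Scheme.{u}) := hV
  haveI : IsAffine (W : Scheme.{u}) := hW
  haveI : Nonempty ↥(V : Scheme.{u}) := ⟨⟨x₀, hxV⟩⟩
  haveI : Nonempty ↥(W : Scheme.{u}) := ⟨⟨f x₀, hxW⟩⟩
  haveI : IsIntegral (V : Scheme.{u}) := isIntegral_of_isOpenImmersion V.ι
  haveI : IsIntegral (W : Scheme.{u}) := isIntegral_of_isOpenImmersion W.ι
  haveI : LocallyOfFiniteType (f.resLE W V e) := IsZariskiLocalAtSource.resLE e inferInstance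
  have hcomp : f.resLE W V e ≫ W.ι = V.ι ≫ f := Scheme.Hom.resLE_comp_ι f e
  haveI : LocallyQuasiFinite (f.resLE W V e) := by
    rw [← Scheme.Hom.quasiFiniteLocus_eq_top_iff]
    refine top_le_iff.mp fun z _ => ?_
    show (f.resLE W V e).QuasiFiniteAt z
    rw [← Scheme.Hom.quasiFiniteAt_comp_iff (g := W.ι), Scheme.Hom.resLE_comp_ι,
      Scheme.Hom.quasiFiniteAt_comp_iff_of_isOpenImmersion]
    exact (hVW z.2).2
  obtain ⟨hgen_g, hbir_g⟩ := birational_resLE f hgen hbir V W e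
  have hpt : W.ι (f.resLE W V e ⟨x₀, hxV⟩) = f x₀ := by
    rw [← Scheme.Hom.comp_apply, hcomp, Scheme.Hom.comp_apply]; rfl
  have hy1 : IsIntegrallyClosed (Y.presheaf.stalk (W.ι (f.resLE W V e ⟨x₀, hxV⟩))) := by
    rw [hpt]; exact hy
  have hy_g : IsIntegrallyClosed
      ((W : Scheme.{u}).presheaf.stalk (f.resLE W V e ⟨x₀, hxV⟩)) := by
    haveI := hy1
    exact IsIntegrallyClosed.of_equiv
      (asIso (W.ι.stalkMap (f.resLE W V e ⟨x₀, hxV⟩))).commRingCatIsoToRingEquiv
  have h_g : IsIso ((f.resLE W V e).stalkMap ⟨x₀, hxV⟩) :=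
    isIso_stalkMap_of_birational_of_isSeparated (f.resLE W V e) hgen_g hbir_g ⟨x₀, hxV⟩ hy_g
  have h3 : IsIso ((f.resLE W V e ≫ W.ι).stalkMap (⟨x₀, hxV⟩ : (V : Scheme.{u}))) := by
    rw [Scheme.Hom.stalkMap_comp]
    exact @IsIso.comp_isIso _ _ _ _ _ (W.ι.stalkMap (f.resLE W V e ⟨x₀, hxV⟩))
      ((f.resLE W V e).stalkMap ⟨x₀, hxV⟩) inferInstance h_g
  rw [hcomp, Scheme.Hom.stalkMap_comp] at h3
  exact @IsIso.of_isIso_comp_right _ _ _ _ _ (f.stalkMap (V.ι ⟨x₀, hxV⟩))
    (V.ι.stalkMap ⟨x₀, hxV⟩) inferInstance h3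

/-- A birational separated morphism, locally of finite type, with a quasi-finite point over
a normal point has an isomorphic stalk map there. -/
theorem isIso_stalkMap_of_quasiFiniteAt {X Y : Scheme.{u}} [IsIntegral X]
    [IsIntegral Y] (f : X ⟶ Y) [LocallyOfFiniteType f]
    (hgen : f (genericPoint X) = genericPoint Y) (hbir : IsIso (f.stalkMap (genericPoint X)))
    (x₀ : X) (hqf : f.QuasiFiniteAt x₀)
    (hy : IsIntegrallyClosed (Y.presheaf.stalk (f x₀))) : IsIso (f.stalkMap x₀) := by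
  obtain ⟨_, ⟨W, hW, rfl⟩, hxW, -⟩ :=
    Y.isBasis_affineOpens.exists_subset_of_mem_open (Set.mem_univ (f x₀)) isOpen_univ
  obtain ⟨_, ⟨V, hV, rfl⟩, hxV, hVW⟩ :=
    X.isBasis_affineOpens.exists_subset_of_mem_open
      (show x₀ ∈ ((f ⁻¹ᵁ W) ⊓ f.quasiFiniteLocus : X.Opens) from ⟨hxW, hqf⟩)
      ((f ⁻¹ᵁ W) ⊓ f.quasiFiniteLocus).2
  exact isIso_stalkMap_of_quasiFiniteAt_aux f hgen hbir x₀ hy W hW hxW V hV hxV hVW

/-- If an open subscheme of an integral scheme `X` maps isomorphically onto an open `V` of `Y`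
under a separated morphism, then it is the whole preimage of `V`. -/
theorem isIso_morphismRestrict_opensRange {X Y : Scheme.{u}} [IsIntegral X] (f : X ⟶ Y)
    [IsSeparated f] (U : X.Opens) (x₀ : X) (hxU : x₀ ∈ U) [IsOpenImmersion (U.ι ≫ f)] :
    IsIso (f ∣_ (U.ι ≫ f).opensRange) := by
  have hmem : f x₀ ∈ (U.ι ≫ f).opensRange := ⟨⟨x₀, hxU⟩, rfl⟩
  have hrange : Set.range (U.ι ≫ f).opensRange.ι ⊆ Set.range (U.ι ≫ f) := by
    rw [Scheme.Opens.range_ι]; exact (Scheme.Hom.coe_opensRange (U.ι ≫ f)).subset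
  have hl : IsOpenImmersion.lift (U.ι ≫ f) (U.ι ≫ f).opensRange.ι hrange ≫ (U.ι ≫ f) =
      (U.ι ≫ f).opensRange.ι := IsOpenImmersion.lift_fac _ _ _
  haveI : IsOpenImmersion (IsOpenImmersion.lift (U.ι ≫ f) (U.ι ≫ f).opensRange.ι hrange) := by
    haveI : IsOpenImmersion
        (IsOpenImmersion.lift (U.ι ≫ f) (U.ι ≫ f).opensRange.ι hrange ≫ (U.ι ≫ f)) := by
      rw [hl]; infer_instance
    exact IsOpenImmersion.of_comp _ (U.ι ≫ f)
  have hs : (IsOpenImmersion.lift (U.ι ≫ f) (U.ι ≫ f).opensRange.ι hrange ≫ U.ι) ≫ f =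
      (U.ι ≫ f).opensRange.ι := by rw [Category.assoc]; exact hl
  have hrange' : Set.range (IsOpenImmersion.lift (U.ι ≫ f) (U.ι ≫ f).opensRange.ι hrange ≫ U.ι) ⊆
      Set.range (f ⁻¹ᵁ (U.ι ≫ f).opensRange).ι := by
    rw [Scheme.Opens.range_ι]
    rintro _ ⟨v, rfl⟩
    show f ((IsOpenImmersion.lift (U.ι ≫ f) (U.ι ≫ f).opensRange.ι hrange ≫ U.ι) v) ∈
      (U.ι ≫ f).opensRange
    rw [← Scheme.Hom.comp_apply, hs]
    exact v.2
  have hs' : IsOpenImmersion.lift (f ⁻¹ᵁ (U.ι ≫ f).opensRange).ι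
      (IsOpenImmersion.lift (U.ι ≫ f) (U.ι ≫ f).opensRange.ι hrange ≫ U.ι) hrange' ≫
        (f ⁻¹ᵁ (U.ι ≫ f).opensRange).ι =
      IsOpenImmersion.lift (U.ι ≫ f) (U.ι ≫ f).opensRange.ι hrange ≫ U.ι :=
    IsOpenImmersion.lift_fac _ _ _
  generalize IsOpenImmersion.lift (f ⁻¹ᵁ (U.ι ≫ f).opensRange).ι
      (IsOpenImmersion.lift (U.ι ≫ f) (U.ι ≫ f).opensRange.ι hrange ≫ U.ι) hrange' = s' at hs'
  have hsec : s' ≫ (f ∣_ (U.ι ≫ f).opensRange) = 𝟙 _ := by
    rw [← cancel_mono (U.ι ≫ f).opensRange.ι, Category.assoc, morphismRestrict_ι,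
      ← Category.assoc, hs', hs, Category.id_comp]
  haveI : IsOpenImmersion s' := by
    haveI : IsOpenImmersion (s' ≫ (f ⁻¹ᵁ (U.ι ≫ f).opensRange).ι) := by
      rw [hs']; infer_instance
    exact IsOpenImmersion.of_comp s' (f ⁻¹ᵁ (U.ι ≫ f).opensRange).ι
  haveI : IsClosedImmersion s' := by
    haveI : IsClosedImmersion (s' ≫ (f ∣_ (U.ι ≫ f).opensRange)) := by
      rw [hsec]; infer_instance
    exact IsClosedImmersion.of_comp s' (f ∣_ (U.ι ≫ f).opensRange)
  haveI : Nonempty ↥((f ⁻¹ᵁ (U.ι ≫ f).opensRange : X.Opens) : Scheme.{u}) := ⟨⟨x₀, hmem⟩⟩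
  haveI : IsIntegral ((f ⁻¹ᵁ (U.ι ≫ f).opensRange : X.Opens) : Scheme.{u}) :=
    isIntegral_of_isOpenImmersion (f ⁻¹ᵁ (U.ι ≫ f).opensRange).ι
  have hclopen : IsClopen (Set.range s') :=
    ⟨s'.isClosedEmbedding.isClosed_range, s'.isOpenEmbedding.isOpen_range⟩
  have hne : (Set.range s').Nonempty := ⟨_, ⟨⟨f x₀, hmem⟩, rfl⟩⟩
  have huniv : Set.range s' = Set.univ := hclopen.eq_univ hne
  haveI : Surjective s' := ⟨Set.range_eq_univ.mp huniv⟩
  haveI : IsIso s' := (isIso_iff_isOpenImmersion_and_surjective s').mpr ⟨inferInstance, inferInstance⟩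
  have hiso : IsIso (s' ≫ (f ∣_ (U.ι ≫ f).opensRange)) := by rw [hsec]; infer_instance
  exact IsIso.of_isIso_comp_left s' (f ∣_ (U.ι ≫ f).opensRange)

/-- Birational separated morphism of finite type with a quasi-finite point over a normal point
is an isomorphism over a neighbourhood of that normal point. -/
theorem exists_isIso_morphismRestrict_of_quasiFiniteAt {X Y : Scheme.{u}} [IsIntegral X]
    [IsIntegral Y] (f : X ⟶ Y) [IsSeparated f] [LocallyOfFiniteType f]
    (hgen : f (genericPoint X) = genericPoint Y) (hbir : IsIso (f.stalkMap (genericPoint X)))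
    (x₀ : X) (hqf : f.QuasiFiniteAt x₀)
    (hy : IsIntegrallyClosed (Y.presheaf.stalk (f x₀))) :
    ∃ U : Y.Opens, f x₀ ∈ U ∧ IsIso (f ∣_ U) := by
  have hst := isIso_stalkMap_of_quasiFiniteAt f hgen hbir x₀ hqf hy
  have hS : (irreducibleComponents (Y : Type u)).Finite := by
    rw [irreducibleComponents_eq_singleton]; exact Set.finite_singleton _
  obtain ⟨U, hxU, hU⟩ := Groth.Agent.S7659.result f hS x₀ hst
  haveI := hU
  exact ⟨(U.ι ≫ f).opensRange, ⟨⟨x₀, hxU⟩, rfl⟩, isIso_morphismRestrict_opensRange f U x₀ hxU⟩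

end Groth.Agent.H54
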