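import Mathlib
import Groth.Agent.H54.Curve
import Groth.Agent.H54.ZMT2

/-!
# More on curves: dimension of local rings, injectivity of stalk maps of dominant morphisms
-/

set_option autoImplicit false
universe u

open CategoryTheory CategoryTheory.Limits AlgebraicGeometry IsLocalRing

namespace Groth.Agent.H54

/-- In an integral scheme, a non-generic point specializing to a point whose local ring has
dimension at most one is equal to it. -/
theorem eq_of_specializes_of_ringKrullDim_le_one {X : Scheme.{u}} [IsIntegral X] {x y : X}
    (hxy : x ⤳ y) (hdim : ringKrullDim (X.presheaf.stalk y) ≤ 1) (hx : x ≠ genericPoint X) :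
    x = y := by
  have hgen : ∀ x : X, genericPoint X ⤳ x := fun x => (genericPoint_spec X).specializes trivial
  have hmem : x ∈ Set.range (X.fromSpecStalk y) := by
    rw [Scheme.range_fromSpecStalk]; exact hxy
  obtain ⟨p, hp⟩ := hmem
  have hmemη : genericPoint X ∈ Set.range (X.fromSpecStalk y) := by
    rw [Scheme.range_fromSpecStalk]; exact hgen y
  obtain ⟨q, hq⟩ := hmemη
  by_cases hp0 : (p : PrimeSpectrum (X.presheaf.stalk y)).asIdeal = ⊥
  · exfalso
    apply hx
    have hpq : p ⤳ q := by
      refine (PrimeSpectrum.le_iff_specializes (p : PrimeSpectrum (X.presheaf.stalk y)) q).mp ?_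
      show (p : PrimeSpectrum (X.presheaf.stalk y)).asIdeal ≤
        (q : PrimeSpectrum (X.presheaf.stalk y)).asIdeal
      rw [hp0]; exact bot_le
    have h1 : x ⤳ genericPoint X := by
      rw [← hp, ← hq]
      exact hpq.map (X.fromSpecStalk y).continuous
    exact (h1.antisymm (hgen x)).eq
  · have h1 : Ring.KrullDimLE 1 (X.presheaf.stalk y) :=
      (Ring.krullDimLE_iff (n := 1)).mpr (by exact_mod_cast hdim)
    have hmax := Ring.krullDimLE_one_iff_of_isPrime_bot.mp h1 _ hp0
      (p : PrimeSpectrum (X.presheaf.stalk y)).isPrime
    have hpc : p = closedPoint (X.presheaf.stalk y) := by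
      apply PrimeSpectrum.ext
      exact IsLocalRing.eq_maximalIdeal hmax
    rw [← hp, hpc, Scheme.fromSpecStalk_closedPoint]

/-- The dimension of a local ring of a scheme is at most the dimension of the scheme. -/
theorem ringKrullDim_stalk_le_topologicalKrullDim (X : Scheme.{u}) (x : X) :
    ringKrullDim (X.presheaf.stalk x) ≤ topologicalKrullDim X := by
  rw [← PrimeSpectrum.topologicalKrullDim_eq_ringKrullDim]
  exact (X.fromSpecStalk x).isEmbedding.isInducing.topologicalKrullDim_le

/-- A morphism of integral schemes mapping the generic point to the generic point is injective on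
all local rings. -/
theorem stalkMap_injective_of_genericPoint {X Y : Scheme.{u}} [IsIntegral X] [IsIntegral Y]
    (f : X ⟶ Y) (hgen : f (genericPoint X) = genericPoint Y) (x : X) :
    Function.Injective (f.stalkMap x).hom := by
  have hsx : genericPoint X ⤳ x := (genericPoint_spec X).specializes trivial
  have hsy : f (genericPoint X) ⤳ f x := f.base.hom.map_specializes hsx
  have hnat : ∀ a : Y.presheaf.stalk (f x),
      f.stalkMap (genericPoint X) (Y.presheaf.stalkSpecializes hsy a) =
        X.presheaf.stalkSpecializes hsx (f.stalkMap x a) :=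
    fun a => Scheme.Hom.stalkSpecializes_stalkMap_apply f (genericPoint X) x hsx a
  have hinjY : Function.Injective (Y.presheaf.stalkSpecializes hsy) :=
    stalkSpecializes_injective_of_eq_genericPoint (f x) _ hgen hsy
  have hfield' : ∀ y : Y, y = genericPoint Y → IsField (Y.presheaf.stalk y) := by
    rintro y rfl
    exact Field.toIsField Y.functionField
  have hfield := hfield' _ hgen
  have hinjη : Function.Injective (f.stalkMap (genericPoint X)) := by
    rw [injective_iff_map_eq_zero]
    intro a ha
    by_contra hne
    obtain ⟨b, hb⟩ := hfield.mul_inv_cancel hne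
    have h1 : f.stalkMap (genericPoint X) a * f.stalkMap (genericPoint X) b = 1 := by
      rw [← map_mul, hb, map_one]
    rw [ha, zero_mul] at h1
    exact zero_ne_one h1
  intro a b hab
  have hab' : f.stalkMap x a = f.stalkMap x b := hab
  apply hinjY
  apply hinjη
  rw [hnat, hnat, hab']

end Groth.Agent.H54
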