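import Mathlib
import Groth.Agent.H73.DVRSpec
import Groth.Agent.H73.ValProper
import Groth.Agent.H73.AnClosed

/-!
# Lifting valuation rings from lifting discrete valuation rings (Noetherian base)

Over a locally Noetherian base, for a quasi-compact morphism `f : X ⟶ S` and a `K`-point of `X`
with `K` finitely generated as a field over the base, if every discrete valuation ring of `K`
over `S` lifts to `X`, then every valuation ring of `K` over `S` lifts to `X`.
-/

set_option autoImplicit false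
universe u
open CategoryTheory CategoryTheory.Limits AlgebraicGeometry IsLocalRing
open Groth.Agent.H73.AnClosed

namespace Groth.Agent.H54.DVRLift

theorem exists_lift_of_dvr {X S : Scheme.{u}} [IsLocallyNoetherian S] (f : X ⟶ S)
    [QuasiCompact f] (K : Type u) [Field K] (i₁ : Spec (CommRingCat.of K) ⟶ X)
    (hK : ∀ (W : S.Opens) (_ : IsAffineOpen W) (hi : (i₁ ≫ f) ⁻¹ᵁ W = ⊤),
        ∃ s : Finset K, Subfield.closure (Set.range (toAff (i₁ ≫ f) W hi).hom ∪ s) = ⊤)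
    (H : ∀ (V : ValuationSubring K), IsDiscreteValuationRing V →
        ∀ (y : Spec (CommRingCat.of V) ⟶ S),
        Spec.map (CommRingCat.ofHom V.subtype) ≫ y = i₁ ≫ f →
        ∃ l : Spec (CommRingCat.of V) ⟶ X,
          Spec.map (CommRingCat.ofHom V.subtype) ≫ l = i₁ ∧ l ≫ f = y)
    (R : ValuationSubring K) (y : Spec (CommRingCat.of R) ⟶ S)
    (hy : Spec.map (CommRingCat.ofHom R.subtype) ≫ y = i₁ ≫ f) :
    ∃ l : Spec (CommRingCat.of R) ⟶ X,
      Spec.map (CommRingCat.ofHom R.subtype) ≫ l = i₁ ∧ l ≫ f = y := by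
  classical
  by_contra hno
  obtain ⟨_, ⟨W, hW, rfl⟩, hsW, -⟩ :=
    S.isBasis_affineOpens.exists_subset_of_mem_open (Set.mem_univ (y (closedPoint R)))
      isOpen_univ
  have hyW : y ⁻¹ᵁ W = ⊤ := preimage_eq_top_of_closedPoint_mem y W hsW
  have hιyW : (Spec.map (CommRingCat.ofHom R.subtype) ≫ y) ⁻¹ᵁ W = ⊤ := by
    change (Spec.map (CommRingCat.ofHom R.subtype)) ⁻¹ᵁ (y ⁻¹ᵁ W) = ⊤
    rw [hyW]; rfl
  have hiW : (i₁ ≫ f) ⁻¹ᵁ W = ⊤ := by rw [← hy]; exact hιyW
  obtain ⟨θ, hθ⟩ : ∃ θ, θ = toAff (i₁ ≫ f) W hiW := ⟨_, rfl⟩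
  have hθy : θ = toAff y W hyW ≫ CommRingCat.ofHom R.subtype := by
    rw [hθ, ← toAff_comp_left _ y W hyW hιyW]
    exact toAff_congr hy.symm W hiW hιyW
  have hθSpec : Spec.map θ ≫ hW.fromSpec = i₁ ≫ f := by
    rw [hθ]; exact SpecMap_toAff_fromSpec _ hW hiW
  have hc : IsCompact ((f ⁻¹ᵁ W : X.Opens) : Set X) := f.isCompact_preimage hW.isCompact
  obtain ⟨𝒰, h𝒰fin, h𝒰⟩ := (isCompact_and_isOpen_iff_finite_and_eq_biUnion_affineOpens
    (U := ((f ⁻¹ᵁ W : X.Opens) : Set X))).mp ⟨hc, (f ⁻¹ᵁ W).2⟩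
  have h𝒰le : ∀ V ∈ 𝒰, (V : X.Opens) ≤ f ⁻¹ᵁ W := by
    intro V hV x hx
    have : x ∈ ((f ⁻¹ᵁ W : X.Opens) : Set X) := by
      rw [h𝒰]; exact Set.mem_iUnion₂.mpr ⟨V, hV, hx⟩
    exact this
  obtain ⟨x₀, hx₀⟩ : ∃ x₀ : X, x₀ = i₁ (closedPoint K) := ⟨_, rfl⟩
  have hx₀W : x₀ ∈ ((f ⁻¹ᵁ W : X.Opens) : Set X) := by
    have : (closedPoint K : Spec (CommRingCat.of K)) ∈ (i₁ ≫ f) ⁻¹ᵁ W := by
      rw [hiW]; trivial
    rw [hx₀]; exact this
  have hP : ∀ V : X.affineOpens, ∃ t : K, (V : X.Opens) ≤ f ⁻¹ᵁ W →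
      (R.valuation t < 1 ∧ (x₀ ∈ (V : X.Opens) → t ≠ 0) ∧
      ∀ (D : ValuationSubring K) (l : Spec (CommRingCat.of D) ⟶ X),
        Spec.map (CommRingCat.ofHom D.subtype) ≫ l = i₁ →
        l (closedPoint D) ∈ (V : X.Opens) → ¬ D.valuation t < 1) := by
    intro V
    by_cases hVW : (V : X.Opens) ≤ f ⁻¹ᵁ W
    swap
    · exact ⟨0, fun h => absurd h hVW⟩
    by_cases hx₀V : x₀ ∈ (V : X.Opens)
    · have hiV : i₁ ⁻¹ᵁ V.1 = ⊤ := preimage_eq_top_of_closedPoint_mem i₁ V.1 (hx₀ ▸ hx₀V)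
      obtain ⟨ψ, hψ⟩ : ∃ ψ, ψ = toAff i₁ V.1 hiV := ⟨_, rfl⟩
      have hψSpec : Spec.map ψ ≫ V.2.fromSpec = i₁ := by
        rw [hψ]; exact SpecMap_toAff_fromSpec _ V.2 hiV
      have hb : ∃ b : Γ(X, V.1), ψ.hom b ∉ R := by
        by_contra hall
        push_neg at hall
        obtain ⟨l', hl'⟩ : ∃ l' : Γ(X, V.1) →+* R, l' = ψ.hom.codRestrict R hall := ⟨_, rfl⟩
        have e : CommRingCat.ofHom l' ≫ CommRingCat.ofHom R.subtype = ψ := by
          rw [hl']; exact CommRingCat.hom_ext (RingHom.ext fun b => rfl)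
        obtain ⟨l, hl⟩ : ∃ l : Spec (CommRingCat.of R) ⟶ X,
            l = Spec.map (CommRingCat.ofHom l') ≫ V.2.fromSpec := ⟨_, rfl⟩
        have hl1 : Spec.map (CommRingCat.ofHom R.subtype) ≫ l = i₁ := by
          rw [hl, ← Category.assoc, ← Spec.map_comp, e]; exact hψSpec
        have hlV : l (closedPoint R) ∈ V.1 := by
          have h0 : l (closedPoint R) ∈ Set.range V.2.fromSpec := by
            rw [hl]; exact ⟨_, rfl⟩
          rwa [V.2.range_fromSpec] at h0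
        have hlW : (l ≫ f) ⁻¹ᵁ W = ⊤ := by
          apply preimage_eq_top_of_closedPoint_mem
          exact hVW hlV
        have hl2 : l ≫ f = y := eq_of_comp_eq_of_affine R.subtype Subtype.val_injective
          (l ≫ f) y hW hlW hyW (by rw [← Category.assoc, hl1, hy])
        exact hno ⟨l, hl1, hl2⟩
      obtain ⟨b, hb⟩ := hb
      obtain ⟨β, hβ⟩ : ∃ β, β = ψ.hom b := ⟨_, rfl⟩
      rw [← hβ] at hb
      have hβ0 : β ≠ 0 := fun h0 => hb (h0 ▸ R.zero_mem)
      have hβR : 1 < R.valuation β := by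
        by_contra hle
        exact hb ((R.valuation_le_one_iff β).mp (not_lt.mp hle))
      refine ⟨β⁻¹, fun _ => ⟨?_, fun _ => inv_ne_zero hβ0, fun D l hl hlV hlt => ?_⟩⟩
      · rw [map_inv₀]
        exact inv_lt_one_of_one_lt₀ hβR
      · have hlV' : l ⁻¹ᵁ V.1 = ⊤ := preimage_eq_top_of_closedPoint_mem l V.1 hlV
        have hιl : (Spec.map (CommRingCat.ofHom D.subtype) ≫ l) ⁻¹ᵁ V.1 = ⊤ := by
          change (Spec.map (CommRingCat.ofHom D.subtype)) ⁻¹ᵁ (l ⁻¹ᵁ V.1) = ⊤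
          rw [hlV']; rfl
        have e : ψ = toAff l V.1 hlV' ≫ CommRingCat.ofHom D.subtype := by
          rw [hψ, ← toAff_comp_left _ l V.1 hlV' hιl]
          exact toAff_congr hl.symm V.1 hiV hιl
        have hβD : β ∈ D := by
          rw [hβ, e]
          exact ((toAff l V.1 hlV').hom b).2
        have h3 : D.valuation β ≤ 1 := (D.valuation_le_one_iff β).mpr hβD
        rw [map_inv₀] at hlt
        have hpos : 0 < D.valuation β := by
          rw [zero_lt_iff]; exact (D.valuation.ne_zero_iff).mpr hβ0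
        have h4 : 1 ≤ (D.valuation β)⁻¹ := (one_le_inv₀ hpos).mpr h3
        exact (not_lt.mpr h4) hlt
    · refine ⟨0, fun _ => ⟨by rw [map_zero]; exact zero_lt_one, fun h => absurd h hx₀V,
        fun D l hl hlV _ => ?_⟩⟩
      apply hx₀V
      have hsp : (Spec.map (CommRingCat.ofHom D.subtype) ≫ l) (closedPoint K) ⤳
          l (closedPoint D) :=
        (specializes_closedPoint (R := D) _).map l.continuous
      rw [hl, ← hx₀] at hsp
      exact hsp.mem_open V.1.2 hlV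
  choose t ht using hP
  haveI : IsNoetherianRing Γ(S, W) := IsLocallyNoetherian.component_noetherian ⟨W, hW⟩
  letI : Algebra Γ(S, W) K := θ.hom.toAlgebra
  let T : Set K := t '' 𝒰
  have hT : T.Finite := h𝒰fin.image t
  let C := Algebra.adjoin Γ(S, W) T
  have hCR : ∀ z ∈ C, z ∈ R := by
    intro z hz
    induction hz using Algebra.adjoin_induction with
    | mem z hz =>
      obtain ⟨V, hV, rfl⟩ := hz
      exact (R.valuation_le_one_iff _).mp (ht V (h𝒰le V hV)).1.le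
    | algebraMap r =>
      change θ.hom r ∈ R
      rw [hθy]
      exact ((toAff y W hyW).hom r).2
    | add a b _ _ ha hb => exact R.add_mem _ _ ha hb
    | mul a b _ _ ha hb => exact R.mul_mem _ _ ha hb
  let S' : Subring K := C.toSubring
  haveI : IsNoetherianRing S' := Groth.Agent.H73.KA.noeth_adjoin' T hT
  let ι : S' →+* R := S'.subtype.codRestrict R (fun z => hCR z.1 z.2)
  let n : Ideal S' := Ideal.comap ι (maximalIdeal R)
  haveI : n.IsPrime := Ideal.comap_isPrime ι _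
  have hn_mem : ∀ z : S', z ∈ n ↔ R.valuation (z : K) < 1 :=
    fun z => R.valuation_lt_one_iff (ι z)
  obtain ⟨V₀, hV₀𝒰, hx₀V₀⟩ := Set.mem_iUnion₂.mp (h𝒰.subset hx₀W)
  have hn : n ≠ ⊥ := by
    intro hbot
    have hz : (⟨t V₀, Algebra.subset_adjoin ⟨V₀, hV₀𝒰, rfl⟩⟩ : S') ∈ n :=
      (hn_mem _).mpr (ht V₀ (h𝒰le V₀ hV₀𝒰)).1
    rw [hbot, Ideal.mem_bot] at hz
    exact (ht V₀ (h𝒰le V₀ hV₀𝒰)).2.1 hx₀V₀ (congrArg Subtype.val hz)
  obtain ⟨s₀, hs₀⟩ := hK W hW hiW
  have hs₀' : Subfield.closure ((S' : Set K) ∪ s₀) = ⊤ := by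
    rw [_root_.eq_top_iff, ← hs₀]
    apply Subfield.closure_mono
    apply Set.union_subset_union_left
    rintro _ ⟨a, rfl⟩
    rw [← hθ]
    exact C.algebraMap_mem a
  obtain ⟨D, hDdvr, hSD, hDn⟩ := Groth.Agent.H73.KA.exists_dvr_of_subring S' n hn s₀ hs₀'
  let δ : Γ(S, W) →+* D := θ.hom.codRestrict D (fun a => hSD (C.algebraMap_mem a))
  have hδ : CommRingCat.ofHom δ ≫ CommRingCat.ofHom D.subtype = θ :=
    CommRingCat.hom_ext (RingHom.ext fun a => rfl)
  obtain ⟨yD, hyDdef⟩ : ∃ yD : Spec (CommRingCat.of D) ⟶ S,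
      yD = Spec.map (CommRingCat.ofHom δ) ≫ hW.fromSpec := ⟨_, rfl⟩
  have hyD : Spec.map (CommRingCat.ofHom D.subtype) ≫ yD = i₁ ≫ f := by
    rw [hyDdef, ← Category.assoc, ← Spec.map_comp, hδ]; exact hθSpec
  obtain ⟨l, hl1, hl2⟩ := H D hDdvr yD hyD
  have hz : l (closedPoint D) ∈ ((f ⁻¹ᵁ W : X.Opens) : Set X) := by
    have h0 : (l ≫ f) (closedPoint D) ∈ Set.range hW.fromSpec := by
      rw [hl2, hyDdef]; exact ⟨_, rfl⟩
    rw [hW.range_fromSpec] at h0
    exact h0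
  obtain ⟨V, hV𝒰, hzV⟩ := Set.mem_iUnion₂.mp (h𝒰.subset hz)
  have hzn : (⟨t V, Algebra.subset_adjoin ⟨V, hV𝒰, rfl⟩⟩ : S') ∈ n :=
    (hn_mem _).mpr (ht V (h𝒰le V hV𝒰)).1
  exact (ht V (h𝒰le V hV𝒰)).2.2 D l hl1 hzV (hDn _ hzn)

/-- The residue field of a point of a scheme locally of finite type over `S` is finitely
generated as a field over (the image of) the sections over an affine open of `S`. -/
theorem closure_residueField {U S : Scheme.{u}} (p : U ⟶ S) [LocallyOfFiniteType p] (u : U)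
    (W : S.Opens) (hW : IsAffineOpen W) (hi : (U.fromSpecResidueField u ≫ p) ⁻¹ᵁ W = ⊤) :
    ∃ s : Finset (U.residueField u), Subfield.closure
      (Set.range (toAff (U.fromSpecResidueField u ≫ p) W hi).hom ∪ s) = ⊤ := by
  have hpu : p u ∈ W := by
    have h1 : (closedPoint (U.residueField u) : Spec (U.residueField u)) ∈
        (U.fromSpecResidueField u ≫ p) ⁻¹ᵁ W := by rw [hi]; trivial
    have h2 : (U.fromSpecResidueField u ≫ p) (closedPoint (U.residueField u)) = p u := by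
      rw [Scheme.Hom.comp_apply, Scheme.fromSpecResidueField_apply]
    rw [← h2]; exact h1
  obtain ⟨θ', hθ'def⟩ : ∃ θ' : Γ(S, W) ⟶ U.residueField u,
      θ' = S.presheaf.germ W (p u) hpu ≫ S.residue (p u) ≫ p.residueFieldMap u := ⟨_, rfl⟩
  have hθ' : toAff (U.fromSpecResidueField u ≫ p) W hi = θ' := by
    apply Spec.map_injective
    rw [← cancel_mono hW.fromSpec, SpecMap_toAff_fromSpec, hθ'def]
    simp only [Spec.map_comp, Category.assoc]
    rw [show Spec.map (S.presheaf.germ W (p u) hpu) ≫ hW.fromSpec = S.fromSpecStalk (p u) from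
      hW.fromSpecStalk_eq_fromSpecStalk hpu]
    exact (Scheme.Hom.SpecMap_residueFieldMap_fromSpecResidueField p u).symm
  have hess : θ'.hom.EssFiniteType := by
    have h1 : (S.presheaf.germ W (p u) hpu).hom.EssFiniteType := by
      let _ := S.presheaf.algebra_section_stalk ⟨p u, hpu⟩
      have := hW.isLocalization_stalk ⟨p u, hpu⟩
      exact RingHom.essFiniteType_algebraMap.mpr
        (Algebra.EssFiniteType.of_isLocalization _
          (hW.primeIdealOf ⟨p u, hpu⟩).asIdeal.primeCompl)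
    have h2 : (S.residue (p u)).hom.EssFiniteType :=
      (RingHom.FiniteType.of_surjective _ (S.residue_surjective _)).essFiniteType
    have h3 : (p.residueFieldMap u).hom.EssFiniteType :=
      RingHom.EssFiniteType.residueFieldMap (LocallyOfFiniteType.stalkMap p u)
    rw [hθ'def]
    exact (h1.comp h2).comp h3
  rw [hθ']
  exact Groth.Agent.H73.KA.exists_finset_closure_eq_top_of_essFiniteType θ'.hom hess

end Groth.Agent.H54.DVRLift
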