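import Mathlib
import Groth.Agent.H73.DVRSpec
import Groth.Agent.H73.ValProper

/-!
# Properness from discrete valuation rings of the function field (EGA II 7.3.10 (ii))
-/

set_option autoImplicit false
universe u
open CategoryTheory CategoryTheory.Limits AlgebraicGeometry IsLocalRing

namespace Groth.Agent.H54.DVRProper

variable {X Y : Scheme.{u}}

/-- If all sections over an affine open `U` lie in the valuation ring `R` of the function field,
then `R` dominates the local ring of a point of `U`. -/
theorem exists_dominated_of_germ_mem [IsIntegral X] (U : X.Opens) (hU : IsAffineOpen U)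
    (hξU : genericPoint X ∈ U) (R : ValuationSubring X.functionField)
    (hR : ∀ b : Γ(X, U), (X.presheaf.germ U (genericPoint X) hξU).hom b ∈ R) :
    ∃ x : X, x ∈ U ∧
      (∀ a : X.presheaf.stalk x, algebraMap (X.presheaf.stalk x) X.functionField a ∈ R) ∧
      ∀ a ∈ maximalIdeal (X.presheaf.stalk x),
        R.valuation (algebraMap (X.presheaf.stalk x) X.functionField a) < 1 := by
  let ψ : Γ(X, U) →+* R := (X.presheaf.germ U (genericPoint X) hξU).hom.codRestrict R hR
  let g : Spec (CommRingCat.of R) ⟶ X := Spec.map (CommRingCat.ofHom ψ) ≫ hU.fromSpec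
  let x : X := g (closedPoint R)
  have hxU : x ∈ U := by
    have h0 : x ∈ Set.range hU.fromSpec := ⟨Spec.map (CommRingCat.ofHom ψ) (closedPoint R), rfl⟩
    rwa [hU.range_fromSpec] at h0
  let φ : X.presheaf.stalk x ⟶ CommRingCat.of R := Scheme.stalkClosedPointTo g
  haveI : IsLocalHom φ.hom := Scheme.isLocalHom_stalkClosedPointTo g
  have hξx : genericPoint X ⤳ x := (genericPoint_spec X).specializes trivial
  have hφ : φ ≫ CommRingCat.ofHom R.subtype = X.presheaf.stalkSpecializes hξx := by
    apply Spec.map_injective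
    rw [← cancel_mono (X.fromSpecStalk x)]
    rw [Spec.map_comp, Category.assoc, Scheme.Spec_stalkClosedPointTo_fromSpecStalk,
      Scheme.SpecMap_stalkSpecializes_fromSpecStalk]
    have e : CommRingCat.ofHom ψ ≫ CommRingCat.ofHom R.subtype =
        X.presheaf.germ U (genericPoint X) hξU :=
      CommRingCat.hom_ext (RingHom.ext fun b => rfl)
    rw [show Spec.map (CommRingCat.ofHom R.subtype) ≫ g =
      Spec.map (CommRingCat.ofHom ψ ≫ CommRingCat.ofHom R.subtype) ≫ hU.fromSpec from by
        rw [Spec.map_comp, Category.assoc], e]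
    exact hU.fromSpecStalk_eq_fromSpecStalk hξU
  have hφa : ∀ a, algebraMap (X.presheaf.stalk x) X.functionField a =
      ((φ.hom a : R) : X.functionField) := by
    intro a
    have := congrArg (fun k => k.hom a) hφ
    exact this.symm
  refine ⟨x, hxU, fun a => ?_, fun a ha => ?_⟩
  · rw [hφa]; exact (φ.hom a).2
  · rw [hφa]
    refine (R.valuation_lt_one_iff (φ.hom a)).mp ?_
    rw [mem_maximalIdeal, mem_nonunits_iff] at ha ⊢
    exact fun hu => ha (isUnit_of_map_unit φ.hom a hu)

/-- If `V` contains the image of the local ring at `x ∈ U`, it contains all sections over `U`. -/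
theorem germ_mem_of_dominated [IsIntegral X] (U : X.Opens) (hξU : genericPoint X ∈ U) (x : X)
    (hxU : x ∈ U) (V : ValuationSubring X.functionField)
    (hV : ∀ a : X.presheaf.stalk x, algebraMap (X.presheaf.stalk x) X.functionField a ∈ V)
    (b : Γ(X, U)) :
    (X.presheaf.germ U (genericPoint X) hξU).hom b ∈ V := by
  have hξx : genericPoint X ⤳ x := (genericPoint_spec X).specializes trivial
  have h := hV ((X.presheaf.germ U x hxU).hom b)
  have e : algebraMap (X.presheaf.stalk x) X.functionField ((X.presheaf.germ U x hxU).hom b) =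
      (X.presheaf.germ U (genericPoint X) hξU).hom b := by
    change (X.presheaf.germ U x hxU ≫ X.presheaf.stalkSpecializes hξx).hom b = _
    rw [TopCat.Presheaf.germ_stalkSpecializes]
  rwa [e] at h

/-- A valuation ring of `K(X)` dominating `O_{Y,y}` and `O_{X,x}` forces `f x = y` when `Y` is
separated. -/
theorem map_eq_of_dominates [IsIntegral X] [IsIntegral Y] [Y.IsSeparated] (f : X ⟶ Y)
    (V : ValuationSubring X.functionField) (y : Y) (hy : f.base (genericPoint X) ⤳ y)
    (h1 : ∀ a : Y.presheaf.stalk y,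
      (Y.presheaf.stalkSpecializes hy ≫ f.stalkMap (genericPoint X)).hom a ∈ V)
    (h2 : ∀ a ∈ maximalIdeal (Y.presheaf.stalk y),
      V.valuation ((Y.presheaf.stalkSpecializes hy ≫ f.stalkMap (genericPoint X)).hom a) < 1)
    (x : X)
    (hx1 : ∀ a : X.presheaf.stalk x, algebraMap (X.presheaf.stalk x) X.functionField a ∈ V)
    (hx2 : ∀ a ∈ maximalIdeal (X.presheaf.stalk x),
      V.valuation (algebraMap (X.presheaf.stalk x) X.functionField a) < 1) :
    f x = y := by
  have hξx : genericPoint X ⤳ x := (genericPoint_spec X).specializes trivial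
  let φy : Y.presheaf.stalk y ⟶ X.functionField :=
    Y.presheaf.stalkSpecializes hy ≫ f.stalkMap (genericPoint X)
  let jy : Y.presheaf.stalk y →+* V := φy.hom.codRestrict V h1
  let jx : X.presheaf.stalk x →+* V := (X.presheaf.stalkSpecializes hξx).hom.codRestrict V hx1
  haveI : IsLocalHom jy := ⟨fun a ha => by
    by_contra hna
    have hm : a ∈ maximalIdeal (Y.presheaf.stalk y) := hna
    have h3 := h2 a hm
    have h4 : V.valuation ((jy a : V) : X.functionField) = 1 := (V.valuation_eq_one_iff _).mp ha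
    exact h3.ne h4⟩
  haveI : IsLocalHom jx := ⟨fun a ha => by
    by_contra hna
    have hm : a ∈ maximalIdeal (X.presheaf.stalk x) := hna
    have h3 := hx2 a hm
    have h4 : V.valuation ((jx a : V) : X.functionField) = 1 := (V.valuation_eq_one_iff _).mp ha
    exact h3.ne h4⟩
  let g₁ : Spec (CommRingCat.of V) ⟶ Y := Spec.map (CommRingCat.ofHom jy) ≫ Y.fromSpecStalk y
  let g₂ : Spec (CommRingCat.of V) ⟶ Y :=
    Spec.map (CommRingCat.ofHom jx) ≫ X.fromSpecStalk x ≫ f
  let ι : Spec (CommRingCat.of X.functionField) ⟶ Spec (CommRingCat.of V) :=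
    Spec.map (CommRingCat.ofHom V.subtype)
  haveI : IsDominant ι :=
    Groth.Agent.H73.ValProper.isDominant_SpecMap_of_injective _ Subtype.val_injective
  have e1 : ι ≫ g₁ = X.fromSpecStalk (genericPoint X) ≫ f := by
    have e : CommRingCat.ofHom jy ≫ CommRingCat.ofHom V.subtype = φy :=
      CommRingCat.hom_ext (RingHom.ext fun a => rfl)
    change Spec.map (CommRingCat.ofHom V.subtype) ≫ Spec.map (CommRingCat.ofHom jy) ≫
      Y.fromSpecStalk y = _
    rw [← Category.assoc, ← Spec.map_comp, e]
    simp only [φy, Spec.map_comp, Category.assoc]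
    rw [Scheme.SpecMap_stalkSpecializes_fromSpecStalk, Scheme.SpecMap_stalkMap_fromSpecStalk]
  have e2 : ι ≫ g₂ = X.fromSpecStalk (genericPoint X) ≫ f := by
    have e : CommRingCat.ofHom jx ≫ CommRingCat.ofHom V.subtype =
        X.presheaf.stalkSpecializes hξx :=
      CommRingCat.hom_ext (RingHom.ext fun a => rfl)
    change Spec.map (CommRingCat.ofHom V.subtype) ≫ Spec.map (CommRingCat.ofHom jx) ≫
      X.fromSpecStalk x ≫ f = _
    rw [← Category.assoc, ← Spec.map_comp, e, ← Category.assoc,
      Scheme.SpecMap_stalkSpecializes_fromSpecStalk]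
  have hg : g₁ = g₂ := ext_of_isDominant ι (e1.trans e2.symm)
  have p1 : g₁ (closedPoint V) = y := by
    change (Y.fromSpecStalk y) (Spec.map (CommRingCat.ofHom jy) (closedPoint V)) = y
    rw [show Spec.map (CommRingCat.ofHom jy) (closedPoint V) = closedPoint _ from
      comap_closedPoint jy]
    exact Scheme.fromSpecStalk_closedPoint
  have p2 : g₂ (closedPoint V) = f x := by
    change f ((X.fromSpecStalk x) (Spec.map (CommRingCat.ofHom jx) (closedPoint V))) = f x
    rw [show Spec.map (CommRingCat.ofHom jx) (closedPoint V) = closedPoint _ from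
      comap_closedPoint jx]
    rw [Scheme.fromSpecStalk_closedPoint]
  rw [← hg] at p2
  exact p2.symm.trans p1

/-- The function field of `X` is finitely generated as a field over the image of `O_{Y,y}`. -/
theorem exists_finset_closure [IsIntegral X] (f : X ⟶ Y) [LocallyOfFiniteType f] (y : Y)
    (hy : f.base (genericPoint X) ⤳ y) :
    ∃ s : Finset X.functionField, Subfield.closure
      (Set.range (Y.presheaf.stalkSpecializes hy ≫ f.stalkMap (genericPoint X)).hom ∪ s) = ⊤ := by
  apply Groth.Agent.H73.KA.exists_finset_closure_eq_top_of_essFiniteType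
  rw [CommRingCat.hom_comp]
  exact (Groth.Agent.H73.KA.essFiniteType_stalkSpecializes hy).comp
    (LocallyOfFiniteType.stalkMap f (genericPoint X))

/-- The key reduction: if discrete valuation rings of `K(X)` dominating a local ring of `Y`
dominate a local ring of `X`, the same holds for all valuation rings. -/
theorem exists_dominated_of_dvr [IsIntegral X] [IsIntegral Y] [Y.IsSeparated]
    [IsLocallyNoetherian Y] (f : X ⟶ Y) [LocallyOfFiniteType f] [QuasiCompact f]
    (h : ∀ (R : ValuationSubring X.functionField), IsDiscreteValuationRing R →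
      ∀ (y : Y) (hy : f.base (genericPoint X) ⤳ y),
        ((∀ a : (Y.presheaf.stalk y),
          (Y.presheaf.stalkSpecializes hy ≫ f.stalkMap (genericPoint X)).hom a ∈ R) ∧
          ∀ a ∈ IsLocalRing.maximalIdeal (Y.presheaf.stalk y),
            R.valuation
              ((Y.presheaf.stalkSpecializes hy ≫ f.stalkMap (genericPoint X)).hom a) < 1) →
        ∃ x : X, ((∀ a : (X.presheaf.stalk x),
          algebraMap (X.presheaf.stalk x) X.functionField a ∈ R) ∧
          ∀ a ∈ IsLocalRing.maximalIdeal (X.presheaf.stalk x),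
            R.valuation (algebraMap (X.presheaf.stalk x) X.functionField a) < 1))
    (R : ValuationSubring X.functionField) (y : Y) (hy : f.base (genericPoint X) ⤳ y)
    (h1 : ∀ a : Y.presheaf.stalk y,
      (Y.presheaf.stalkSpecializes hy ≫ f.stalkMap (genericPoint X)).hom a ∈ R)
    (h2 : ∀ a ∈ maximalIdeal (Y.presheaf.stalk y),
      R.valuation ((Y.presheaf.stalkSpecializes hy ≫ f.stalkMap (genericPoint X)).hom a) < 1) :
    ∃ x : X, (∀ a : X.presheaf.stalk x,
        algebraMap (X.presheaf.stalk x) X.functionField a ∈ R) ∧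
      ∀ a ∈ maximalIdeal (X.presheaf.stalk x),
        R.valuation (algebraMap (X.presheaf.stalk x) X.functionField a) < 1 := by
  classical
  by_contra hno
  obtain ⟨_, ⟨W, hW, rfl⟩, hyW, -⟩ :=
    Y.isBasis_affineOpens.exists_subset_of_mem_open (Set.mem_univ y) isOpen_univ
  have hc : IsCompact ((f ⁻¹ᵁ W : X.Opens) : Set X) := f.isCompact_preimage hW.isCompact
  obtain ⟨s, hsfin, hs⟩ := (isCompact_and_isOpen_iff_finite_and_eq_biUnion_affineOpens
    (U := ((f ⁻¹ᵁ W : X.Opens) : Set X))).mp ⟨hc, (f ⁻¹ᵁ W).2⟩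
  have hP : ∀ U : X.affineOpens, ∃ t : X.functionField, R.valuation t < 1 ∧
      (genericPoint X ∈ U.1 → t ≠ 0) ∧
      ∀ (V : ValuationSubring X.functionField) (x : X), x ∈ U.1 →
        (∀ a : X.presheaf.stalk x, algebraMap (X.presheaf.stalk x) X.functionField a ∈ V) →
        ¬ V.valuation t < 1 := by
    intro U
    by_cases hξU : genericPoint X ∈ U.1
    · have hb : ∃ b : Γ(X, U.1), (X.presheaf.germ U.1 (genericPoint X) hξU).hom b ∉ R := by
        by_contra hall
        push_neg at hall
        obtain ⟨x, -, hx1, hx2⟩ := exists_dominated_of_germ_mem U.1 U.2 hξU R hall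
        exact hno ⟨x, hx1, hx2⟩
      obtain ⟨b, hb⟩ := hb
      obtain ⟨β, hβ⟩ : ∃ β, β = (X.presheaf.germ U.1 (genericPoint X) hξU).hom b := ⟨_, rfl⟩
      rw [← hβ] at hb
      have hβ0 : β ≠ 0 := fun h0 => hb (h0 ▸ R.zero_mem)
      have hβR : 1 < R.valuation β := by
        by_contra hle
        exact hb ((R.valuation_le_one_iff β).mp (not_lt.mp hle))
      refine ⟨β⁻¹, ?_, fun _ => inv_ne_zero hβ0, fun V x hxU hV hlt => ?_⟩
      · rw [map_inv₀]
        exact inv_lt_one_of_one_lt₀ hβR
      · have hβV : β ∈ V := hβ ▸ germ_mem_of_dominated U.1 hξU x hxU V hV b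
        have h3 : V.valuation β ≤ 1 := (V.valuation_le_one_iff β).mpr hβV
        rw [map_inv₀] at hlt
        have hpos : 0 < V.valuation β := by
          rw [zero_lt_iff]; exact (V.valuation.ne_zero_iff).mpr hβ0
        have h4 : 1 ≤ (V.valuation β)⁻¹ := (one_le_inv₀ hpos).mpr h3
        exact (not_lt.mpr h4) hlt
    · refine ⟨0, by rw [map_zero]; exact zero_lt_one, fun h => absurd h hξU,
        fun V x hxU _ _ => ?_⟩
      exact hξU (((genericPoint_spec X).specializes trivial :
        genericPoint X ⤳ x).mem_open U.1.2 hxU)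
  choose t ht1 ht0 ht2 using hP
  let φy : Y.presheaf.stalk y →+* X.functionField :=
    (Y.presheaf.stalkSpecializes hy ≫ f.stalkMap (genericPoint X)).hom
  letI : Algebra (Y.presheaf.stalk y) X.functionField := φy.toAlgebra
  let T : Set X.functionField := t '' s
  have hT : T.Finite := hsfin.image t
  let C := Algebra.adjoin (Y.presheaf.stalk y) T
  have hCR : ∀ z ∈ C, z ∈ R := by
    intro z hz
    induction hz using Algebra.adjoin_induction with
    | mem z hz =>
      obtain ⟨U, hU, rfl⟩ := hz
      exact (R.valuation_le_one_iff _).mp (ht1 U).le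
    | algebraMap r => exact h1 r
    | add a b _ _ ha hb => exact R.add_mem _ _ ha hb
    | mul a b _ _ ha hb => exact R.mul_mem _ _ ha hb
  let S : Subring X.functionField := C.toSubring
  haveI : IsNoetherianRing S := Groth.Agent.H73.KA.noeth_adjoin' T hT
  let ι : S →+* R := S.subtype.codRestrict R (fun z => hCR z.1 z.2)
  let n : Ideal S := Ideal.comap ι (maximalIdeal R)
  haveI : n.IsPrime := Ideal.comap_isPrime ι _
  have hn_mem : ∀ z : S, z ∈ n ↔ R.valuation (z : X.functionField) < 1 :=
    fun z => R.valuation_lt_one_iff (ι z)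
  have hξpre : genericPoint X ∈ ((f ⁻¹ᵁ W : X.Opens) : Set X) := hy.mem_open W.2 hyW
  obtain ⟨U₀, hU₀s, hξU₀⟩ := Set.mem_iUnion₂.mp (hs.subset hξpre)
  have hn : n ≠ ⊥ := by
    intro hbot
    have hz : (⟨t U₀, Algebra.subset_adjoin ⟨U₀, hU₀s, rfl⟩⟩ : S) ∈ n :=
      (hn_mem _).mpr (ht1 U₀)
    rw [hbot, Ideal.mem_bot] at hz
    exact ht0 U₀ hξU₀ (congrArg Subtype.val hz)
  obtain ⟨s₀, hs₀⟩ := exists_finset_closure f y hy
  have hs₀' : Subfield.closure ((S : Set X.functionField) ∪ s₀) = ⊤ := by
    rw [_root_.eq_top_iff, ← hs₀]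
    apply Subfield.closure_mono
    apply Set.union_subset_union_left
    rintro _ ⟨a, rfl⟩
    exact C.algebraMap_mem a
  obtain ⟨V, hVdvr, hSV, hVn⟩ := Groth.Agent.H73.KA.exists_dvr_of_subring S n hn s₀ hs₀'
  have hV1 : ∀ a : Y.presheaf.stalk y,
      (Y.presheaf.stalkSpecializes hy ≫ f.stalkMap (genericPoint X)).hom a ∈ V :=
    fun a => hSV (C.algebraMap_mem a)
  have hV2 : ∀ a ∈ maximalIdeal (Y.presheaf.stalk y),
      V.valuation ((Y.presheaf.stalkSpecializes hy ≫ f.stalkMap (genericPoint X)).hom a) < 1 :=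
    fun a ha => hVn ⟨_, C.algebraMap_mem a⟩ ((hn_mem _).mpr (h2 a ha))
  obtain ⟨x, hx1, hx2⟩ := h V hVdvr y hy ⟨hV1, hV2⟩
  have hfx : f x = y := map_eq_of_dominates f V y hy hV1 hV2 x hx1 hx2
  have hxpre : x ∈ ((f ⁻¹ᵁ W : X.Opens) : Set X) := by
    change f x ∈ W
    rw [hfx]; exact hyW
  obtain ⟨U, hUs, hxU⟩ := Set.mem_iUnion₂.mp (hs.subset hxpre)
  have hzn : (⟨t U, Algebra.subset_adjoin ⟨U, hUs, rfl⟩⟩ : S) ∈ n := (hn_mem _).mpr (ht1 U)
  exact ht2 U V x hxU hx1 (hVn _ hzn)

/-- **EGA II 7.3.10 (ii).** -/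
theorem isProper_of_dvr [IsIntegral X] [IsIntegral Y] [X.IsSeparated] [Y.IsSeparated]
    [IsLocallyNoetherian Y] (f : X ⟶ Y) [LocallyOfFiniteType f] [QuasiCompact f]
    (h : ∀ (R : ValuationSubring X.functionField), IsDiscreteValuationRing R →
      ∀ (y : Y) (hy : f.base (genericPoint X) ⤳ y),
        ((∀ a : (Y.presheaf.stalk y),
          (Y.presheaf.stalkSpecializes hy ≫ f.stalkMap (genericPoint X)).hom a ∈ R) ∧
          ∀ a ∈ IsLocalRing.maximalIdeal (Y.presheaf.stalk y),
            R.valuation
              ((Y.presheaf.stalkSpecializes hy ≫ f.stalkMap (genericPoint X)).hom a) < 1) →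
        ∃ x : X, ((∀ a : (X.presheaf.stalk x),
          algebraMap (X.presheaf.stalk x) X.functionField a ∈ R) ∧
          ∀ a ∈ IsLocalRing.maximalIdeal (X.presheaf.stalk x),
            R.valuation (algebraMap (X.presheaf.stalk x) X.functionField a) < 1)) :
    IsProper f :=
  Groth.Agent.H73.ValProper.isProper f
    (fun R _ y hy hdom => exists_dominated_of_dvr f h R y hy hdom.1 hdom.2)

end Groth.Agent.H54.DVRProper
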