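import Mathlib

/-!
# Transport between `FractionRing V` and `K` for a valuation subring `V` of `K`
-/

set_option autoImplicit false
universe u
open CategoryTheory CategoryTheory.Limits AlgebraicGeometry

namespace Groth.Agent.H54.FracTransport

/-- The canonical identification of `FractionRing V` with `K`, in `CommRingCat`. -/
theorem exists_fractionRing_iso {K : Type u} [Field K] (V : ValuationSubring K) :
    ∃ (e : CommRingCat.of K ⟶ CommRingCat.of (FractionRing V))
      (e' : CommRingCat.of (FractionRing V) ⟶ CommRingCat.of K),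
      e ≫ e' = 𝟙 _ ∧ e' ≫ e = 𝟙 _ ∧
      CommRingCat.ofHom V.subtype ≫ e = CommRingCat.ofHom (algebraMap V (FractionRing V)) ∧
      CommRingCat.ofHom (algebraMap V (FractionRing V)) ≫ e' = CommRingCat.ofHom V.subtype := by
  let E : FractionRing V ≃ₐ[V] K := FractionRing.algEquiv V K
  refine ⟨CommRingCat.ofHom E.symm.toRingEquiv.toRingHom,
    CommRingCat.ofHom E.toRingEquiv.toRingHom, ?_, ?_, ?_, ?_⟩
  · ext a; exact E.apply_symm_apply a
  · ext a; exact E.symm_apply_apply a
  · ext a; exact E.symm.commutes a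
  · ext a; exact E.commutes a

variable {X S U : Scheme.{u}}

/-- Uniqueness hypothesis in `FractionRing` form gives uniqueness in `ValuationSubring` form. -/
theorem unique_of_H (f : X ⟶ S) (h : U ⟶ X)
    (H : ∀ (A : Type u) [CommRing A] [IsDomain A] [IsDiscreteValuationRing A]
      (u : Spec (CommRingCat.of (FractionRing A)) ⟶ U) (y : Spec (CommRingCat.of A) ⟶ S),
      u ≫ h ≫ f = Spec.map (CommRingCat.ofHom (algebraMap A (FractionRing A))) ≫ y →
        ∀ l₁ l₂ : Spec (CommRingCat.of A) ⟶ X, l₁ ≫ f = y →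
          Spec.map (CommRingCat.ofHom (algebraMap A (FractionRing A))) ≫ l₁ = u ≫ h →
          l₂ ≫ f = y →
          Spec.map (CommRingCat.ofHom (algebraMap A (FractionRing A))) ≫ l₂ = u ≫ h → l₁ = l₂)
    (z : U) (A : ValuationSubring (U.residueField z)) (hA : IsDiscreteValuationRing A)
    (l₁ l₂ : Spec (CommRingCat.of A) ⟶ X) (h12 : l₁ ≫ f = l₂ ≫ f)
    (h1 : Spec.map (CommRingCat.ofHom A.subtype) ≫ l₁ = U.fromSpecResidueField z ≫ h)
    (h2 : Spec.map (CommRingCat.ofHom A.subtype) ≫ l₂ = U.fromSpecResidueField z ≫ h) :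
    l₁ = l₂ := by
  obtain ⟨e, e', hee', he'e, he, he'⟩ := exists_fractionRing_iso A
  haveI := hA
  have k1 : Spec.map e ≫ Spec.map (CommRingCat.ofHom A.subtype) =
      Spec.map (CommRingCat.ofHom (algebraMap A (FractionRing A))) := by
    rw [← Spec.map_comp, he]
  have c2 : ∀ l : Spec (CommRingCat.of A) ⟶ X,
      Spec.map (CommRingCat.ofHom A.subtype) ≫ l = U.fromSpecResidueField z ≫ h →
      Spec.map (CommRingCat.ofHom (algebraMap A (FractionRing A))) ≫ l =
        (Spec.map e ≫ U.fromSpecResidueField z) ≫ h := by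
    intro l hl
    rw [← k1, Category.assoc, hl, Category.assoc]
  refine H A (Spec.map e ≫ U.fromSpecResidueField z) (l₁ ≫ f) ?_ l₁ l₂ rfl (c2 l₁ h1) h12.symm
    (c2 l₂ h2)
  calc (Spec.map e ≫ U.fromSpecResidueField z) ≫ h ≫ f
      = Spec.map e ≫ (U.fromSpecResidueField z ≫ h) ≫ f := by simp only [Category.assoc]
    _ = Spec.map e ≫ (Spec.map (CommRingCat.ofHom A.subtype) ≫ l₁) ≫ f := by rw [h1]
    _ = (Spec.map e ≫ Spec.map (CommRingCat.ofHom A.subtype)) ≫ l₁ ≫ f := by
        simp only [Category.assoc]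
    _ = _ := by rw [k1]

/-- Existence hypothesis in `FractionRing` form gives existence in `ValuationSubring` form. -/
theorem exists_of_H (f : X ⟶ S) (h : U ⟶ X)
    (H : ∀ (A : Type u) [CommRing A] [IsDomain A] [IsDiscreteValuationRing A]
      (u : Spec (CommRingCat.of (FractionRing A)) ⟶ U) (y : Spec (CommRingCat.of A) ⟶ S),
      u ≫ h ≫ f = Spec.map (CommRingCat.ofHom (algebraMap A (FractionRing A))) ≫ y →
        ∃ l : Spec (CommRingCat.of A) ⟶ X, l ≫ f = y ∧
          Spec.map (CommRingCat.ofHom (algebraMap A (FractionRing A))) ≫ l = u ≫ h)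
    (z : U) (V : ValuationSubring (U.residueField z)) (hV : IsDiscreteValuationRing V)
    (y : Spec (CommRingCat.of V) ⟶ S)
    (hy : Spec.map (CommRingCat.ofHom V.subtype) ≫ y = (U.fromSpecResidueField z ≫ h) ≫ f) :
    ∃ l : Spec (CommRingCat.of V) ⟶ X,
      Spec.map (CommRingCat.ofHom V.subtype) ≫ l = U.fromSpecResidueField z ≫ h ∧ l ≫ f = y := by
  obtain ⟨e, e', hee', he'e, he, he'⟩ := exists_fractionRing_iso V
  haveI := hV
  have k1 : Spec.map e ≫ Spec.map (CommRingCat.ofHom V.subtype) =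
      Spec.map (CommRingCat.ofHom (algebraMap V (FractionRing V))) := by
    rw [← Spec.map_comp, he]
  have k2 : Spec.map e' ≫ Spec.map e = 𝟙 _ := by rw [← Spec.map_comp, hee', Spec.map_id]
  have k3 : Spec.map e' ≫ Spec.map (CommRingCat.ofHom (algebraMap V (FractionRing V))) =
      Spec.map (CommRingCat.ofHom V.subtype) := by
    rw [← Spec.map_comp, he']
  obtain ⟨l, hl1, hl2⟩ := H V (Spec.map e ≫ U.fromSpecResidueField z) y (by
    calc (Spec.map e ≫ U.fromSpecResidueField z) ≫ h ≫ f
        = Spec.map e ≫ ((U.fromSpecResidueField z ≫ h) ≫ f) := by simp only [Category.assoc]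
      _ = Spec.map e ≫ Spec.map (CommRingCat.ofHom V.subtype) ≫ y := by rw [hy]
      _ = _ := by rw [← Category.assoc, k1])
  refine ⟨l, ?_, hl1⟩
  calc Spec.map (CommRingCat.ofHom V.subtype) ≫ l
      = (Spec.map e' ≫ Spec.map (CommRingCat.ofHom (algebraMap V (FractionRing V)))) ≫ l := by
        rw [k3]
    _ = Spec.map e' ≫ (Spec.map e ≫ U.fromSpecResidueField z) ≫ h := by
        rw [Category.assoc, hl2]
    _ = (Spec.map e' ≫ Spec.map e) ≫ U.fromSpecResidueField z ≫ h := by
        simp only [Category.assoc]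
    _ = _ := by rw [k2, Category.id_comp]

end Groth.Agent.H54.FracTransport
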