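import Mathlib
import Groth.Agent.H73.DVRSpec
import Groth.Agent.H73.ValProper
import Groth.Agent.H54.ValDense
import Groth.Agent.H54.SchemeDim2
import Groth.Agent.H54.FracTransport

/-!
# Noetherian valuative criterion for separatedness through special points
-/

set_option autoImplicit false
universe u
open CategoryTheory CategoryTheory.Limits AlgebraicGeometry IsLocalRing

namespace Groth.Agent.H54.DVRSep

/-- Core: separatedness from uniqueness of lifts for discrete valuation rings of residue fields
of points `u` (of auxiliary schemes `U → X` locally of finite type) generizing every point. -/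
theorem isSeparated_of_dvr_unique {X S : Scheme.{u}} [IsLocallyNoetherian S] (f : X ⟶ S)
    [LocallyOfFiniteType f]
    (G : ∀ x : X, ∃ (U : Scheme.{u}) (h : U ⟶ X) (_ : LocallyOfFiniteType h) (u : U),
      h.base u ⤳ x ∧
      ∀ (A : ValuationSubring (U.residueField u)), IsDiscreteValuationRing A →
        ∀ l₁ l₂ : Spec (CommRingCat.of A) ⟶ X, l₁ ≫ f = l₂ ≫ f →
          Spec.map (CommRingCat.ofHom A.subtype) ≫ l₁ = U.fromSpecResidueField u ≫ h →
          Spec.map (CommRingCat.ofHom A.subtype) ≫ l₂ = U.fromSpecResidueField u ≫ h →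
          l₁ = l₂) :
    IsSeparated f := by
  haveI : IsLocallyNoetherian X := LocallyOfFiniteType.isLocallyNoetherian f
  haveI : QuasiSeparated f := inferInstance
  haveI : QuasiCompact (pullback.diagonal f) := QuasiSeparated.quasiCompact_diagonal
  haveI : IsLocallyNoetherian (pullback f f) :=
    LocallyOfFiniteType.isLocallyNoetherian (pullback.fst f f)
  have hsp : SpecializingMap (pullback.diagonal f) := by
    intro x z hz
    change (pullback.diagonal f) x ⤳ z at hz
    obtain ⟨U, h, hlft, u, hux, Hu⟩ := G x
    haveI := hlft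
    have hΔux' : (pullback.diagonal f) (h u) ⤳ z :=
      (hux.map (pullback.diagonal f).continuous).trans hz
    have hΔux : (h ≫ pullback.diagonal f).base u ⤳ z := hΔux'
    by_cases hne : z = (h ≫ pullback.diagonal f).base u
    · have h2 : z ⤳ (pullback.diagonal f) x := by
        rw [hne]
        exact hux.map (pullback.diagonal f).continuous
      exact ⟨x, specializes_rfl, (hz.antisymm h2).eq⟩
    · obtain ⟨A, g, hA, hgcl, hg⟩ := Groth.Agent.H73.KA.exists_dvr_through_specialization
        (h ≫ pullback.diagonal f) u z hΔux hne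
      have e1 : Spec.map (CommRingCat.ofHom A.subtype) ≫ g ≫ pullback.fst f f =
          U.fromSpecResidueField u ≫ h := by
        rw [← Category.assoc, hg]
        simp only [Category.assoc, pullback.diagonal_fst, Category.comp_id]
      have e2 : Spec.map (CommRingCat.ofHom A.subtype) ≫ g ≫ pullback.snd f f =
          U.fromSpecResidueField u ≫ h := by
        rw [← Category.assoc, hg]
        simp only [Category.assoc, pullback.diagonal_snd, Category.comp_id]
      have h12 : g ≫ pullback.fst f f = g ≫ pullback.snd f f :=
        Hu A hA _ _ (by simp only [Category.assoc, pullback.condition]) e1 e2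
      have hgΔ : (g ≫ pullback.fst f f) ≫ pullback.diagonal f = g := by
        apply pullback.hom_ext
        · simp only [Category.assoc, pullback.diagonal_fst, Category.comp_id]
        · simp only [Category.assoc, pullback.diagonal_snd, Category.comp_id]
          exact h12
      refine ⟨(g ≫ pullback.fst f f) (closedPoint A), ?_, ?_⟩
      · have h3 : (pullback.fst f f) ((pullback.diagonal f) x) ⤳ (pullback.fst f f) z :=
          hz.map (pullback.fst f f).continuous
        have h4 : (pullback.fst f f) ((pullback.diagonal f) x) = x := by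
          rw [← Scheme.Hom.comp_apply, pullback.diagonal_fst]
          rfl
        rw [h4, ← hgcl] at h3
        exact h3
      · rw [← Scheme.Hom.comp_apply, hgΔ]
        exact hgcl
  have hcl : IsClosedMap (pullback.diagonal f) := (isClosedMap_iff_specializingMap _).mpr hsp
  constructor
  exact IsClosedImmersion.of_isPreimmersion _ hcl.isClosed_range

/-- Separatedness from uniqueness of DVR lifts through a dense finite type `U → X`. -/
theorem isSeparated_of_dense {X S U : Scheme.{u}} [IsLocallyNoetherian S] (f : X ⟶ S)
    [LocallyOfFiniteType f] (h : U ⟶ X) [LocallyOfFiniteType h] [QuasiCompact h]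
    (hd : DenseRange h.base)
    (H : ∀ (A : Type u) [CommRing A] [IsDomain A] [IsDiscreteValuationRing A]
      (u : Spec (CommRingCat.of (FractionRing A)) ⟶ U) (y : Spec (CommRingCat.of A) ⟶ S),
      u ≫ h ≫ f = Spec.map (CommRingCat.ofHom (algebraMap A (FractionRing A))) ≫ y →
        ∀ l₁ l₂ : Spec (CommRingCat.of A) ⟶ X, l₁ ≫ f = y →
          Spec.map (CommRingCat.ofHom (algebraMap A (FractionRing A))) ≫ l₁ = u ≫ h →
          l₂ ≫ f = y →
          Spec.map (CommRingCat.ofHom (algebraMap A (FractionRing A))) ≫ l₂ = u ≫ h → l₁ = l₂) :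
    IsSeparated f :=
  isSeparated_of_dvr_unique f (fun x => by
    obtain ⟨u, hu⟩ := Groth.Agent.H54.exists_specializes_of_denseRange h hd x
    exact ⟨U, h, inferInstance, u, hu, fun A hA l₁ l₂ h12 h1 h2 =>
      FracTransport.unique_of_H f h H u A hA l₁ l₂ h12 h1 h2⟩)

/-- Separatedness from uniqueness of DVR lifts at generic points of irreducible components. -/
theorem isSeparated_of_generic {X S : Scheme.{u}} [IsLocallyNoetherian S] (f : X ⟶ S)
    [LocallyOfFiniteType f]
    (Hg : ∀ (η : X), closure {η} ∈ irreducibleComponents (X : Type u) →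
      ∀ (A : ValuationSubring (X.residueField η)), IsDiscreteValuationRing A →
        ∀ l₁ l₂ : Spec (CommRingCat.of A) ⟶ X, l₁ ≫ f = l₂ ≫ f →
          Spec.map (CommRingCat.ofHom A.subtype) ≫ l₁ = X.fromSpecResidueField η →
          Spec.map (CommRingCat.ofHom A.subtype) ≫ l₂ = X.fromSpecResidueField η → l₁ = l₂) :
    IsSeparated f :=
  isSeparated_of_dvr_unique f (fun x => by
    obtain ⟨η, hηx, hη⟩ := Groth.Agent.H54.exists_generic_specializes x
    exact ⟨X, 𝟙 X, inferInstance, η, hηx, fun A hA l₁ l₂ h12 h1 h2 =>
      Hg η hη A hA l₁ l₂ h12 (by rw [h1, Category.comp_id]) (by rw [h2, Category.comp_id])⟩)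

/-- Uniqueness of lifts for separated morphisms, valuation subring form. -/
theorem lift_unique_of_isSeparated {X S : Scheme.{u}} (f : X ⟶ S) [IsSeparated f]
    {K : Type u} [Field K] (A : ValuationSubring K) (l₁ l₂ : Spec (CommRingCat.of A) ⟶ X)
    (h12 : l₁ ≫ f = l₂ ≫ f)
    (h : Spec.map (CommRingCat.ofHom A.subtype) ≫ l₁ =
      Spec.map (CommRingCat.ofHom A.subtype) ≫ l₂) : l₁ = l₂ := by
  haveI : IsDominant (Spec.map (CommRingCat.ofHom A.subtype)) :=
    Groth.Agent.H73.ValProper.isDominant_SpecMap_of_injective _ Subtype.val_injective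
  exact ext_of_isDominant_of_isSeparated f h12 (Spec.map (CommRingCat.ofHom A.subtype)) h

end Groth.Agent.H54.DVRSep
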