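import Mathlib
import Groth.Prelude.Def_Fitting
import Groth.Agent.S8880

/-!
# helper54: gluing norms from a basis of opens; weak norms and quasi-affineness
-/

set_option autoImplicit false
universe u
open CategoryTheory AlgebraicGeometry TopologicalSpace

namespace Groth.Agent.H54.NormGlue

theorem map_map' {T : Scheme.{u}} {U V W : T.Opens} (i : V ⟶ U) (j : W ⟶ V) (k : W ⟶ U)
    (t : Γ(T, U)) :
    T.presheaf.map j.op (T.presheaf.map i.op t) = T.presheaf.map k.op t := by
  rw [← CommRingCat.comp_apply, ← Functor.map_comp, ← op_comp,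
    show j ≫ i = k from Subsingleton.elim _ _]

theorem eq_of_locally {T : Scheme.{u}} {U : T.Opens} (t t' : Γ(T, U))
    (h : ∀ y ∈ U, ∃ (W : T.Opens) (hW : W ≤ U), y ∈ W ∧
      T.presheaf.map (homOfLE hW).op t = T.presheaf.map (homOfLE hW).op t') : t = t' := by
  refine TopCat.Presheaf.section_ext T.sheaf U t t' (fun y hy => ?_)
  obtain ⟨W, hW, hyW, heq⟩ := h y hy
  have e1 := TopCat.Presheaf.germ_res_apply T.presheaf (homOfLE hW) y hyW t
  have e2 := TopCat.Presheaf.germ_res_apply T.presheaf (homOfLE hW) y hyW t'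
  exact e1.symm.trans ((congrArg (fun z => T.presheaf.germ W y hyW z) heq).trans e2)

variable {X Y : Scheme.{u}}

/-- A norm defined on a basis of "good" opens, compatible with restriction between good opens. -/
structure BasisNorm (π : X ⟶ Y) (P : Y.Opens → Prop) where
  norm : ∀ V : Y.Opens, P V → (Γ(X, π ⁻¹ᵁ V) →* Γ(Y, V))
  basis : ∀ (U : Y.Opens) (y : Y), y ∈ U → ∃ V, P V ∧ y ∈ V ∧ V ≤ U
  compat : ∀ (V W : Y.Opens) (hV : P V) (hW : P W) (i : W ⟶ V) (s : Γ(X, π ⁻¹ᵁ V)),
    Y.presheaf.map i.op (norm V hV s) =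
      norm W hW (X.presheaf.map ((Opens.map π.base).map i).op s)

namespace BasisNorm

variable {π : X ⟶ Y} {P : Y.Opens → Prop} (B : BasisNorm π P)

theorem exists_glued (U : Y.Opens) (s : Γ(X, π ⁻¹ᵁ U)) :
    ∃ t : Γ(Y, U), ∀ (V : Y.Opens) (hV : P V) (i : V ⟶ U),
      Y.presheaf.map i.op t = B.norm V hV (X.presheaf.map ((Opens.map π.base).map i).op s) := by
  have hcompat : TopCat.Presheaf.IsCompatible Y.presheaf
      (fun i : {V : Y.Opens // P V ∧ V ≤ U} => i.1)
      (fun i => B.norm i.1 i.2.1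
        (X.presheaf.map ((Opens.map π.base).map (homOfLE i.2.2)).op s)) := by
    intro i j
    beta_reduce
    apply eq_of_locally
    intro y hy
    obtain ⟨W, hW, hyW, hWle⟩ := B.basis (i.1 ⊓ j.1) y hy
    refine ⟨W, hWle, hyW, ?_⟩
    have hWU : W ≤ U := hWle.trans (inf_le_left.trans i.2.2)
    have e1 : Y.presheaf.map (homOfLE hWle).op
        (Y.presheaf.map (Opens.infLELeft i.1 j.1).op (B.norm i.1 i.2.1
          (X.presheaf.map ((Opens.map π.base).map (homOfLE i.2.2)).op s))) =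
        B.norm W hW (X.presheaf.map ((Opens.map π.base).map (homOfLE hWU)).op s) := by
      rw [map_map' _ _ (homOfLE (hWle.trans inf_le_left)),
        B.compat i.1 W i.2.1 hW, map_map' _ _ ((Opens.map π.base).map (homOfLE hWU))]
    have e2 : Y.presheaf.map (homOfLE hWle).op
        (Y.presheaf.map (Opens.infLERight i.1 j.1).op (B.norm j.1 j.2.1
          (X.presheaf.map ((Opens.map π.base).map (homOfLE j.2.2)).op s))) =
        B.norm W hW (X.presheaf.map ((Opens.map π.base).map (homOfLE hWU)).op s) := by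
      rw [map_map' _ _ (homOfLE (hWle.trans inf_le_right)),
        B.compat j.1 W j.2.1 hW, map_map' _ _ ((Opens.map π.base).map (homOfLE hWU))]
    exact e1.trans e2.symm
  obtain ⟨(t : Γ(Y, U)), ht, -⟩ := TopCat.Sheaf.existsUnique_gluing' Y.sheaf
    (fun i : {V : Y.Opens // P V ∧ V ≤ U} => i.1) U (fun i => homOfLE i.2.2)
    (fun y hy => by
      obtain ⟨V, hV, hyV, hVU⟩ := B.basis U y hy
      exact Opens.mem_iSup.2 ⟨⟨V, hV, hVU⟩, hyV⟩)
    (fun i => B.norm i.1 i.2.1
      (X.presheaf.map ((Opens.map π.base).map (homOfLE i.2.2)).op s)) hcompat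
  refine ⟨t, fun V hV i => ?_⟩
  have h1 := ht ⟨V, hV, i.le⟩
  have h2 : i = homOfLE i.le := Subsingleton.elim _ _
  rw [h2]
  exact h1

/-- The glued section. -/
noncomputable def glued (U : Y.Opens) (s : Γ(X, π ⁻¹ᵁ U)) : Γ(Y, U) :=
  (B.exists_glued U s).choose

theorem glued_spec (U : Y.Opens) (s : Γ(X, π ⁻¹ᵁ U)) (V : Y.Opens) (hV : P V) (i : V ⟶ U) :
    Y.presheaf.map i.op (B.glued U s) =
      B.norm V hV (X.presheaf.map ((Opens.map π.base).map i).op s) :=
  (B.exists_glued U s).choose_spec V hV i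

include B in
theorem ext_basis {U : Y.Opens} (t t' : Γ(Y, U))
    (h : ∀ (V : Y.Opens) (_ : P V) (i : V ⟶ U), Y.presheaf.map i.op t = Y.presheaf.map i.op t') :
    t = t' := by
  apply eq_of_locally
  intro y hy
  obtain ⟨V, hV, hyV, hVU⟩ := B.basis U y hy
  exact ⟨V, hVU, hyV, h V hV (homOfLE hVU)⟩

/-- The glued norm as a monoid homomorphism. -/
noncomputable def normHom (U : Y.Opens) : Γ(X, π ⁻¹ᵁ U) →* Γ(Y, U) where
  toFun := B.glued U
  map_one' := by
    apply B.ext_basis
    intro V hV i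
    rw [B.glued_spec U 1 V hV i, map_one, map_one, map_one]
  map_mul' a b := by
    apply B.ext_basis
    intro V hV i
    rw [B.glued_spec U (a * b) V hV i, map_mul, map_mul, map_mul, B.glued_spec U a V hV i,
      B.glued_spec U b V hV i]

theorem normHom_apply (U : Y.Opens) (s : Γ(X, π ⁻¹ᵁ U)) : B.normHom U s = B.glued U s := rfl

theorem normHom_res {U V : Y.Opens} (i : V ⟶ U) (s : Γ(X, π ⁻¹ᵁ U)) :
    Y.presheaf.map i.op (B.normHom U s) =
      B.normHom V (X.presheaf.map ((Opens.map π.base).map i).op s) := by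
  apply B.ext_basis
  intro W hW j
  rw [normHom_apply, normHom_apply, map_map' i j (j ≫ i), B.glued_spec U s W hW (j ≫ i),
    B.glued_spec V _ W hW j, map_map' _ _ ((Opens.map π.base).map (j ≫ i))]

theorem normHom_of_good (V : Y.Opens) (hV : P V) (s : Γ(X, π ⁻¹ᵁ V)) :
    B.normHom V s = B.norm V hV s := by
  apply B.ext_basis
  intro W hW j
  rw [normHom_apply, B.glued_spec V s W hW j, B.compat V W hV hW j s]

theorem normHom_mem
    (hmem : ∀ (V : Y.Opens) (hV : P V) (s : Γ(X, π ⁻¹ᵁ V)) (x : X) (hx : π.base x ∈ V),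
      X.presheaf.germ (π ⁻¹ᵁ V) x hx s ∈ IsLocalRing.maximalIdeal (X.presheaf.stalk x) →
      Y.presheaf.germ V (π.base x) hx (B.norm V hV s) ∈
        IsLocalRing.maximalIdeal (Y.presheaf.stalk (π.base x)))
    (U : Y.Opens) (s : Γ(X, π ⁻¹ᵁ U)) (x : X) (hx : π.base x ∈ U)
    (hs : X.presheaf.germ (π ⁻¹ᵁ U) x hx s ∈ IsLocalRing.maximalIdeal (X.presheaf.stalk x)) :
    Y.presheaf.germ U (π.base x) hx (B.normHom U s) ∈
      IsLocalRing.maximalIdeal (Y.presheaf.stalk (π.base x)) := by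
  obtain ⟨V, hV, hyV, hVU⟩ := B.basis U (π.base x) hx
  have e1 := TopCat.Presheaf.germ_res_apply Y.presheaf (homOfLE hVU) (π.base x) hyV
    (B.normHom U s)
  rw [← e1, normHom_apply, B.glued_spec U s V hV (homOfLE hVU)]
  apply hmem V hV _ x hyV
  have e2 := TopCat.Presheaf.germ_res_apply X.presheaf
    ((Opens.map π.base).map (homOfLE hVU)) x hyV s
  rw [e2]
  exact hs

theorem normHom_app (d : ℕ)
    (happ : ∀ (V : Y.Opens) (hV : P V) (g : Γ(Y, V)), B.norm V hV (π.app V g) = g ^ d)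
    (U : Y.Opens) (g : Γ(Y, U)) : B.normHom U (π.app U g) = g ^ d := by
  apply B.ext_basis
  intro V hV i
  rw [normHom_apply, B.glued_spec U _ V hV i, map_pow, ← happ V hV]
  congr 1
  have h1 := π.naturality i.op
  have h2 := congrArg (fun f => f.hom g) h1
  simp only [CommRingCat.hom_comp, RingHom.comp_apply] at h2
  exact h2.symm

/-- The resulting norm of degree `d`. -/
theorem hasNorm (d : ℕ) (hd : 1 ≤ d)
    (happ : ∀ (V : Y.Opens) (hV : P V) (g : Γ(Y, V)), B.norm V hV (π.app V g) = g ^ d)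
    (hmem : ∀ (V : Y.Opens) (hV : P V) (s : Γ(X, π ⁻¹ᵁ V)) (x : X) (hx : π.base x ∈ V),
      X.presheaf.germ (π ⁻¹ᵁ V) x hx s ∈ IsLocalRing.maximalIdeal (X.presheaf.stalk x) →
      Y.presheaf.germ V (π.base x) hx (B.norm V hV s) ∈
        IsLocalRing.maximalIdeal (Y.presheaf.stalk (π.base x))) :
    Nrm.HasNorm π d :=
  ⟨{ one_le := hd
     norm := B.normHom
     norm_res := fun i s => B.normHom_res i s
     norm_app := B.normHom_app d happ
     norm_mem := B.normHom_mem hmem }⟩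

end BasisNorm

/-- A norm without degree. -/
structure WeakNorm (π : X ⟶ Y) where
  norm : ∀ U : Y.Opens, Γ(X, π ⁻¹ᵁ U) →* Γ(Y, U)
  norm_res : ∀ {U V : Y.Opens} (i : V ⟶ U) (s : Γ(X, π ⁻¹ᵁ U)),
    Y.presheaf.map i.op (norm U s) = norm V (X.presheaf.map ((Opens.map π.base).map i).op s)
  norm_mem : ∀ (U : Y.Opens) (s : Γ(X, π ⁻¹ᵁ U)) (x : X) (hx : π.base x ∈ U),
    X.presheaf.germ (π ⁻¹ᵁ U) x hx s ∈ IsLocalRing.maximalIdeal (X.presheaf.stalk x) →
      Y.presheaf.germ U (π.base x) hx (norm U s) ∈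
        IsLocalRing.maximalIdeal (Y.presheaf.stalk (π.base x))

/-- A norm of some degree gives a weak norm. -/
def WeakNorm.ofNorm {π : X ⟶ Y} {d : ℕ} (N : Nrm.NormOfDegree π d) : WeakNorm π where
  norm := N.norm
  norm_res := N.norm_res
  norm_mem := N.norm_mem

/-- A basis norm with the vanishing property gives a weak norm. -/
noncomputable def BasisNorm.toWeakNorm {π : X ⟶ Y} {P : Y.Opens → Prop} (B : BasisNorm π P)
    (hmem : ∀ (V : Y.Opens) (hV : P V) (s : Γ(X, π ⁻¹ᵁ V)) (x : X) (hx : π.base x ∈ V),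
      X.presheaf.germ (π ⁻¹ᵁ V) x hx s ∈ IsLocalRing.maximalIdeal (X.presheaf.stalk x) →
      Y.presheaf.germ V (π.base x) hx (B.norm V hV s) ∈
        IsLocalRing.maximalIdeal (Y.presheaf.stalk (π.base x))) : WeakNorm π where
  norm := B.normHom
  norm_res := fun i s => B.normHom_res i s
  norm_mem := B.normHom_mem hmem

/-- If `π` is finite surjective with a weak norm and `X` is quasi-affine, so is `Y`. -/
theorem isQuasiAffine_of_weakNorm (π : X ⟶ Y) [IsFinite π] (hsurj : Function.Surjective π)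
    (N : WeakNorm π) [X.IsQuasiAffine] : Y.IsQuasiAffine := by
  haveI : CompactSpace Y := Function.Surjective.compactSpace π.continuous hsurj
  refine Scheme.IsQuasiAffine.of_forall_exists_mem_basicOpen Y fun y => ?_
  obtain ⟨_, ⟨W, hW, rfl⟩, hyW, -⟩ :=
    Y.isBasis_affineOpens.exists_subset_of_mem_open (Set.mem_univ y) isOpen_univ
  have hfin : (π ⁻¹' {y}).Finite := π.finite_preimage_singleton y
  obtain ⟨b, hFb, hbO⟩ := Groth.Agent.S8880.exists_basicOpen_of_finite X hfin (π ⁻¹ᵁ W)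
    (fun x hx => by
      have : π x = y := hx
      show π x ∈ W
      rw [this]; exact hyW)
  have main : ∀ b' : Γ(X, π ⁻¹ᵁ ⊤), (∀ x, π x = y → x ∈ X.basicOpen b') →
      X.basicOpen b' ≤ π ⁻¹ᵁ W →
      ∃ r : Γ(Y, ⊤), IsAffineOpen (Y.basicOpen r) ∧ y ∈ Y.basicOpen r := by
    intro b' hFb hbO
    have h5 : ∀ x : X, π x ∈ Y.basicOpen (N.norm ⊤ b') → x ∈ X.basicOpen b' := by
      intro x hx
      by_contra hnx
      have hgerm : X.presheaf.germ (π ⁻¹ᵁ ⊤) x (show π.base x ∈ (⊤ : Y.Opens) from trivial) b' ∈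
          IsLocalRing.maximalIdeal (X.presheaf.stalk x) := by
        rw [IsLocalRing.mem_maximalIdeal, mem_nonunits_iff]
        intro hu
        exact hnx ((X.mem_basicOpen b' x _).mpr hu)
      have := N.norm_mem ⊤ b' x trivial hgerm
      rw [IsLocalRing.mem_maximalIdeal, mem_nonunits_iff] at this
      exact this ((Y.mem_basicOpen_top _ (π x)).mp hx)
    have h4 : y ∈ Y.basicOpen (N.norm ⊤ b') := by
      have hclC : IsClosed (π '' ((X.basicOpen b' : Set X)ᶜ)) :=
        π.isClosedMap _ (X.basicOpen b').isOpen.isClosed_compl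
      let V : Y.Opens := ⟨(π '' ((X.basicOpen b' : Set X)ᶜ))ᶜ, hclC.isOpen_compl⟩
      have hyV : y ∈ V := by
        rintro ⟨x, hx, hxy⟩
        exact hx (hFb x hxy)
      have hVb : ∀ x : X, x ∈ π ⁻¹ᵁ V → x ∈ X.basicOpen b' := by
        intro x hx
        by_contra hnx
        exact hx ⟨x, hnx, rfl⟩
      have hres := N.norm_res (homOfLE (le_top : V ≤ ⊤)) b'
      have hunit : IsUnit (X.presheaf.map
          ((Opens.map π.base).map (homOfLE (le_top : V ≤ ⊤))).op b') := by
        refine X.toRingedSpace.isUnit_of_isUnit_germ _ _ fun x hx => ?_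
        have hgr := X.presheaf.germ_res_apply
          ((Opens.map π.base).map (homOfLE (le_top : V ≤ ⊤))) x hx b'
        have hu := (X.mem_basicOpen b' x trivial).mp (hVb x hx)
        rw [← hgr] at hu
        exact hu
      have hunit2 : IsUnit (Y.presheaf.map (homOfLE (le_top : V ≤ ⊤)).op (N.norm ⊤ b')) := by
        rw [hres]; exact hunit.map (N.norm V)
      rw [Y.mem_basicOpen_top _ y]
      have hgr := Y.presheaf.germ_res_apply (homOfLE (le_top : V ≤ ⊤)) y hyV (N.norm ⊤ b')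
      rw [← hgr]
      exact hunit2.map (Y.presheaf.germ V y hyV).hom
    have hle : Y.basicOpen (N.norm ⊤ b') ≤ W := by
      intro y' hy'
      obtain ⟨x, rfl⟩ := hsurj y'
      exact hbO (h5 x hy')
    refine ⟨N.norm ⊤ b', ?_, h4⟩
    have := hW.basicOpen (Y.presheaf.map (homOfLE (le_top : W ≤ ⊤)).op (N.norm ⊤ b'))
    rwa [Y.basicOpen_res, inf_eq_right.mpr hle] at this
  exact main b (fun x hx => hFb x hx) hbO

end Groth.Agent.H54.NormGlue
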