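import Mathlib
import Groth.Prelude.Def_Fitting
import Groth.Agent.H54.NormGlue

/-!
# helper54: the determinant norm of a finite locally free morphism

For `π : X ⟶ Y` finite, flat and locally of finite presentation, the opens `V` of `Y` that are
affine with `Γ(X, π⁻¹V)` free over `Γ(Y, V)` form a basis; on them the norm is the determinant of
multiplication, and these glue (`NormGlue.BasisNorm`).
-/

set_option autoImplicit false
universe u
open CategoryTheory AlgebraicGeometry TopologicalSpace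

namespace Groth.Agent.H54.DetNorm

/-! ### ring level -/

section Ring

/-- Cayley–Hamilton: an element divides its norm. -/
theorem dvd_algebraMap_norm {A B : Type*} [CommRing A] [CommRing B] [Algebra A B]
    [Module.Free A B] [Module.Finite A B] (s : B) : s ∣ algebraMap A B (Algebra.norm A s) := by
  obtain ⟨f, hf⟩ : ∃ f : B →ₗ[A] B, f = Algebra.lmul A B s := ⟨_, rfl⟩
  have h0 : Polynomial.aeval s f.charpoly = 0 := by
    have h1 : Polynomial.aeval f f.charpoly = 0 := LinearMap.aeval_self_charpoly f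
    have h2 : Polynomial.aeval (Algebra.lmul A B s) f.charpoly =
        Algebra.lmul A B (Polynomial.aeval s f.charpoly) :=
      Polynomial.aeval_algHom_apply (Algebra.lmul A B) s f.charpoly
    have h3 : Algebra.lmul A B (Polynomial.aeval s f.charpoly) = 0 := by
      rw [← h2, ← hf]; exact h1
    have h4 : Algebra.lmul A B (Polynomial.aeval s f.charpoly) 1 = 0 := by rw [h3]; rfl
    have h4' : Polynomial.aeval s f.charpoly * 1 = 0 := h4
    rwa [mul_one] at h4'
  have h0' : Polynomial.aeval s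
      (f.charpoly.divX * Polynomial.X + Polynomial.C (f.charpoly.coeff 0)) = 0 := by
    rw [Polynomial.divX_mul_X_add]; exact h0
  simp only [map_add, map_mul, Polynomial.aeval_X, Polynomial.aeval_C] at h0'
  have h6 : Algebra.norm A s = (-1) ^ Module.finrank A B * f.charpoly.coeff 0 := by
    rw [Algebra.norm_apply, ← hf]; exact LinearMap.det_eq_sign_charpoly_coeff f
  refine ⟨(-1) ^ Module.finrank A B * -(Polynomial.aeval s f.charpoly.divX), ?_⟩
  rw [h6, map_mul, map_pow, map_neg, map_one]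
  linear_combination ((-1) ^ Module.finrank A B) * h0'

/-- Localising a finite free algebra at one element: freeness and compatibility of norms. -/
theorem norm_loc {R S Rₘ Sₘ : Type*} [CommRing R] [CommRing S] [CommRing Rₘ] [CommRing Sₘ]
    [Algebra R S] [Algebra Rₘ Sₘ] (φ : R →+* Rₘ) (ψ : S →+* Sₘ)
    (hcomm : ψ.comp (algebraMap R S) = (algebraMap Rₘ Sₘ).comp φ) (g : R)
    (h1 : @IsLocalization.Away R _ g Rₘ _ φ.toAlgebra)
    (h2 : @IsLocalization.Away S _ (algebraMap R S g) Sₘ _ ψ.toAlgebra)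
    [Module.Free R S] [Module.Finite R S] :
    Module.Free Rₘ Sₘ ∧ ∀ a : S, φ (Algebra.norm R a) = Algebra.norm Rₘ (ψ a) := by
  letI : Algebra R Rₘ := φ.toAlgebra
  letI : Algebra S Sₘ := ψ.toAlgebra
  letI : Algebra R Sₘ := (ψ.comp (algebraMap R S)).toAlgebra
  haveI : IsScalarTower R S Sₘ := IsScalarTower.of_algebraMap_eq (fun x => rfl)
  haveI : IsScalarTower R Rₘ Sₘ := IsScalarTower.of_algebraMap_eq (fun x => by
    show (ψ.comp (algebraMap R S)) x = (algebraMap Rₘ Sₘ) (φ x)
    rw [hcomm]; rfl)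
  haveI : IsLocalization (Submonoid.powers g) Rₘ := h1
  haveI : IsLocalization (Algebra.algebraMapSubmonoid S (Submonoid.powers g)) Sₘ := by
    have e : Algebra.algebraMapSubmonoid S (Submonoid.powers g) =
        Submonoid.powers (algebraMap R S g) := by
      simp [Algebra.algebraMapSubmonoid, Submonoid.map_powers]
    rw [e]; exact h2
  constructor
  · exact Module.free_of_isLocalizedModule (Submonoid.powers g)
      (IsScalarTower.toAlgHom R S Sₘ).toLinearMap
  · intro a
    exact (Algebra.norm_localization R (Submonoid.powers g) a).symm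

/-- Transport of freeness from the abstract localisation to a concrete one. -/
theorem free_transport {R S Rₘ Sₘ : Type*} [CommRing R] [CommRing S] [CommRing Rₘ]
    [CommRing Sₘ] [Algebra R S] [Algebra Rₘ Sₘ] (φ : R →+* Rₘ) (ψ : S →+* Sₘ)
    (hcomm : ψ.comp (algebraMap R S) = (algebraMap Rₘ Sₘ).comp φ) (g : R)
    (h1 : @IsLocalization.Away R _ g Rₘ _ φ.toAlgebra)
    (h2 : @IsLocalization.Away S _ (algebraMap R S g) Sₘ _ ψ.toAlgebra)
    [Module.Free (Localization (Submonoid.powers g)) (LocalizedModule (Submonoid.powers g) S)] :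
    Module.Free Rₘ Sₘ := by
  letI : Algebra R Rₘ := φ.toAlgebra
  letI : Algebra S Sₘ := ψ.toAlgebra
  letI : Algebra R Sₘ := (ψ.comp (algebraMap R S)).toAlgebra
  haveI : IsScalarTower R S Sₘ := IsScalarTower.of_algebraMap_eq (fun x => rfl)
  haveI : IsScalarTower R Rₘ Sₘ := IsScalarTower.of_algebraMap_eq (fun x => by
    show (ψ.comp (algebraMap R S)) x = (algebraMap Rₘ Sₘ) (φ x)
    rw [hcomm]; rfl)
  haveI : IsLocalization (Submonoid.powers g) Rₘ := h1
  haveI : IsLocalization (Algebra.algebraMapSubmonoid S (Submonoid.powers g)) Sₘ := by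
    have e : Algebra.algebraMapSubmonoid S (Submonoid.powers g) =
        Submonoid.powers (algebraMap R S g) := by
      simp [Algebra.algebraMapSubmonoid, Submonoid.map_powers]
    rw [e]; exact h2
  let f : S →ₗ[R] Sₘ := (IsScalarTower.toAlgHom R S Sₘ).toLinearMap
  haveI : IsLocalizedModule (Submonoid.powers g) f := inferInstance
  let e : LocalizedModule (Submonoid.powers g) S ≃ₗ[R] Sₘ :=
    IsLocalizedModule.iso (Submonoid.powers g) f
  let τ : Localization (Submonoid.powers g) ≃ₐ[R] Rₘ :=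
    IsLocalization.algEquiv (Submonoid.powers g) _ _
  let σ : Localization (Submonoid.powers g) →+* Rₘ := (τ.toRingEquiv : _ →+* _)
  let σ' : Rₘ →+* Localization (Submonoid.powers g) := (τ.toRingEquiv.symm : _ →+* _)
  haveI : RingHomInvPair σ σ' := RingHomInvPair.of_ringEquiv τ.toRingEquiv
  haveI : RingHomInvPair σ' σ := RingHomInvPair.of_ringEquiv_symm τ.toRingEquiv
  have hsmul : ∀ (l : Localization (Submonoid.powers g))
      (m : LocalizedModule (Submonoid.powers g) S), e (l • m) = σ l • e m := by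
    intro l m
    obtain ⟨a, s, rfl⟩ := IsLocalization.exists_mk'_eq (Submonoid.powers g) l
    have hs := IsLocalization.mk'_spec' (Localization (Submonoid.powers g)) a s
    have hu : IsUnit (algebraMap R Rₘ (s : R)) := IsLocalization.map_units Rₘ s
    have e1 : algebraMap R Rₘ (s : R) •
        e (IsLocalization.mk' (Localization (Submonoid.powers g)) a s • m) = a • e m := by
      rw [algebraMap_smul, ← e.map_smul, ← smul_assoc, Algebra.smul_def, hs, algebraMap_smul,
        e.map_smul]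
    have e2 : algebraMap R Rₘ (s : R) •
        (σ (IsLocalization.mk' (Localization (Submonoid.powers g)) a s) • e m) = a • e m := by
      rw [← mul_smul, ← τ.commutes (s : R)]
      show (τ (algebraMap R _ (s : R)) * τ _) • e m = _
      rw [← map_mul, hs, τ.commutes, algebraMap_smul]
    exact hu.smul_left_cancel.mp (e1.trans e2.symm)
  let e₂ : LocalizedModule (Submonoid.powers g) S ≃ₛₗ[σ] Sₘ :=
    { toFun := e
      map_add' := e.map_add
      map_smul' := hsmul
      invFun := e.symm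
      left_inv := e.left_inv
      right_inv := e.right_inv }
  exact Module.Free.of_equiv e₂

end Ring

/-! ### scheme level -/

variable {X Y : Scheme.{u}} (π : X ⟶ Y)

/-- Sections of `X` over `π⁻¹V` as an algebra over sections of `Y` over `V`. -/
@[reducible] def secAlg (V : Y.Opens) : Algebra Γ(Y, V) Γ(X, π ⁻¹ᵁ V) :=
  (π.app V).hom.toAlgebra

/-- Good opens: affine, with free algebra of sections. -/
def Good (V : Y.Opens) : Prop :=
  IsAffineOpen V ∧ (letI := secAlg π V; Module.Free Γ(Y, V) Γ(X, π ⁻¹ᵁ V))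

/-- The determinant norm on sections over `V`. -/
noncomputable def detNorm (V : Y.Opens) : Γ(X, π ⁻¹ᵁ V) →* Γ(Y, V) :=
  letI := secAlg π V
  Algebra.norm Γ(Y, V)

theorem hcomm {V W : Y.Opens} (i : W ⟶ V) :
    (X.presheaf.map ((Opens.map π.base).map i).op).hom.comp (π.app V).hom =
      (π.app W).hom.comp (Y.presheaf.map i.op).hom := by
  refine RingHom.ext fun a => ?_
  have h1 := π.naturality i.op
  have h2 := congrArg (fun f => f.hom a) h1
  simp only [CommRingCat.hom_comp, RingHom.comp_apply] at h2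
  exact h2.symm

theorem away_Y {V : Y.Opens} (hV : IsAffineOpen V) (g : Γ(Y, V)) :
    @IsLocalization.Away _ _ g Γ(Y, Y.basicOpen g) _
      (Y.presheaf.map (homOfLE (Y.basicOpen_le g)).op).hom.toAlgebra :=
  hV.isLocalization_of_eq_basicOpen g (homOfLE (Y.basicOpen_le g)) rfl

theorem away_X [IsAffineHom π] {V : Y.Opens} (hV : IsAffineOpen V) (g : Γ(Y, V)) :
    @IsLocalization.Away _ _ ((π.app V).hom g) Γ(X, π ⁻¹ᵁ (Y.basicOpen g)) _
      (X.presheaf.map ((Opens.map π.base).map (homOfLE (Y.basicOpen_le g))).op).hom.toAlgebra :=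
  (hV.preimage π).isLocalization_of_eq_basicOpen _ _ (Scheme.preimage_basicOpen π g)

theorem good_basicOpen [IsFinite π] {V : Y.Opens} (hV : Good π V) (g : Γ(Y, V)) :
    Good π (Y.basicOpen g) := by
  letI := secAlg π V
  letI := secAlg π (Y.basicOpen g)
  haveI : Module.Free Γ(Y, V) Γ(X, π ⁻¹ᵁ V) := hV.2
  haveI : Module.Finite Γ(Y, V) Γ(X, π ⁻¹ᵁ V) := π.finite_app V hV.1
  exact ⟨hV.1.basicOpen g, (norm_loc _ _ (hcomm π (homOfLE (Y.basicOpen_le g))) g
    (away_Y hV.1 g) (away_X π hV.1 g)).1⟩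

theorem compat_basicOpen [IsFinite π] {V : Y.Opens} (hV : Good π V) (g : Γ(Y, V))
    (s : Γ(X, π ⁻¹ᵁ V)) :
    Y.presheaf.map (homOfLE (Y.basicOpen_le g)).op (detNorm π V s) =
      detNorm π (Y.basicOpen g)
        (X.presheaf.map ((Opens.map π.base).map (homOfLE (Y.basicOpen_le g))).op s) := by
  letI := secAlg π V
  letI := secAlg π (Y.basicOpen g)
  haveI : Module.Free Γ(Y, V) Γ(X, π ⁻¹ᵁ V) := hV.2
  haveI : Module.Finite Γ(Y, V) Γ(X, π ⁻¹ᵁ V) := π.finite_app V hV.1
  exact (norm_loc _ _ (hcomm π (homOfLE (Y.basicOpen_le g))) g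
    (away_Y hV.1 g) (away_X π hV.1 g)).2 s

theorem compat_of_eq {V D₁ D₂ : Y.Opens} (e : D₁ = D₂) (i₁ : D₁ ⟶ V) (i₂ : D₂ ⟶ V)
    (s : Γ(X, π ⁻¹ᵁ V))
    (h : Y.presheaf.map i₁.op (detNorm π V s) =
      detNorm π D₁ (X.presheaf.map ((Opens.map π.base).map i₁).op s)) :
    Y.presheaf.map i₂.op (detNorm π V s) =
      detNorm π D₂ (X.presheaf.map ((Opens.map π.base).map i₂).op s) := by
  subst e
  have : i₁ = i₂ := Subsingleton.elim _ _
  subst this
  exact h

theorem compat [IsFinite π] {V W : Y.Opens} (hV : Good π V) (hW : Good π W) (i : W ⟶ V)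
    (s : Γ(X, π ⁻¹ᵁ V)) :
    Y.presheaf.map i.op (detNorm π V s) =
      detNorm π W (X.presheaf.map ((Opens.map π.base).map i).op s) := by
  apply NormGlue.eq_of_locally
  intro y hy
  obtain ⟨f, g, hfg, hyf⟩ := exists_basicOpen_le_affine_inter hV.1 hW.1 y ⟨i.le hy, hy⟩
  have hle : Y.basicOpen g ≤ W := Y.basicOpen_le g
  refine ⟨Y.basicOpen g, hle, by rw [← hfg]; exact hyf, ?_⟩
  have e1 : Y.presheaf.map (homOfLE hle).op (Y.presheaf.map i.op (detNorm π V s)) =
      Y.presheaf.map (homOfLE (hle.trans i.le)).op (detNorm π V s) :=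
    NormGlue.map_map' i (homOfLE hle) _ _
  have e2 : X.presheaf.map ((Opens.map π.base).map (homOfLE hle)).op
      (X.presheaf.map ((Opens.map π.base).map i).op s) =
      X.presheaf.map ((Opens.map π.base).map (homOfLE (hle.trans i.le))).op s :=
    NormGlue.map_map' _ _ _ _
  have e3 := compat_basicOpen π hW g (X.presheaf.map ((Opens.map π.base).map i).op s)
  have e4 := compat_of_eq π hfg (homOfLE (Y.basicOpen_le f)) (homOfLE (hle.trans i.le)) s
    (compat_basicOpen π hV f s)
  exact e1.trans (e4.trans ((congrArg (detNorm π (Y.basicOpen g)) e2.symm).trans e3.symm))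

theorem exists_good [IsFinite π] [Flat π] [LocallyOfFinitePresentation π] (U : Y.Opens) (y : Y)
    (hy : y ∈ U) : ∃ V, Good π V ∧ y ∈ V ∧ V ≤ U := by
  obtain ⟨_, ⟨V₀, hV₀, rfl⟩, hyV₀, hV₀U⟩ :=
    Y.isBasis_affineOpens.exists_subset_of_mem_open hy U.2
  have hV₀U' : V₀ ≤ U := hV₀U
  have hU₀ : IsAffineOpen (π ⁻¹ᵁ V₀) := hV₀.preimage π
  letI := secAlg π V₀
  haveI : Module.Finite Γ(Y, V₀) Γ(X, π ⁻¹ᵁ V₀) := π.finite_app V₀ hV₀
  haveI : Module.Flat Γ(Y, V₀) Γ(X, π ⁻¹ᵁ V₀) := by
    have h := π.flat_appLE hV₀ hU₀ le_rfl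
    rw [Scheme.Hom.appLE_eq_app] at h
    exact h
  haveI : Algebra.FinitePresentation Γ(Y, V₀) Γ(X, π ⁻¹ᵁ V₀) := by
    have h := π.finitePresentation_appLE hV₀ hU₀ le_rfl
    rw [Scheme.Hom.appLE_eq_app] at h
    exact h
  haveI : Module.FinitePresentation Γ(Y, V₀) Γ(X, π ⁻¹ᵁ V₀) :=
    Module.FinitePresentation.of_finite_of_finitePresentation _ _
  obtain ⟨p, hp⟩ : ∃ p : Ideal Γ(Y, V₀), p =
      (IsLocalRing.maximalIdeal (Y.presheaf.stalk y)).comap (Y.presheaf.germ V₀ y hyV₀).hom :=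
    ⟨_, rfl⟩
  haveI : p.IsPrime := by rw [hp]; infer_instance
  haveI : Module.Free (Localization.AtPrime p) (LocalizedModule p.primeCompl Γ(X, π ⁻¹ᵁ V₀)) :=
    Module.free_of_flat_of_isLocalRing
  obtain ⟨r, hr, hfree, -⟩ := Module.FinitePresentation.exists_free_localizedModule_powers
    p.primeCompl (LocalizedModule.mkLinearMap p.primeCompl Γ(X, π ⁻¹ᵁ V₀))
    (Localization.AtPrime p)
  refine ⟨Y.basicOpen r, ⟨hV₀.basicOpen r, ?_⟩, ?_, (Y.basicOpen_le r).trans hV₀U'⟩
  · letI := secAlg π (Y.basicOpen r)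
    haveI := hfree
    exact free_transport _ _ (hcomm π (homOfLE (Y.basicOpen_le r))) r (away_Y hV₀ r)
      (away_X π hV₀ r)
  · rw [Scheme.mem_basicOpen Y r y hyV₀]
    have h : r ∉ p := hr
    rw [hp, Ideal.mem_comap, IsLocalRing.mem_maximalIdeal, mem_nonunits_iff, not_not] at h
    exact h

theorem detNorm_mem [IsFinite π] (V : Y.Opens) (hV : Good π V) (s : Γ(X, π ⁻¹ᵁ V)) (x : X)
    (hx : π.base x ∈ V)
    (hs : X.presheaf.germ (π ⁻¹ᵁ V) x hx s ∈ IsLocalRing.maximalIdeal (X.presheaf.stalk x)) :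
    Y.presheaf.germ V (π.base x) hx (detNorm π V s) ∈
      IsLocalRing.maximalIdeal (Y.presheaf.stalk (π.base x)) := by
  letI := secAlg π V
  haveI : Module.Free Γ(Y, V) Γ(X, π ⁻¹ᵁ V) := hV.2
  haveI : Module.Finite Γ(Y, V) Γ(X, π ⁻¹ᵁ V) := π.finite_app V hV.1
  by_contra hcon
  have hu : IsUnit (Y.presheaf.germ V (π.base x) hx (detNorm π V s)) := by
    rwa [IsLocalRing.mem_maximalIdeal, mem_nonunits_iff, not_not] at hcon
  have hu2 : IsUnit ((π.stalkMap x).hom (Y.presheaf.germ V (π.base x) hx (detNorm π V s))) :=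
    hu.map _
  have e1 : (π.stalkMap x).hom (Y.presheaf.germ V (π.base x) hx (detNorm π V s)) =
      X.presheaf.germ (π ⁻¹ᵁ V) x hx (π.app V (detNorm π V s)) :=
    π.germ_stalkMap_apply V x hx _
  rw [e1] at hu2
  obtain ⟨c, hc⟩ := dvd_algebraMap_norm (A := Γ(Y, V)) s
  have hc' : π.app V (detNorm π V s) = s * c := hc
  rw [hc', map_mul] at hu2
  have hu3 : IsUnit (X.presheaf.germ (π ⁻¹ᵁ V) x hx s) := isUnit_of_mul_isUnit_left hu2
  exact (IsLocalRing.mem_maximalIdeal _).mp hs hu3

/-- The determinant norms as a basis norm. -/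
noncomputable def basisNorm [IsFinite π] [Flat π] [LocallyOfFinitePresentation π] :
    NormGlue.BasisNorm π (Good π) where
  norm := fun V _ => detNorm π V
  basis := exists_good π
  compat := fun _ _ hV hW i s => compat π hV hW i s

/-- A finite locally free morphism carries a weak norm. -/
noncomputable def weakNorm [IsFinite π] [Flat π] [LocallyOfFinitePresentation π] :
    NormGlue.WeakNorm π :=
  (basisNorm π).toWeakNorm (fun V hV s x hx hs => detNorm_mem π V hV s x hx hs)

/-- The rank of a free algebra of sections is the rank of the morphism. -/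
theorem finrank_eq [IsFinite π] [Flat π] {V : Y.Opens} (hV : IsAffineOpen V)
    (hfree : letI := secAlg π V; Module.Free Γ(Y, V) Γ(X, π ⁻¹ᵁ V))
    (p : Spec Γ(Y, V)) :
    (letI := secAlg π V; Module.finrank Γ(Y, V) Γ(X, π ⁻¹ᵁ V)) = π.finrank (hV.fromSpec p) := by
  letI := secAlg π V
  haveI : Module.Free Γ(Y, V) Γ(X, π ⁻¹ᵁ V) := hfree
  have hU : IsAffineOpen (π ⁻¹ᵁ V) := hV.preimage π
  have hfin : (π.app V).hom.Finite := π.finite_app V hV
  have hflat : (π.app V).hom.Flat := by
    have h := π.flat_appLE hV hU le_rfl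
    rw [Scheme.Hom.appLE_eq_app] at h
    exact h
  have hpb : IsPullback (Spec.map (π.app V)) hU.fromSpec hV.fromSpec π := by
    apply IsOpenImmersion.isPullback
    · have h := IsAffineOpen.SpecMap_appLE_fromSpec π hV hU le_rfl
      rw [Scheme.Hom.appLE_eq_app] at h
      exact h.symm
    · rw [hV.opensRange_fromSpec, hU.opensRange_fromSpec]
  have h1 := Scheme.Hom.finrank_of_isPullback _ _ _ _ hpb.flip p
  rw [← h1, Scheme.Hom.finrank_SpecMap_eq_finrank hfin hflat]
  show _ = Module.rankAtStalk (R := Γ(Y, V)) Γ(X, π ⁻¹ᵁ V) p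
  rw [Module.rankAtStalk_eq_finrank_of_free]
  rfl

theorem detNorm_app [IsFinite π] [Flat π] (d : ℕ) (hdeg : ∀ y : Y, π.finrank y = d)
    (V : Y.Opens) (hV : Good π V) (g : Γ(Y, V)) : detNorm π V (π.app V g) = g ^ d := by
  letI := secAlg π V
  haveI : Module.Free Γ(Y, V) Γ(X, π ⁻¹ᵁ V) := hV.2
  nontriviality Γ(Y, V)
  obtain ⟨p⟩ : Nonempty (PrimeSpectrum Γ(Y, V)) := inferInstance
  have h1 := finrank_eq π hV.1 hV.2 p
  rw [hdeg] at h1
  show Algebra.norm Γ(Y, V) (algebraMap Γ(Y, V) Γ(X, π ⁻¹ᵁ V) g) = g ^ d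
  rw [Algebra.norm_algebraMap, h1]

/-- A finite locally free morphism of constant rank `d ≥ 1` carries a norm of degree `d`. -/
theorem hasNorm [IsFinite π] [Flat π] [LocallyOfFinitePresentation π] (d : ℕ) (hd : 1 ≤ d)
    (hdeg : ∀ y : Y, π.finrank y = d) : Nrm.HasNorm π d :=
  (basisNorm π).hasNorm d hd (fun V hV g => detNorm_app π d hdeg V hV g)
    (fun V hV s x hx hs => detNorm_mem π V hV s x hx hs)

end Groth.Agent.H54.DetNorm
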