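import Mathlib

/-!
# van der Waerden purity, local algebra form

If `A ⊆ B` is a birational local extension of Noetherian domains, `A` factorial, `A ≠ B`, then some
height-one prime of `B` contracts to a prime of height at least two of `A`.
-/

set_option autoImplicit false
universe u

namespace Groth.Agent.H54

theorem exists_height_one_prime_comap_two_le {A B : Type u} [CommRing A] [CommRing B]
    [IsDomain A] [IsDomain B] [UniqueFactorizationMonoid A] [IsNoetherianRing A]
    [IsNoetherianRing B] (φ : A →+* B) (hinj : Function.Injective φ)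
    (hloc : ∀ a : A, IsUnit (φ a) → IsUnit a)
    (hfrac : ∀ t : B, ∃ a b : A, b ≠ 0 ∧ φ b * t = φ a)
    (hns : ¬ Function.Surjective φ) :
    ∃ P : Ideal B, P.IsPrime ∧ P.height = 1 ∧ 2 ≤ (P.comap φ).height := by
  classical
  rw [Function.Surjective] at hns
  push Not at hns
  obtain ⟨t, ht⟩ := hns
  obtain ⟨a₀, b₀, hb₀, h₀⟩ := hfrac t
  obtain ⟨a, b, c, hrel, hca, hcb⟩ := UniqueFactorizationMonoid.exists_reduced_factors' a₀ b₀ hb₀
  have hc : c ≠ 0 := by
    rintro rfl
    rw [zero_mul] at hcb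
    exact hb₀ hcb.symm
  have hb : b ≠ 0 := by
    rintro rfl
    rw [mul_zero] at hcb
    exact hb₀ hcb.symm
  have hφc : φ c ≠ 0 := fun h => hc (hinj (h.trans (map_zero φ).symm))
  have hφb : φ b ≠ 0 := fun h => hb (hinj (h.trans (map_zero φ).symm))
  have hab : φ b * t = φ a := by
    apply mul_left_cancel₀ hφc
    rw [← mul_assoc, ← map_mul, ← map_mul, hcb, hca]
    exact h₀
  have hbu : ¬ IsUnit b := by
    intro hu
    obtain ⟨u, rfl⟩ := hu
    apply ht (↑u⁻¹ * a)
    have h1 : φ (↑u) * (φ (↑u⁻¹ * a)) = φ ↑u * t := by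
      rw [← map_mul, ← mul_assoc, Units.mul_inv, one_mul, hab]
    exact mul_left_cancel₀ hφb h1
  have hφbu : ¬ IsUnit (φ b) := fun h => hbu (hloc b h)
  have hne : Ideal.span {φ b} ≠ ⊤ := by
    rw [Ne, Ideal.span_singleton_eq_top]
    exact hφbu
  obtain ⟨⟨P, hP⟩⟩ := Ideal.nonempty_minimalPrimes hne
  haveI hPprime : P.IsPrime := hP.1.1
  have hbP : φ b ∈ P := hP.1.2 (Ideal.mem_span_singleton_self _)
  have haP : φ a ∈ P := by rw [← hab]; exact P.mul_mem_right _ hbP
  haveI : (Ideal.span {φ b}).IsPrincipal := ⟨⟨φ b, rfl⟩⟩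
  have hPle : P.height ≤ 1 :=
    Ideal.height_le_one_of_isPrincipal_of_mem_minimalPrimes (Ideal.span {φ b}) P hP
  have hPbot : (⊥ : Ideal B) < P := by
    rw [bot_lt_iff_ne_bot]
    intro h
    rw [h] at hbP
    exact hφb (Ideal.mem_bot.mp hbP)
  have hPge : 1 ≤ P.height := by
    haveI : (⊥ : Ideal B).IsPrime := Ideal.isPrime_bot
    have h1 : (⊥ : Ideal B).height < P.height := Ideal.height_strict_mono_of_isPrime hPbot
    exact le_trans le_add_self (Order.add_one_le_of_lt h1)
  refine ⟨P, hPprime, le_antisymm hPle hPge, ?_⟩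
  haveI hpprime : (P.comap φ).IsPrime := Ideal.comap_isPrime φ P
  have hbp : b ∈ P.comap φ := hbP
  have hap : a ∈ P.comap φ := haP
  have hpne : P.comap φ ≠ ⊥ := by
    intro h
    rw [h] at hbp
    exact hb (Ideal.mem_bot.mp hbp)
  by_contra hlt
  rw [not_le] at hlt
  obtain ⟨π, hπp, hπ⟩ := Ideal.IsPrime.exists_mem_prime_of_ne_bot hpprime hpne
  haveI hqprime : (Ideal.span {π}).IsPrime := (Ideal.span_singleton_prime hπ.ne_zero).mpr hπ
  have hqle : Ideal.span {π} ≤ P.comap φ := (Ideal.span_singleton_le_iff_mem _).mpr hπp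
  have hqbot : (⊥ : Ideal A) < Ideal.span {π} := by
    rw [bot_lt_iff_ne_bot, Ne, Ideal.span_singleton_eq_bot]
    exact hπ.ne_zero
  have hqeq : Ideal.span {π} = P.comap φ := by
    by_contra hne'
    have hlt' : Ideal.span {π} < P.comap φ := lt_of_le_of_ne hqle hne'
    haveI : (⊥ : Ideal A).IsPrime := Ideal.isPrime_bot
    have h1 : (⊥ : Ideal A).height < (Ideal.span {π}).height :=
      Ideal.height_strict_mono_of_isPrime hqbot
    have h2 : (Ideal.span {π}).height < (P.comap φ).height :=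
      Ideal.height_strict_mono_of_isPrime hlt'
    have h3 : (1 : ℕ∞) ≤ (Ideal.span {π}).height :=
      le_trans le_add_self (Order.add_one_le_of_lt h1)
    have h4 : (Ideal.span {π}).height + 1 ≤ (P.comap φ).height := Order.add_one_le_of_lt h2
    have h5 : (2 : ℕ∞) ≤ (P.comap φ).height := by
      calc (2 : ℕ∞) = 1 + 1 := by norm_num
        _ ≤ (Ideal.span {π}).height + 1 := add_le_add h3 le_rfl
        _ ≤ _ := h4
    exact absurd h5 (not_le.mpr hlt)
  have hπa : π ∣ a := by
    rw [← Ideal.mem_span_singleton, hqeq]; exact hap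
  have hπb : π ∣ b := by
    rw [← Ideal.mem_span_singleton, hqeq]; exact hbp
  exact hπ.not_unit (hrel hπa hπb)

end Groth.Agent.H54
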