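import Mathlib.AlgebraicGeometry.ValuativeCriterion
import Mathlib.AlgebraicGeometry.SpreadingOut
import Mathlib.AlgebraicGeometry.Morphisms.Flat
import Mathlib.AlgebraicGeometry.ResidueField
import Mathlib.AlgebraicGeometry.Noetherian
import Mathlib.AlgebraicGeometry.Gluing
import Mathlib.Topology.NoetherianSpace
import Mathlib.Topology.Sober

set_option autoImplicit false
universe u

namespace Groth.Agent.H54

open AlgebraicGeometry CategoryTheory Limits

/-- Gluing a compatible family of morphisms defined on a family of opens. -/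
theorem glue_family {X Y : Scheme.{u}} {J : Type*} (V : J → X.Opens)
    (F : ∀ j, ((V j : X.Opens) : Scheme.{u}) ⟶ Y)
    (h : ∀ i j, X.homOfLE (inf_le_left : V i ⊓ V j ≤ V i) ≫ F i =
      X.homOfLE (inf_le_right : V i ⊓ V j ≤ V j) ≫ F j) :
    ∃ G : ((⨆ j, V j : X.Opens) : Scheme.{u}) ⟶ Y, ∀ j, X.homOfLE (le_iSup V j) ≫ G = F j := by
  refine ⟨(Scheme.Opens.iSupOpenCover V).glueMorphisms F ?_, fun j =>
    (Scheme.Opens.iSupOpenCover V).ι_glueMorphisms F _ j⟩
  intro i j
  change pullback.fst (X.homOfLE (le_iSup V i)) (X.homOfLE (le_iSup V j)) ≫ F i =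
    pullback.snd (X.homOfLE (le_iSup V i)) (X.homOfLE (le_iSup V j)) ≫ F j
  set fst := pullback.fst (X.homOfLE (le_iSup V i)) (X.homOfLE (le_iSup V j)) with hfst
  set snd := pullback.snd (X.homOfLE (le_iSup V i)) (X.homOfLE (le_iSup V j)) with hsnd
  have hcond : fst ≫ (V i).ι = snd ≫ (V j).ι := by
    rw [← X.homOfLE_ι (le_iSup V i), ← X.homOfLE_ι (le_iSup V j), ← Category.assoc,
      ← Category.assoc, pullback.condition]
  have hrange : Set.range (fst ≫ (V i).ι) ⊆ Set.range (V i ⊓ V j).ι := by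
    rintro _ ⟨p, rfl⟩
    rw [Scheme.Opens.range_ι]
    refine ⟨?_, ?_⟩
    · rw [Scheme.Hom.comp_apply]
      exact (fst p).2
    · rw [hcond, Scheme.Hom.comp_apply]
      exact (snd p).2
  obtain ⟨k, hk⟩ : ∃ k, k ≫ (V i ⊓ V j).ι = fst ≫ (V i).ι :=
    ⟨_, IsOpenImmersion.lift_fac _ _ hrange⟩
  have h1 : k ≫ X.homOfLE (inf_le_left : V i ⊓ V j ≤ V i) = fst := by
    rw [← cancel_mono (V i).ι, Category.assoc, X.homOfLE_ι, hk]
  have h2 : k ≫ X.homOfLE (inf_le_right : V i ⊓ V j ≤ V j) = snd := by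
    rw [← cancel_mono (V j).ι, Category.assoc, X.homOfLE_ι, hk, hcond]
  rw [← h1, ← h2, Category.assoc, Category.assoc, h i j]

/-- If two morphisms agree on a field-valued point, they agree on the residue field of its image. -/
theorem fromSpecResidueField_comp_eq_of_field_point {N Y : Scheme.{u}} (K : Type u) [Field K]
    (g : Spec (CommRingCat.of K) ⟶ N) (a b : N ⟶ Y) (h : g ≫ a = g ≫ b) :
    N.fromSpecResidueField (g (IsLocalRing.closedPoint K)) ≫ a =
      N.fromSpecResidueField (g (IsLocalRing.closedPoint K)) ≫ b := by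
  have hc := Scheme.descResidueField_stalkClosedPointTo_fromSpecResidueField K N g
  set c := Spec.map (Scheme.descResidueField (Scheme.stalkClosedPointTo g)) with hcdef
  haveI : Subsingleton ↥(Spec (N.residueField (g (IsLocalRing.closedPoint K)))) :=
    inferInstanceAs (Subsingleton (PrimeSpectrum (N.residueField (g (IsLocalRing.closedPoint K)))))
  haveI : Surjective c :=
    ⟨fun y => ⟨IsLocalRing.closedPoint K, Subsingleton.elim _ _⟩⟩
  haveI : Epi c := Flat.epi_of_flat_of_surjective c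
  rw [← cancel_epi c, ← Category.assoc, ← Category.assoc, hc]
  exact h

/-- In a quasi-sober space with finitely many irreducible components, if `ξ` specializes to every
generization of `x`, then some open neighbourhood of `x` lies in the closure of `ξ`. -/
theorem exists_open_subset_closure {T : Type*} [TopologicalSpace T] [QuasiSober T]
    (hfin : (irreducibleComponents T).Finite) (ξ x : T)
    (h2 : ∀ y, y ⤳ x → ξ ⤳ y) :
    ∃ X₁ : Set T, IsOpen X₁ ∧ x ∈ X₁ ∧ X₁ ⊆ closure {ξ} := by
  have hfin' : {Z ∈ irreducibleComponents T | x ∉ Z}.Finite := hfin.subset (fun Z hZ => hZ.1)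
  have hcl : IsClosed (⋃ Z ∈ {Z ∈ irreducibleComponents T | x ∉ Z}, Z) :=
    hfin'.isClosed_biUnion (fun Z hZ => isClosed_of_mem_irreducibleComponents Z hZ.1)
  refine ⟨(⋃ Z ∈ {Z ∈ irreducibleComponents T | x ∉ Z}, Z)ᶜ, hcl.isOpen_compl, ?_, ?_⟩
  · simp only [Set.mem_compl_iff, Set.mem_iUnion, not_exists]
    rintro Z ⟨-, hxZ⟩ hx
    exact hxZ hx
  · intro z hz
    obtain ⟨Z, hZ, hzZ⟩ :=
      exists_mem_irreducibleComponents_subset_of_isIrreducible {z} isIrreducible_singleton
    have hxZ : x ∈ Z := by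
      by_contra hxZ
      exact hz (Set.mem_biUnion (show Z ∈ {Z ∈ irreducibleComponents T | x ∉ Z} from ⟨hZ, hxZ⟩)
        (hzZ rfl))
    obtain ⟨ζ, hζ⟩ := QuasiSober.sober hZ.1 (isClosed_of_mem_irreducibleComponents Z hZ)
    have hζx : ζ ⤳ x := specializes_iff_mem_closure.mpr (hζ.def.symm ▸ hxZ)
    have hξζ : ξ ⤳ ζ := h2 ζ hζx
    have : Z ⊆ closure {ξ} := by
      rw [← hζ.def]
      exact specializes_iff_closure_subset.mp hξζ
    exact this (hzZ rfl)

end Groth.Agent.H54
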