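import Mathlib
import Groth.Agent.H54.IrredFibres
import Groth.Agent.H9.FibDimTarget

/-!
# Fibre dimension is at least the generic one, with equality on a dense open
-/

set_option autoImplicit false
universe u

open CategoryTheory CategoryTheory.Limits AlgebraicGeometry

namespace Groth.Agent.H54

theorem fibreDim_ge_and_open_dense {k : Type u} [Field k] {X Y : Scheme.{u}}
    (p : X ⟶ Spec (CommRingCat.of k)) (q : Y ⟶ Spec (CommRingCat.of k))
    [LocallyOfFiniteType p] [LocallyOfFiniteType q] [IrreducibleSpace X] (f : X ⟶ Y)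
    (hf : f ≫ q = p) (a b : ℕ) (ha : topologicalKrullDim X = a)
    (hb : topologicalKrullDim (closure (Set.range f.base)) = b) :
    (∀ x : X, ((a - b : ℕ) : WithBot ℕ∞) ≤ FlatMor.fibreDimAt f x) ∧
      IsOpen {x : X | FlatMor.fibreDimAt f x = (a - b : ℕ)} ∧
      Dense {x : X | FlatMor.fibreDimAt f x = (a - b : ℕ)} := by
  haveI : LocallyOfFiniteType (f ≫ q) := by rw [hf]; infer_instance
  haveI : LocallyOfFiniteType f := locallyOfFiniteType_of_comp f q
  have hξ : ∀ x : X, genericPoint X ⤳ x := fun x => (genericPoint_spec X).specializes trivial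
  have huniv : closure ({genericPoint X} : Set X) = Set.univ :=
    Set.eq_univ_of_forall fun x => specializes_iff_mem_closure.mp (hξ x)
  have hcomp : closure ({genericPoint X} : Set X) ∈ irreducibleComponents (X : Type u) := by
    rw [huniv]
    exact ⟨IrreducibleSpace.isIrreducible_univ X, fun t _ _ => Set.subset_univ t⟩
  have ha' : tdeg p (genericPoint X) = a := by
    have h := topologicalKrullDim_eq_tdeg_of_generic p (genericPoint X) hξ
    rw [ha] at h
    exact_mod_cast h.symm
  have hcl : closure (Set.range f.base) = closure ({f.base (genericPoint X)} : Set Y) := by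
    apply subset_antisymm
    · refine closure_minimal ?_ isClosed_closure
      rintro _ ⟨x, rfl⟩
      exact specializes_iff_mem_closure.mp ((hξ x).map f.continuous)
    · exact closure_mono (Set.singleton_subset_iff.mpr ⟨_, rfl⟩)
  have hb' : tdeg q (f.base (genericPoint X)) = b := by
    rw [hcl, topologicalKrullDim_closure_singleton q] at hb
    exact_mod_cast hb
  have hgen : FlatMor.fibreDimAt f (genericPoint X) = ((a - b : ℕ) : WithBot ℕ∞) := by
    rw [fibreDimAt_generic p q f hf _ hcomp, ha', hb']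
  have hopen : ∀ n : ℕ, IsOpen {x : X | FlatMor.fibreDimAt f x ≤ (n : WithBot ℕ∞)} :=
    fun n => Groth.Agent.H9.FibDim.isOpen_setOf_fibreDimAt_le f n
  have hge : ∀ x : X, ((a - b : ℕ) : WithBot ℕ∞) ≤ FlatMor.fibreDimAt f x := by
    intro x
    rcases Nat.eq_zero_or_pos (a - b) with h0 | hpos
    · rw [h0]
      have hne : FlatMor.fibreDimAt f x ≠ ⊥ := by
        rw [Groth.Agent.H9.FibDim.fibreDimAt_eq_tfd]
        exact Groth.Agent.H9.FibDim.localDim_ne_bot _ _
      obtain ⟨w, hw⟩ := WithBot.ne_bot_iff_exists.mp hne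
      rw [← hw, Nat.cast_zero, ← WithBot.coe_zero, WithBot.coe_le_coe]
      exact zero_le
    · obtain ⟨m, hm⟩ : ∃ m, a - b = m + 1 := ⟨a - b - 1, by omega⟩
      rw [hm, Groth.Agent.H9.FibDim.natCast_le_iff_not_le]
      intro hle
      have hx : x ∈ {x : X | FlatMor.fibreDimAt f x ≤ (m : WithBot ℕ∞)} := hle
      have hξm : genericPoint X ∈ {x : X | FlatMor.fibreDimAt f x ≤ (m : WithBot ℕ∞)} :=
        (hξ x).mem_open (hopen m) hx
      have h1 : FlatMor.fibreDimAt f (genericPoint X) ≤ (m : WithBot ℕ∞) := hξm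
      rw [hgen, hm] at h1
      have h2 : m + 1 ≤ m := by exact_mod_cast h1
      omega
  have hset : {x : X | FlatMor.fibreDimAt f x = ((a - b : ℕ) : WithBot ℕ∞)} =
      {x : X | FlatMor.fibreDimAt f x ≤ ((a - b : ℕ) : WithBot ℕ∞)} := by
    ext x
    exact ⟨fun h => le_of_eq h, fun h => le_antisymm h (hge x)⟩
  refine ⟨hge, ?_, ?_⟩
  · rw [hset]; exact hopen _
  · rw [hset]
    have hd : Dense ({genericPoint X} : Set X) := by
      rw [dense_iff_closure_eq]; exact huniv
    exact hd.mono (Set.singleton_subset_iff.mpr (le_of_eq hgen))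

end Groth.Agent.H54
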