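import Mathlib
import Groth.Agent.H54.FibreDimGeneric

/-!
# A proper morphism with a zero-dimensional fibre onto a variety of no bigger dimension
-/

set_option autoImplicit false
universe u

open CategoryTheory CategoryTheory.Limits AlgebraicGeometry

namespace Groth.Agent.H54

theorem surjective_and_dim_eq_of_fibre_dim_zero {k : Type u} [Field k] {X Y : Scheme.{u}}
    (p : X ⟶ Spec (CommRingCat.of k)) (q : Y ⟶ Spec (CommRingCat.of k)) [IsProper p]
    [IsSeparated q] [LocallyOfFiniteType q]
    [IrreducibleSpace X] [IrreducibleSpace Y]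
    (hdim : topologicalKrullDim Y ≤ topologicalKrullDim X)
    (f : X ⟶ Y) (hf : f ≫ q = p) (y : Y) (hy : topologicalKrullDim ↥(f.fiber y) = 0) :
    Surjective f ∧ topologicalKrullDim X = topologicalKrullDim Y := by
  haveI : IsProper (f ≫ q) := by rw [hf]; infer_instance
  haveI : IsProper f := IsProper.of_comp f q
  have hξ : ∀ x : X, genericPoint X ⤳ x := fun x => (genericPoint_spec X).specializes trivial
  have hη : ∀ y : Y, genericPoint Y ⤳ y := fun y => (genericPoint_spec Y).specializes trivial
  have hX := topologicalKrullDim_eq_tdeg_of_generic p (genericPoint X) hξ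
  have hY := topologicalKrullDim_eq_tdeg_of_generic q (genericPoint Y) hη
  have hcl : closure (Set.range f.base) = closure ({f.base (genericPoint X)} : Set Y) := by
    apply subset_antisymm
    · refine closure_minimal ?_ isClosed_closure
      rintro _ ⟨x, rfl⟩
      exact specializes_iff_mem_closure.mp ((hξ x).map f.continuous)
    · exact closure_mono (Set.singleton_subset_iff.mpr ⟨_, rfl⟩)
  have hb : topologicalKrullDim ↥(closure (Set.range f.base)) =
      ((tdeg q (f.base (genericPoint X)) : ℕ) : WithBot ℕ∞) := by
    rw [hcl, topologicalKrullDim_closure_singleton q]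
  have hge := (fibreDim_ge_and_open_dense p q f hf _ _ hX hb).1
  have hne : Nonempty ↥(f.fiber y) := by
    by_contra hemp
    rw [not_nonempty_iff] at hemp
    haveI : IsEmpty (TopologicalSpace.IrreducibleCloseds ↥(f.fiber y)) :=
      ⟨fun Z => Z.isIrreducible.nonempty.elim fun t _ => hemp.false t⟩
    have h0 : topologicalKrullDim ↥(f.fiber y) = ⊥ := Order.krullDim_eq_bot
    rw [h0] at hy
    simp at hy
  obtain ⟨z'⟩ := hne
  have h1 : FlatMor.fibreDimAt f ((f.fiberι y).base z') ≤ 0 := by
    rw [← Groth.Agent.H9.FibDim.localDim_fiber, ← hy]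
    exact Groth.Agent.H9.FibDim.localDim_le_dim _ _
  have h2 : ((tdeg p (genericPoint X) - tdeg q (f.base (genericPoint X)) : ℕ) : WithBot ℕ∞) ≤ 0 :=
    (hge _).trans h1
  have h3 : tdeg p (genericPoint X) - tdeg q (f.base (genericPoint X)) ≤ 0 := by
    exact_mod_cast h2
  have h4 : tdeg q (f.base (genericPoint X)) ≤ tdeg q (genericPoint Y) :=
    tdeg_le_of_specializes q (hη _)
  have h5 : tdeg q (genericPoint Y) ≤ tdeg p (genericPoint X) := by
    rw [hX, hY] at hdim
    exact_mod_cast hdim
  have hfξ : f.base (genericPoint X) = genericPoint Y := by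
    by_contra hne
    have := tdeg_lt_of_specializes q (hη (f.base (genericPoint X))) (fun h => hne h.symm)
    omega
  refine ⟨⟨fun y' => ?_⟩, ?_⟩
  · have hclosed : IsClosed (Set.range f.base) := f.isClosedMap.isClosed_range
    have hmem : y' ∈ closure (Set.range f.base) := by
      rw [hcl, hfξ]
      exact specializes_iff_mem_closure.mp (hη y')
    rw [hclosed.closure_eq] at hmem
    exact hmem
  · rw [hX, hY]
    have : tdeg p (genericPoint X) = tdeg q (genericPoint Y) := by omega
    rw [this]

end Groth.Agent.H54
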