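import Mathlib
import Groth.Agent.S13152
import Groth.Agent.S13428
import Groth.Agent.S2260
import Groth.Agent.H49.SmoothDescent
import Groth.Agent.H25.SmoothStalk

/-!
# Sections of finite morphisms over normal schemes (helper54)
-/

set_option autoImplicit false
universe u
open CategoryTheory AlgebraicGeometry CategoryTheory.Limits TopologicalSpace Topology IsLocalRing
open Groth.Agent.S13152

namespace Groth.Agent.H54.FiniteExt

/-- Variant of `S13152.main` remembering that the section extends the generic one. -/
theorem exists_section_extending {X : Scheme.{u}} [IsIntegral X] (hX : Pi1.IsNormalScheme X) {Yl : Scheme.{u}}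
    (q : Yl ⟶ X) [IsFinite q] (s₀ : Spec (X.presheaf.stalk (genericPoint X)) ⟶ Yl)
    (hs₀ : s₀ ≫ q = X.fromSpecStalk (genericPoint X)) :
    ∃ s : X ⟶ Yl, s ≫ q = 𝟙 X ∧ X.fromSpecStalk (genericPoint X) ≫ s = s₀ := by
  haveI : Subsingleton ↥(Spec (X.presheaf.stalk (genericPoint X))) :=
    show Subsingleton (PrimeSpectrum (X.presheaf.stalk (genericPoint X))) from inferInstance
  haveI : QuasiCompact s₀ := ⟨fun U _ _ => (Set.toFinite _).isCompact⟩
  haveI : IsReduced (Spec (X.presheaf.stalk (genericPoint X))) := inferInstance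
  haveI : IsReduced s₀.image := isReduced_image' s₀
  obtain ⟨t, ht⟩ : ∃ t : Spec (X.presheaf.stalk (genericPoint X)) ⟶ s₀.image, t = s₀.toImage :=
    ⟨_, rfl⟩
  have hti : t ≫ s₀.imageι = s₀ := by rw [ht]; exact s₀.toImage_imageι
  haveI : IsDominant t := by rw [ht]; infer_instance
  obtain ⟨p, hp⟩ : ∃ p : s₀.image ⟶ X, p = s₀.imageι ≫ q := ⟨_, rfl⟩
  haveI : IsFinite p := by rw [hp]; infer_instance
  have htp : t ≫ p = X.fromSpecStalk (genericPoint X) := by
    rw [hp, ← Category.assoc, hti, hs₀]
  have hsub : ∀ a : ↥(Spec (X.presheaf.stalk (genericPoint X))),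
      a = closedPoint (X.presheaf.stalk (genericPoint X)) := fun a => Subsingleton.elim _ _
  have hrange : Set.range t = {t (closedPoint (X.presheaf.stalk (genericPoint X)))} := by
    ext z
    constructor
    · rintro ⟨a, rfl⟩
      rw [hsub a]; rfl
    · rintro rfl
      exact ⟨_, rfl⟩
  have hdense : closure ({t (closedPoint (X.presheaf.stalk (genericPoint X)))} : Set ↥s₀.image) =
      Set.univ := by
    rw [← hrange]; exact (IsDominant.denseRange (f := t)).closure_range
  haveI : IrreducibleSpace ↥s₀.image := by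
    have h1 : IsIrreducible
        (closure ({t (closedPoint (X.presheaf.stalk (genericPoint X)))} : Set ↥s₀.image)) :=
      isIrreducible_singleton.closure
    rw [hdense] at h1
    exact (irreducibleSpace_def _).mpr h1
  haveI : IsIntegral s₀.image := isIntegral_of_irreducibleSpace_of_isReduced _
  have hz : t (closedPoint (X.presheaf.stalk (genericPoint X))) = genericPoint ↥s₀.image :=
    (show IsGenericPoint (t (closedPoint (X.presheaf.stalk (genericPoint X)))) Set.univ from
      hdense).eq (genericPoint_spec _)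
  have hpz : p (t (closedPoint (X.presheaf.stalk (genericPoint X)))) = genericPoint X := by
    rw [← Scheme.Hom.comp_apply, htp]; exact Scheme.fromSpecStalk_closedPoint
  have hgen : p (genericPoint ↥s₀.image) = genericPoint X := by rw [← hz]; exact hpz
  have hbir0 : IsIso (p.stalkMap (t (closedPoint (X.presheaf.stalk (genericPoint X))))) := by
    obtain ⟨ψ, hψ⟩ : ∃ ψ, ψ = Scheme.stalkClosedPointTo t := ⟨_, rfl⟩
    have h1 : Spec.map ψ ≫ (s₀.image).fromSpecStalk
        (t (closedPoint (X.presheaf.stalk (genericPoint X)))) = t := by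
      rw [hψ]; exact Scheme.Spec_stalkClosedPointTo_fromSpecStalk t
    have h2 : Spec.map (p.stalkMap (t (closedPoint (X.presheaf.stalk (genericPoint X)))) ≫ ψ) ≫
        X.fromSpecStalk (p (t (closedPoint (X.presheaf.stalk (genericPoint X))))) =
        X.fromSpecStalk (genericPoint X) := by
      rw [Spec.map_comp, Category.assoc, Scheme.SpecMap_stalkMap_fromSpecStalk, ← Category.assoc,
        h1, htp]
    haveI h3 : IsIso (p.stalkMap (t (closedPoint (X.presheaf.stalk (genericPoint X)))) ≫ ψ) :=
      isIso_of_fromSpecStalk _ hpz _ h2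
    have hfield : IsField (s₀.image.presheaf.stalk
        (t (closedPoint (X.presheaf.stalk (genericPoint X))))) := by
      rw [hz]; exact Field.toIsField (s₀.image).functionField
    have hψinj : Function.Injective ψ.hom := by
      rw [injective_iff_map_eq_zero]
      intro a ha
      by_contra ha0
      obtain ⟨b, hb⟩ := hfield.mul_inv_cancel ha0
      have h4 := congrArg ψ.hom hb
      rw [map_mul, ha, zero_mul, map_one] at h4
      exact zero_ne_one h4
    have hcomp_bij : Function.Bijective
        (p.stalkMap (t (closedPoint (X.presheaf.stalk (genericPoint X)))) ≫ ψ).hom :=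
      (ConcreteCategory.isIso_iff_bijective _).mp h3
    have hψsurj : Function.Surjective ψ.hom := fun k => by
      obtain ⟨a, ha⟩ := hcomp_bij.2 k
      exact ⟨(p.stalkMap (t (closedPoint (X.presheaf.stalk (genericPoint X))))).hom a, ha⟩
    haveI : IsIso ψ := (ConcreteCategory.isIso_iff_bijective ψ).mpr ⟨hψinj, hψsurj⟩
    exact IsIso.of_isIso_comp_right
      (p.stalkMap (t (closedPoint (X.presheaf.stalk (genericPoint X))))) ψ
  have hbir : IsIso (p.stalkMap (genericPoint ↥s₀.image)) := hz ▸ hbir0
  haveI : IsOpenImmersion p :=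
    Groth.Agent.H54.isOpenImmersion_of_birational_of_isSeparated (fun y => (hX y).2) p hgen hbir
  haveI : Surjective p := by
    refine ⟨fun x => ?_⟩
    have hcl : IsClosed (Set.range p) := p.isClosedMap.isClosed_range
    have hη : genericPoint X ∈ Set.range p := ⟨_, hgen⟩
    have hx : x ∈ closure ({genericPoint X} : Set X) := by
      rw [(genericPoint_spec X).def]; trivial
    exact (hcl.closure_subset_iff.mpr (Set.singleton_subset_iff.mpr hη)) hx
  haveI : IsIso p := (isIso_iff_isOpenImmersion_and_surjective p).mpr ⟨inferInstance, inferInstance⟩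
  refine ⟨inv p ≫ s₀.imageι, ?_, ?_⟩
  · rw [Category.assoc, ← hp, IsIso.inv_hom_id]
  · rw [← htp, Category.assoc, IsIso.hom_inv_id_assoc, hti]


/-- Opens containing all points with zero-dimensional local ring are dense. -/
theorem dense_of_dim_zero_mem {Z : Scheme.{u}} (D : Z.Opens)
    (hD : ∀ x : Z, ringKrullDim (Z.presheaf.stalk x) = 0 → x ∈ D) : Dense (D : Set Z) := by
  intro z
  obtain ⟨ξ, hξz, hξ⟩ := Groth.Agent.H54.exists_generic_specializes z
  have hmax : IsMax ξ := Groth.Agent.H54.isMax_of_generic hξ
  have hξD : ξ ∈ D := hD ξ (Groth.Agent.S13428.isMax_dim_zero ξ hmax)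
  have h1 : z ∈ closure ({ξ} : Set Z) := specializes_iff_mem_closure.mp hξz
  exact closure_mono (Set.singleton_subset_iff.mpr hξD) h1

/-- A section of a finite morphism between normal locally Noetherian schemes is an open
immersion. -/
theorem isOpenImmersion_section {Z P : Scheme.{u}} [IsLocallyNoetherian P]
    (hZ : Pi1.IsNormalScheme Z) (hP : Pi1.IsNormalScheme P) (q : P ⟶ Z) [IsFinite q]
    (s : Z ⟶ P) (hs : s ≫ q = 𝟙 Z) : IsOpenImmersion s := by
  haveI : IsClosedImmersion (s ≫ q) := by rw [hs]; infer_instance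
  haveI : IsClosedImmersion s := IsClosedImmersion.of_comp s q
  haveI : IsFinite s := inferInstance
  have hqs : ∀ x : Z, q (s x) = x := fun x => by
    rw [← Scheme.Hom.comp_apply, hs]; rfl
  refine Groth.Agent.S13428.core s hZ hP {x | ringKrullDim (Z.presheaf.stalk x) = 0}
    (fun x hx => hx) ?_ ?_
  · intro x _ x' _ h
    have h2 := congrArg (fun t => q t) h
    simp only [hqs] at h2
    exact h2
  · intro x hx
    have hmax : IsMax x := Groth.Agent.S13428.dim_zero_isMax x hx
    have hmax' : IsMax (s x) := by
      intro t ht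
      have ht' : t ⤳ s x := ht
      have h1 : q t ⤳ x := by
        have := ht'.map q.continuous
        rwa [hqs] at this
      have h2 : x ⤳ q t := hmax (show x ≤ q t from h1)
      have hqt : q t = x := (h1.antisymm h2).eq
      have hd := q.isDiscrete_preimage_singleton x
      haveI : DiscreteTopology ↥(q ⁻¹' {x}) := isDiscrete_iff_discreteTopology.mp hd
      have hsp : (⟨t, hqt⟩ : ↥(q ⁻¹' {x})) ⤳ ⟨s x, hqs x⟩ :=
        (subtype_specializes_iff _ _).mpr ht'
      have heq : t = s x := congrArg Subtype.val hsp.eq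
      rw [heq]
    have hdim : ringKrullDim (P.presheaf.stalk (s x)) = 0 :=
      Groth.Agent.S13428.isMax_dim_zero (s x) hmax'
    haveI := (hP (s x)).1
    haveI : Ring.KrullDimLE 0 (P.presheaf.stalk (s x)) := Ring.krullDimLE_iff.mpr hdim.le
    have hfield : IsField (P.presheaf.stalk (s x)) := Ring.KrullDimLE.isField_of_isDomain
    haveI := (hZ x).1
    have hinj : Function.Injective (s.stalkMap x).hom := by
      rw [injective_iff_map_eq_zero]
      intro a ha
      by_contra ha0
      obtain ⟨b, hb⟩ := hfield.mul_inv_cancel ha0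
      have h4 := congrArg (s.stalkMap x).hom hb
      rw [map_mul, ha, zero_mul, map_one] at h4
      exact zero_ne_one h4
    have hsurj : Function.Surjective (s.stalkMap x).hom := s.stalkMap_surjective x
    exact (ConcreteCategory.isIso_iff_bijective (s.stalkMap x)).mpr ⟨hinj, hsurj⟩

/-- A morphism from a smooth scheme over a normal base to a finite normal scheme over the base
lands in the smooth locus. -/
theorem mem_smoothLocus_of_smooth_source {S T Z : Scheme.{u}} [IsLocallyNoetherian S]
    (hS : Pi1.IsNormalScheme S) (π : T ⟶ S) [IsFinite π] [LocallyOfFinitePresentation π]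
    (hT : Pi1.IsNormalScheme T) (p : Z ⟶ S) [Smooth p] (u : Z ⟶ T) (hu : u ≫ π = p) (z : Z) :
    u z ∈ π.smoothLocus := by
  haveI : IsLocallyNoetherian T := LocallyOfFiniteType.isLocallyNoetherian π
  haveI : IsLocallyNoetherian (pullback π p) :=
    LocallyOfFiniteType.isLocallyNoetherian (pullback.fst π p)
  have hZ : Pi1.IsNormalScheme Z := fun x => Groth.Agent.S13428.normal_of_smooth p hS x
  have hP : Pi1.IsNormalScheme (pullback π p) :=
    fun x => Groth.Agent.S13428.normal_of_smooth (pullback.fst π p) hT x
  obtain ⟨s, hsdef⟩ : ∃ s : Z ⟶ pullback π p, s = pullback.lift u (𝟙 Z) (by rw [hu, Category.id_comp]) :=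
    ⟨_, rfl⟩
  have hs1 : s ≫ pullback.snd π p = 𝟙 Z := by rw [hsdef]; exact pullback.lift_snd _ _ _
  have hs2 : s ≫ pullback.fst π p = u := by rw [hsdef]; exact pullback.lift_fst _ _ _
  haveI : IsOpenImmersion s := isOpenImmersion_section hZ hP (pullback.snd π p) s hs1
  have H : IsPullback (pullback.fst π p) (pullback.snd π p) π p := IsPullback.of_hasPullback π p
  have hsm : s z ∈ (pullback.snd π p).smoothLocus := by
    refine Groth.Agent.H25.SmoothStalk.mem_smoothLocus_of_smooth_nhd (pullback.snd π p) (s z)
      ⟨s.opensRange, ⟨z, rfl⟩, ?_⟩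
    have h1 : s.isoOpensRange.hom ≫ (s.opensRange.ι ≫ pullback.snd π p) = 𝟙 Z := by
      rw [← Category.assoc, Scheme.Hom.isoOpensRange_hom_ι, hs1]
    have h2 : s.opensRange.ι ≫ pullback.snd π p = s.isoOpensRange.inv := by
      rw [← cancel_epi s.isoOpensRange.hom, h1, Iso.hom_inv_id]
    rw [h2]
    infer_instance
  have hflat : (p.stalkMap ((pullback.snd π p) (s z))).hom.Flat := Flat.stalkMap p _
  have := Groth.Agent.H49.SmoothDescent.mem_smoothLocus_of_isPullback_of_flat H (s z) hflat hsm
  have e : (pullback.fst π p) (s z) = u z := by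
    rw [← Scheme.Hom.comp_apply, hs2]
  rw [← e]
  exact this

end Groth.Agent.H54.FiniteExt
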