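import Groth.Agent.H65.GalCycDefs

/-!
# Piece (F) of the S13083 squad (helper65): closed points upstairs and downstairs

`y ∈ X ×_k k̄` is closed iff its image in `X` is closed (the projection is integral).
-/

set_option autoImplicit false
universe u
open CategoryTheory CategoryTheory.Limits AlgebraicGeometry
open Groth.Agent.H65.GalCyc

namespace Groth.Agent.H54.GalCyc_F

/-- Every point of a scheme integral over the spectrum of a field is closed. -/
theorem isClosed_singleton_of_isIntegralHom_field {F : Scheme.{u}} (K : Type u) [Field K]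
    (h : F ⟶ Spec (CommRingCat.of K)) [IsIntegralHom h] (z : F) : IsClosed ({z} : Set F) := by
  haveI : IsAffine F := isAffine_of_isAffineHom h
  let φ : K →+* Γ(F, ⊤) := h.appTop.hom.comp (Scheme.ΓSpecIso (CommRingCat.of K)).inv.hom
  have hφ : φ.IsIntegral := by
    refine RingHom.IsIntegral.trans (f := (Scheme.ΓSpecIso (CommRingCat.of K)).inv.hom)
      (g := h.appTop.hom) (RingHom.isIntegral_of_surjective _ ?_)
      (IsIntegralHom.isIntegral_app h ⊤ (isAffineOpen_top _))
    exact (ConcreteCategory.bijective_of_isIso (Scheme.ΓSpecIso (CommRingCat.of K)).inv).2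
  -- all primes of Γ(F, ⊤) are maximal
  have hmax : ∀ P : PrimeSpectrum Γ(F, ⊤), IsClosed ({P} : Set (PrimeSpectrum Γ(F, ⊤))) := by
    intro P
    rw [PrimeSpectrum.isClosed_singleton_iff_isMaximal]
    haveI := P.isPrime
    refine Ideal.isMaximal_of_isIntegral_of_isMaximal_comap' φ hφ P.asIdeal ?_
    have h0 : (P.asIdeal.comap φ) = ⊥ := Ideal.eq_bot_of_prime _
    rw [h0]; exact Ideal.bot_isMaximal
  -- transport along F ≅ Spec Γ(F, ⊤)
  have hinj : Function.Injective F.isoSpec.hom := F.isoSpec.hom.isOpenEmbedding.injective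
  have hzc := hmax (F.isoSpec.hom z)
  have hpre : ({z} : Set F) = F.isoSpec.hom ⁻¹' {F.isoSpec.hom z} := by
    ext w
    simp only [Set.mem_singleton_iff, Set.mem_preimage]
    exact ⟨fun e => by rw [e], fun e => hinj e⟩
  rw [hpre]
  exact hzc.preimage F.isoSpec.hom.continuous

variable {k : Type u} [Field k] {X : Scheme.{u}} (f : X ⟶ Spec (CommRingCat.of k))

/-- (F): a point of `X ×_k k̄` is closed iff its image in `X` is closed. -/
theorem closed_iff [LocallyOfFiniteType f] (y : ↥(pullback f (jK k))) :
    IsClosed ({y} : Set ↥(pullback f (jK k))) ↔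
      IsClosed ({(pullback.fst f (jK k)).base y} : Set X) := by
  haveI hj : IsIntegralHom (jK k) :=
    IsIntegralHom.SpecMap_iff.mpr (algebraMap_isIntegral_iff.mpr inferInstance)
  haveI hπi : IsIntegralHom (pullback.fst f (jK k)) := inferInstance
  constructor
  · intro hy
    have h1 : IsClosed ((pullback.fst f (jK k)).base '' {y}) :=
      (pullback.fst f (jK k)).isClosedMap _ hy
    rw [Set.image_singleton] at h1
    exact h1
  · intro hx
    obtain ⟨x, hxy⟩ : ∃ x : X, x = (pullback.fst f (jK k)).base y := ⟨_, rfl⟩
    rw [← hxy] at hx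
    have hrange := (pullback.fst f (jK k)).range_fiberι x
    have hy : y ∈ Set.range ((pullback.fst f (jK k)).fiberι x) := by
      rw [hrange]; exact hxy.symm
    obtain ⟨z, hz⟩ := hy
    haveI : IsIntegralHom ((pullback.fst f (jK k)).fiberToSpecResidueField x) := by
      unfold Scheme.Hom.fiberToSpecResidueField
      exact MorphismProperty.pullback_snd (P := @IsIntegralHom) _ _ hπi
    have hzc : IsClosed ({z} : Set ((pullback.fst f (jK k)).fiber x)) :=
      isClosed_singleton_of_isIntegralHom_field (K := ↑(X.residueField x))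
        ((pullback.fst f (jK k)).fiberToSpecResidueField x) z
    have hemb : Topology.IsClosedEmbedding ((pullback.fst f (jK k)).fiberι x) :=
      ⟨((pullback.fst f (jK k)).fiberι x).isEmbedding, by
        rw [hrange]; exact hx.preimage (pullback.fst f (jK k)).continuous⟩
    have h2 := hemb.isClosedMap _ hzc
    rw [Set.image_singleton, hz] at h2
    exact h2

end Groth.Agent.H54.GalCyc_F
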