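import Mathlib
import Groth.Prelude.Def_FEt
import Groth.Agent.H68.GalK.Defs

/-!
# (TRb) for helper68's S0290 / S0298 squad

A finite étale cover of `Spec K` without nontrivial subobjects ("categorically connected") has a
single point: the underlying space is finite discrete, so every singleton is a clopen subscheme,
which is again a finite étale cover and a non-initial subobject.
-/

set_option autoImplicit false
universe u
open CategoryTheory CategoryTheory.Limits AlgebraicGeometry
open Groth.Agent.H68.GalK

namespace Groth.Agent.H54.GalK_TRb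

variable {K : Type u} [Field K]

/-- The underlying space of a finite étale cover of the spectrum of a field is discrete. -/
theorem discreteTopology_left (Y : FEt.Cat (Spec (CommRingCat.of K))) :
    DiscreteTopology Y.left := by
  haveI : IsFinite Y.hom := Y.prop.1
  haveI : Subsingleton (Spec (CommRingCat.of K)) :=
    inferInstanceAs (Subsingleton (PrimeSpectrum K))
  rcases isEmpty_or_nonempty Y.left with he | ⟨⟨z0⟩⟩
  · infer_instance
  · have h := Y.hom.isDiscrete_preimage_singleton (Y.hom z0)
    have huniv : (Y.hom ⁻¹' {Y.hom z0} : Set Y.left) = Set.univ :=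
      Set.eq_univ_of_forall fun z =>
        @Subsingleton.elim (Spec (CommRingCat.of K)) _ (Y.hom z) (Y.hom z0)
    rw [huniv] at h
    exact isDiscrete_univ_iff.mp h

/-- Every open subscheme of a finite étale cover of the spectrum of a field is again a finite
étale cover. -/
theorem prop_ι_comp (Y : FEt.Cat (Spec (CommRingCat.of K))) [DiscreteTopology Y.left]
    (U : Y.left.Opens) : FEt.prop (U.ι ≫ Y.hom) := by
  haveI : IsFinite Y.hom := Y.prop.1
  haveI : Etale Y.hom := Y.prop.2
  haveI : IsClosedImmersion U.ι := IsClosedImmersion.of_isPreimmersion _ (isClosed_discrete _)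
  exact ⟨inferInstance, inferInstance⟩

/-- (TRb) a categorically connected cover has a single image point. -/
theorem base_eq_of_noTrivialComponent (Y : FEt.Cat (Spec (CommRingCat.of K))) (hconn : ∀ (Y' : FEt.Cat (Spec (CommRingCat.of K))) (i : Y' ⟶ Y), Mono i → (IsInitial Y' → False) → IsIso i) (s t : FEt.fiberObj (ξ K) Y) (x y : Spec (CommRingCat.of (AlgebraicClosure K))) : s.1.base x = t.1.base y := by
  haveI := discreteTopology_left Y
  let U : Y.left.Opens := ⟨{s.1.base x}, isOpen_discrete _⟩
  let Y' : FEt.Cat (Spec (CommRingCat.of K)) :=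
    MorphismProperty.Over.mk ⊤ (U.ι ≫ Y.hom) (prop_ι_comp Y U)
  let i : Y' ⟶ Y := MorphismProperty.Over.homMk U.ι rfl trivial
  have hleft : (MorphismProperty.Over.forget FEt.prop ⊤ (Spec (CommRingCat.of K)) ⋙
      CategoryTheory.Over.forget (Spec (CommRingCat.of K))).map i = U.ι := rfl
  have hmU : Mono U.ι := inferInstance
  have hmono : Mono i := by
    haveI : Mono ((MorphismProperty.Over.forget FEt.prop ⊤ (Spec (CommRingCat.of K)) ⋙
        CategoryTheory.Over.forget (Spec (CommRingCat.of K))).map i) := hmU
    exact (MorphismProperty.Over.forget FEt.prop ⊤ (Spec (CommRingCat.of K)) ⋙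
      CategoryTheory.Over.forget (Spec (CommRingCat.of K))).mono_of_mono_map inferInstance
  have hni : IsInitial Y' → False := by
    intro hI
    let E : FEt.Cat (Spec (CommRingCat.of K)) :=
      MorphismProperty.Over.mk ⊤ ((⊥ : Y.left.Opens).ι ≫ Y.hom) (prop_ι_comp Y ⊥)
    let φ : Y' ⟶ E := hI.to E
    let p : U := ⟨s.1.base x, Set.mem_singleton _⟩
    have hq : (⊥ : Y.left.Opens).ι (φ.left p) ∈ Set.range (⊥ : Y.left.Opens).ι := ⟨_, rfl⟩
    rw [Scheme.Opens.range_ι, TopologicalSpace.Opens.coe_bot] at hq
    exact (Set.mem_empty_iff_false _).mp hq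
  have hiso : IsIso i := hconn Y' i hmono hni
  haveI : IsIso U.ι :=
    Functor.map_isIso (MorphismProperty.Over.forget FEt.prop ⊤ (Spec (CommRingCat.of K)) ⋙
      CategoryTheory.Over.forget (Spec (CommRingCat.of K))) i
  obtain ⟨z, hz⟩ := U.ι.surjective (t.1.base y)
  have hmem : t.1.base y ∈ (U : Set Y.left) := by
    rw [← hz]
    exact z.2
  exact (Set.mem_singleton_iff.mp hmem).symm

end Groth.Agent.H54.GalK_TRb
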