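import Mathlib
import Groth.Agent.H54.GenericFinite

/-!
# Generically finite dominant morphisms of integral schemes, II
-/

set_option autoImplicit false
universe u
open CategoryTheory CategoryTheory.Limits AlgebraicGeometry

namespace Groth.Agent.H54

/-- If the function field extension is algebraic, the morphism is finite over suitable nonempty
affine opens. -/
theorem exists_finite_resLE_of_isAlgebraic {X Y : Scheme.{u}} [IsIntegral X] [IsIntegral Y]
    (f : X ⟶ Y) [LocallyOfFiniteType f] (ξ : X) (hξ : ξ = genericPoint ↥X)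
    (hfξ : f.base ξ = genericPoint ↥Y)
    (halg : letI := (f.residueFieldMap ξ).hom.toAlgebra
      Algebra.IsAlgebraic (Y.residueField (f.base ξ)) (X.residueField ξ)) :
    ∃ (U : X.Opens) (V : Y.Opens) (hUV : U ≤ f ⁻¹ᵁ V), IsAffineOpen U ∧ IsAffineOpen V ∧
      Nonempty ↥U ∧ IsFinite (f.resLE V U hUV) := by
  obtain ⟨V, hV, hηV, -⟩ :=
    exists_isAffineOpen_mem_and_subset (X := Y) (x := f.base ξ) (U := ⊤) trivial
  obtain ⟨U, hU, hξU, hUV⟩ :=
    exists_isAffineOpen_mem_and_subset (X := X) (x := ξ) (U := f ⁻¹ᵁ V) hηV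
  have e : U ≤ f ⁻¹ᵁ V := hUV
  haveI : Nonempty V.toScheme := ⟨⟨_, hηV⟩⟩
  haveI : Nonempty U.toScheme := ⟨⟨_, hξU⟩⟩
  letI iRS : Algebra Γ(Y, V) Γ(X, U) := (f.appLE V U e).hom.toAlgebra
  letI iRK : Algebra Γ(Y, V) (Y.residueField (f.base ξ)) :=
    (Y.presheaf.germ V (f.base ξ) hηV ≫ Y.residue (f.base ξ)).hom.toAlgebra
  letI iSL : Algebra Γ(X, U) (X.residueField ξ) :=
    (X.presheaf.germ U ξ hξU ≫ X.residue ξ).hom.toAlgebra
  letI iKL : Algebra (Y.residueField (f.base ξ)) (X.residueField ξ) :=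
    (f.residueFieldMap ξ).hom.toAlgebra
  letI iRL : Algebra Γ(Y, V) (X.residueField ξ) :=
    (Y.presheaf.germ V (f.base ξ) hηV ≫ Y.residue (f.base ξ) ≫ f.residueFieldMap ξ).hom.toAlgebra
  haveI t1 : IsScalarTower Γ(Y, V) (Y.residueField (f.base ξ)) (X.residueField ξ) :=
    IsScalarTower.of_algebraMap_eq' rfl
  haveI t2 : IsScalarTower Γ(Y, V) Γ(X, U) (X.residueField ξ) :=
    IsScalarTower.of_algebraMap_eq'
      (congrArg CommRingCat.Hom.hom (appLE_germ_residue f e ξ hξU)).symm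
  haveI frK : IsFractionRing Γ(Y, V) (Y.residueField (f.base ξ)) :=
    isFractionRing_residueField_generic (f.base ξ) hfξ V hV hηV
  haveI frL : IsFractionRing Γ(X, U) (X.residueField ξ) :=
    isFractionRing_residueField_generic ξ hξ U hU hξU
  haveI a1 : Algebra.IsAlgebraic (Y.residueField (f.base ξ)) (X.residueField ξ) := halg
  haveI a2 : Algebra.IsAlgebraic Γ(Y, V) (X.residueField ξ) :=
    (IsFractionRing.comap_isAlgebraic_iff (A := Γ(Y, V))
      (K := Y.residueField (f.base ξ))).mpr a1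
  have hinjS : Function.Injective (algebraMap Γ(X, U) (X.residueField ξ)) :=
    IsFractionRing.injective Γ(X, U) (X.residueField ξ)
  haveI a3 : Algebra.IsAlgebraic Γ(Y, V) Γ(X, U) :=
    Algebra.IsAlgebraic.tower_bot_of_injective (A := X.residueField ξ) hinjS
  obtain ⟨s, hs⟩ := (f.finiteType_appLE hV hU e).out
  obtain ⟨g, hg0, hgint⟩ := Algebra.IsAlgebraic.exists_integral_multiples Γ(Y, V) s
  have hφg : (f.appLE V U e).hom g ≠ 0 := by
    intro h0
    have h1 : algebraMap Γ(Y, V) (X.residueField ξ) g = 0 := by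
      rw [IsScalarTower.algebraMap_apply Γ(Y, V) Γ(X, U) (X.residueField ξ)]
      show algebraMap Γ(X, U) (X.residueField ξ) ((f.appLE V U e).hom g) = 0
      rw [h0, map_zero]
    rw [IsScalarTower.algebraMap_apply Γ(Y, V) (Y.residueField (f.base ξ))
      (X.residueField ξ)] at h1
    have h2 : algebraMap Γ(Y, V) (Y.residueField (f.base ξ)) g = 0 :=
      (map_eq_zero (algebraMap (Y.residueField (f.base ξ)) (X.residueField ξ))).mp h1
    exact hg0 ((IsFractionRing.injective Γ(Y, V) (Y.residueField (f.base ξ)))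
      (h2.trans (map_zero _).symm))
  have hne : X.basicOpen (f.appLE V U e g) ≠ ⊥ := fun hbot =>
    hφg ((basicOpen_eq_bot_iff _).mp hbot)
  obtain ⟨x₀, hx₀⟩ := (TopologicalSpace.Opens.ne_bot_iff_nonempty _).mp hne
  have e' : X.basicOpen (f.appLE V U e g) ≤ f ⁻¹ᵁ (Y.basicOpen g) := by
    simp [Scheme.Hom.appLE]
  refine ⟨X.basicOpen (f.appLE V U e g), Y.basicOpen g, e', hU.basicOpen _, hV.basicOpen _,
    ⟨⟨x₀, hx₀⟩⟩, ?_⟩
  rw [isFinite_resLE_iff f (hV.basicOpen g) (hU.basicOpen _) e',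
    RingHom.finite_iff_isIntegral_and_finiteType]
  refine ⟨?_, f.finiteType_appLE (hV.basicOpen g) (hU.basicOpen _) e'⟩
  haveI := hV.isLocalization_basicOpen g
  haveI : IsLocalization.Away ((f.appLE V U e).hom g) Γ(X, X.basicOpen (f.appLE V U e g)) :=
    hU.isLocalization_basicOpen (f.appLE V U e g)
  have h1 : f.appLE (Y.basicOpen g) (X.basicOpen (f.appLE V U e g)) e' =
      CommRingCat.ofHom (IsLocalization.Away.map Γ(Y, Y.basicOpen g)
        Γ(X, X.basicOpen (f.appLE V U e g)) (f.appLE V U e).hom g) :=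
    IsAffineOpen.appLE_eq_away_map f hV hU e g
  rw [h1, CommRingCat.hom_ofHom]
  exact isIntegral_away_map (f.appLE V U e).hom g (↑s) hs (fun z hz => by
    have h3 := hgint z (Finset.mem_coe.mp hz)
    rw [Algebra.smul_def] at h3
    exact h3)

/-- If the morphism is finite over nonempty affine opens, the function field extension is
algebraic. -/
theorem isAlgebraic_of_finite_resLE {X Y : Scheme.{u}} [IsIntegral X] [IsIntegral Y]
    (f : X ⟶ Y) (ξ : X) (hξ : ξ = genericPoint ↥X) (U : X.Opens) (V : Y.Opens)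
    (e : U ≤ f ⁻¹ᵁ V) (hU : IsAffineOpen U) (hV : IsAffineOpen V) (hne : Nonempty ↥U)
    (hfin : IsFinite (f.resLE V U e)) :
    letI := (f.residueFieldMap ξ).hom.toAlgebra
    Algebra.IsAlgebraic (Y.residueField (f.base ξ)) (X.residueField ξ) := by
  have hξU : ξ ∈ U := by
    rw [hξ]
    exact ((genericPoint_spec X).mem_open_set_iff U.isOpen).mpr
      ⟨_, trivial, (Classical.arbitrary ↥U).2⟩
  have hηV : f.base ξ ∈ V := e hξU
  have hφ : (f.appLE V U e).hom.Finite := (isFinite_resLE_iff f hV hU e).mp hfin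
  haveI : Nonempty V.toScheme := ⟨⟨_, hηV⟩⟩
  haveI : Nonempty U.toScheme := ⟨⟨_, hξU⟩⟩
  letI iRS : Algebra Γ(Y, V) Γ(X, U) := (f.appLE V U e).hom.toAlgebra
  letI iRK : Algebra Γ(Y, V) (Y.residueField (f.base ξ)) :=
    (Y.presheaf.germ V (f.base ξ) hηV ≫ Y.residue (f.base ξ)).hom.toAlgebra
  letI iSL : Algebra Γ(X, U) (X.residueField ξ) :=
    (X.presheaf.germ U ξ hξU ≫ X.residue ξ).hom.toAlgebra
  letI iKL : Algebra (Y.residueField (f.base ξ)) (X.residueField ξ) :=
    (f.residueFieldMap ξ).hom.toAlgebra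
  letI iRL : Algebra Γ(Y, V) (X.residueField ξ) :=
    (Y.presheaf.germ V (f.base ξ) hηV ≫ Y.residue (f.base ξ) ≫ f.residueFieldMap ξ).hom.toAlgebra
  haveI t1 : IsScalarTower Γ(Y, V) (Y.residueField (f.base ξ)) (X.residueField ξ) :=
    IsScalarTower.of_algebraMap_eq' rfl
  haveI t2 : IsScalarTower Γ(Y, V) Γ(X, U) (X.residueField ξ) :=
    IsScalarTower.of_algebraMap_eq'
      (congrArg CommRingCat.Hom.hom (appLE_germ_residue f e ξ hξU)).symm
  haveI frL : IsFractionRing Γ(X, U) (X.residueField ξ) :=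
    isFractionRing_residueField_generic ξ hξ U hU hξU
  haveI : Algebra.IsIntegral Γ(Y, V) Γ(X, U) := ⟨hφ.to_isIntegral⟩
  exact isAlgebraic_of_isFractionRing Γ(Y, V) Γ(X, U) (Y.residueField (f.base ξ))
    (X.residueField ξ)

/-- Finiteness of a restriction over a nonempty affine open gives finiteness over affine opens
of source and target. -/
theorem exists_resLE_of_restrict {X Y : Scheme.{u}} [IsIntegral X] [IsIntegral Y] (f : X ⟶ Y)
    (hfξ : f.base (genericPoint ↥X) = genericPoint ↥Y) (V : Y.Opens) (hV : IsAffineOpen V)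
    (hne : Nonempty ↥V) (hfin : IsFinite (f ∣_ V)) :
    ∃ (U : X.Opens) (V : Y.Opens) (hUV : U ≤ f ⁻¹ᵁ V), IsAffineOpen U ∧ IsAffineOpen V ∧
      Nonempty ↥U ∧ IsFinite (f.resLE V U hUV) := by
  refine ⟨f ⁻¹ᵁ V, V, le_rfl, ?_, hV, ?_, ?_⟩
  · haveI : IsAffine V.toScheme := hV
    exact isAffine_of_isAffineHom (f ∣_ V)
  · have hη : genericPoint ↥Y ∈ V :=
      ((genericPoint_spec Y).mem_open_set_iff V.isOpen).mpr
        ⟨_, trivial, (Classical.arbitrary ↥V).2⟩
    refine ⟨⟨genericPoint ↥X, ?_⟩⟩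
    show f.base (genericPoint ↥X) ∈ V
    rw [hfξ]; exact hη
  · rw [Scheme.Hom.resLE_eq_morphismRestrict]; exact hfin

/-- For a separated morphism, finiteness over affine opens of source and target spreads to the
whole preimage. -/
theorem finite_restrict_of_isSeparated {X Y : Scheme.{u}} [IsIntegral X] (f : X ⟶ Y)
    [IsSeparated f] (U : X.Opens) (V : Y.Opens) (e : U ≤ f ⁻¹ᵁ V) (hne : Nonempty ↥U)
    (hfin : IsFinite (f.resLE V U e)) : IsFinite (f ∣_ V) := by
  have hfin' : IsFinite (X.homOfLE e ≫ f ∣_ V) := hfin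
  haveI : IsFinite (X.homOfLE e) := IsFinite.of_comp (X.homOfLE e) (f ∣_ V)
  haveI : Nonempty (f ⁻¹ᵁ V).toScheme := ⟨⟨_, e (Classical.arbitrary ↥U).2⟩⟩
  haveI : Nonempty U.toScheme := hne
  have hrange : Set.range (X.homOfLE e).base = Set.univ := by
    apply IsClopen.eq_univ
    · exact ⟨(X.homOfLE e).isClosedMap.isClosed_range,
        (X.homOfLE e).isOpenEmbedding.isOpen_range⟩
    · exact Set.range_nonempty _
  have hUV : U = f ⁻¹ᵁ V := by
    apply le_antisymm e
    intro x hx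
    obtain ⟨u, hu⟩ : (⟨x, hx⟩ : ↥(f ⁻¹ᵁ V)) ∈ Set.range (X.homOfLE e).base := by
      rw [hrange]; trivial
    have h1 := X.homOfLE_apply e u
    rw [hu] at h1
    have h2 : x = u.1 := h1
    rw [h2]; exact u.2
  exact isFinite_morphismRestrict_of_resLE f V U hUV e hfin

/-- For a quasi-compact morphism with a single point over the generic point, a small basic open
has preimage inside any given open neighbourhood of the generic point. -/
theorem exists_basicOpen_preimage_le {X Y : Scheme.{u}} [IsIntegral X] [IsIntegral Y]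
    (f : X ⟶ Y) [QuasiCompact f]
    (hC : ∀ x : X, f.base x = genericPoint ↥Y → x = genericPoint ↥X)
    (U : X.Opens) (hξU : genericPoint ↥X ∈ U) (V : Y.Opens) (hV : IsAffineOpen V)
    (hηV : genericPoint ↥Y ∈ V) :
    ∃ r : Γ(Y, V), genericPoint ↥Y ∈ Y.basicOpen r ∧ f ⁻¹ᵁ (Y.basicOpen r) ≤ U := by
  obtain ⟨Zc, hZc⟩ : ∃ Zc : TopologicalSpace.Closeds X, (Zc : Set X) = (U : Set X)ᶜ :=
    ⟨⟨(U : Set X)ᶜ, U.isOpen.isClosed_compl⟩, rfl⟩
  obtain ⟨I, hI⟩ : ∃ I : X.IdealSheafData, I = Scheme.IdealSheafData.vanishingIdeal Zc :=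
    ⟨_, rfl⟩
  have hrange : Set.range I.subschemeι.base = (U : Set X)ᶜ := by
    rw [Scheme.IdealSheafData.range_subschemeι, hI,
      Scheme.IdealSheafData.coe_support_vanishingIdeal, hZc]
  obtain ⟨h, hh⟩ : ∃ h : I.subscheme ⟶ Y, h = I.subschemeι ≫ f := ⟨_, rfl⟩
  haveI : QuasiCompact h := by rw [hh]; infer_instance
  have hbase : ∀ z, h.base z = f.base (I.subschemeι.base z) := by
    intro z; rw [hh]; rfl
  have hη : genericPoint ↥Y ∉ closure (Set.range h.base) := by
    intro hmem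
    have hd : DenseRange h.base := by
      apply dense_iff_closure_eq.mpr
      apply Set.eq_univ_of_univ_subset
      rw [← (genericPoint_spec Y).def]
      exact closure_minimal (Set.singleton_subset_iff.mpr hmem) isClosed_closure
    have hirr : closure ({genericPoint ↥Y} : Set Y) ∈ irreducibleComponents (Y : Type u) := by
      rw [irreducibleComponents_eq_singleton, (genericPoint_spec Y).def]; rfl
    obtain ⟨z, hz⟩ := exists_eq_generic_of_denseRange h hd (genericPoint ↥Y) hirr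
    rw [hbase] at hz
    have h1 : I.subschemeι.base z = genericPoint ↥X := hC _ hz
    have h2 : I.subschemeι.base z ∈ (U : Set X)ᶜ := by
      rw [← hrange]; exact Set.mem_range_self z
    exact h2 (h1 ▸ hξU)
  obtain ⟨O, hO⟩ : ∃ O : Y.Opens, (O : Set Y) = (closure (Set.range h.base))ᶜ :=
    ⟨⟨(closure (Set.range h.base))ᶜ, isClosed_closure.isOpen_compl⟩, rfl⟩
  have hηO : genericPoint ↥Y ∈ O := by
    show genericPoint ↥Y ∈ (O : Set Y)
    rw [hO]; exact hη
  obtain ⟨r, hrO, hηr⟩ := hV.exists_basicOpen_le (V := O) ⟨genericPoint ↥Y, hηO⟩ hηV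
  refine ⟨r, hηr, ?_⟩
  intro x hx
  by_contra hxU
  have hx' : x ∈ Set.range I.subschemeι.base := by rw [hrange]; exact hxU
  obtain ⟨z, rfl⟩ := hx'
  have h3 : f.base (I.subschemeι.base z) ∈ (O : Set Y) := hrO hx
  rw [hO] at h3
  exact h3 (subset_closure ⟨z, hbase z⟩)

/-- For a quasi-compact morphism with a single point over the generic point, finiteness over
affine opens of source and target gives finiteness of a restriction over a nonempty affine open
of the target. -/
theorem exists_finite_restrict_of_quasiCompact {X Y : Scheme.{u}} [IsIntegral X]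
    [IsIntegral Y] (f : X ⟶ Y) [QuasiCompact f]
    (hC : ∀ x : X, f.base x = genericPoint ↥Y → x = genericPoint ↥X)
    (hfξ : f.base (genericPoint ↥X) = genericPoint ↥Y)
    (U : X.Opens) (V : Y.Opens) (e : U ≤ f ⁻¹ᵁ V) (hU : IsAffineOpen U) (hV : IsAffineOpen V)
    (hne : Nonempty ↥U) (hfin : IsFinite (f.resLE V U e)) :
    ∃ V' : Y.Opens, IsAffineOpen V' ∧ Nonempty ↥V' ∧ IsFinite (f ∣_ V') := by
  have hξU : genericPoint ↥X ∈ U :=
    ((genericPoint_spec X).mem_open_set_iff U.isOpen).mpr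
      ⟨_, trivial, (Classical.arbitrary ↥U).2⟩
  have hηV : genericPoint ↥Y ∈ V := by rw [← hfξ]; exact e hξU
  obtain ⟨r, hηr, hle⟩ := exists_basicOpen_preimage_le f hC U hξU V hV hηV
  have heq : X.basicOpen (f.appLE V U e r) = U ⊓ f ⁻¹ᵁ (Y.basicOpen r) := by
    simp [Scheme.Hom.appLE]
  have hW : X.basicOpen (f.appLE V U e r) = f ⁻¹ᵁ (Y.basicOpen r) := by
    rw [heq]; exact inf_eq_right.mpr hle
  have e' : X.basicOpen (f.appLE V U e r) ≤ f ⁻¹ᵁ (Y.basicOpen r) := hW.le
  refine ⟨Y.basicOpen r, hV.basicOpen r, ⟨⟨_, hηr⟩⟩, ?_⟩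
  apply isFinite_morphismRestrict_of_resLE f (Y.basicOpen r) _ hW e'
  rw [isFinite_resLE_iff f (hV.basicOpen r) (hU.basicOpen _) e']
  have hφ : (f.appLE V U e).hom.Finite := (isFinite_resLE_iff f hV hU e).mp hfin
  haveI := hV.isLocalization_basicOpen r
  haveI : IsLocalization.Away ((f.appLE V U e).hom r) Γ(X, X.basicOpen (f.appLE V U e r)) :=
    hU.isLocalization_basicOpen (f.appLE V U e r)
  have h1 : f.appLE (Y.basicOpen r) (X.basicOpen (f.appLE V U e r)) e' =
      CommRingCat.ofHom (IsLocalization.Away.map Γ(Y, Y.basicOpen r)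
        Γ(X, X.basicOpen (f.appLE V U e r)) (f.appLE V U e).hom r) :=
    IsAffineOpen.appLE_eq_away_map f hV hU e r
  rw [h1, CommRingCat.hom_ofHom]
  exact RingHom.finite_localizationPreserves.away (f.appLE V U e).hom r _ _ hφ

end Groth.Agent.H54
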