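import Mathlib

set_option autoImplicit false

universe u

open CategoryTheory CategoryTheory.Limits AlgebraicGeometry TensorProduct

namespace Groth.Agent.H54.IsoLoc_RK

/-- The tensor product over `R` of two fields with the same kernel over `R` is nontrivial. -/
theorem nontrivial_tensor {R k K : Type u} [CommRing R] [Field k] [Field K] [Algebra R k]
    [Algebra R K] (h : RingHom.ker (algebraMap R k) = RingHom.ker (algebraMap R K)) :
    Nontrivial (k ⊗[R] K) := by
  obtain ⟨x⟩ : Nonempty (PrimeSpectrum k) := inferInstance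
  obtain ⟨y⟩ : Nonempty (PrimeSpectrum K) := inferInstance
  have hx : x.asIdeal = ⊥ := @Ideal.eq_bot_of_prime _ _ x.asIdeal x.isPrime
  have hy : y.asIdeal = ⊥ := @Ideal.eq_bot_of_prime _ _ y.asIdeal y.isPrime
  let x' : Spec (CommRingCat.of k) := x
  let y' : Spec (CommRingCat.of K) := y
  have hxy : (Spec.map (CommRingCat.ofHom (algebraMap R k))) x' =
      (Spec.map (CommRingCat.ofHom (algebraMap R K))) y' := by
    apply PrimeSpectrum.ext
    show Ideal.comap (algebraMap R k) x.asIdeal = Ideal.comap (algebraMap R K) y.asIdeal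
    rw [hx, hy, ← RingHom.ker_eq_comap_bot, ← RingHom.ker_eq_comap_bot, h]
  obtain ⟨z, -, -⟩ := Scheme.Pullback.exists_preimage_pullback x' y' hxy
  have hne : Nonempty (PrimeSpectrum (k ⊗[R] K)) := ⟨(pullbackSpecIso R k K).hom z⟩
  exact (PrimeSpectrum.nonempty_iff_nontrivial).mp hne

theorem tmul_one_eq_zero {R k K : Type u} [CommRing R] [Field k] [Field K] [Algebra R k]
    [Algebra R K] [Nontrivial (k ⊗[R] K)] (x : k) (h : x ⊗ₜ[R] (1 : K) = 0) : x = 0 := by
  by_contra hx
  have h1 : (1 : k ⊗[R] K) = x⁻¹ • (x ⊗ₜ[R] (1 : K)) := by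
    rw [TensorProduct.smul_tmul', smul_eq_mul, inv_mul_cancel₀ hx, Algebra.TensorProduct.one_def]
  rw [h, smul_zero] at h1
  exact one_ne_zero h1

/-- Nakayama-type: a finite module all of whose maps to the residue field at `q` vanish is killed
by an element outside `q`. -/
theorem exists_kill {B : Type u} [CommRing B] (q : Ideal B) [q.IsPrime] {M : Type u}
    [AddCommGroup M] [Module B M] [Module.Finite B M]
    (h : ∀ g : M →ₗ[B] q.ResidueField, g = 0) : ∃ b, b ∉ q ∧ ∀ m : M, b • m = 0 := by
  have hsub : ¬ Nontrivial (q.ResidueField ⊗[B] M) := by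
    intro hne
    obtain ⟨v, hv⟩ := exists_ne (0 : q.ResidueField ⊗[B] M)
    have hf0 : ∀ (f : Module.Dual q.ResidueField (q.ResidueField ⊗[B] M))
        (t : q.ResidueField ⊗[B] M), f t = 0 := by
      intro f t
      have hg : ∀ m : M, f ((1 : q.ResidueField) ⊗ₜ[B] m) = 0 := by
        intro m
        have := LinearMap.congr_fun
          (h ((f.restrictScalars B).comp (TensorProduct.mk B q.ResidueField M 1))) m
        simpa using this
      induction t using TensorProduct.induction_on with
      | zero => simp
      | tmul k m =>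
        have : k ⊗ₜ[B] m = k • ((1 : q.ResidueField) ⊗ₜ[B] m) := by
          rw [TensorProduct.smul_tmul', smul_eq_mul, mul_one]
        rw [this, map_smul, hg, smul_zero]
      | add a b ha hb => rw [map_add, ha, hb, add_zero]
    exact hv ((Module.forall_dual_apply_eq_zero_iff q.ResidueField v).mp (fun f => hf0 f v))
  have hns : (⟨q, inferInstance⟩ : PrimeSpectrum B) ∉ Module.support B M := by
    rw [Module.mem_support_iff_nontrivial_residueField_tensorProduct]
    exact hsub
  rw [Module.support_eq_zeroLocus, PrimeSpectrum.mem_zeroLocus, Set.not_subset] at hns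
  obtain ⟨b, hbann, hbq⟩ := hns
  exact ⟨b, hbq, fun m => Module.mem_annihilator.mp hbann m⟩

/-- Twisted diagram chase (abstract presentation `N' → F → N → 0` with `F` flat). -/
theorem chase_aux {R : Type u} [CommRing R] {I B P A N F N' : Type u}
    [AddCommGroup I] [AddCommGroup B] [AddCommGroup P] [AddCommGroup A] [AddCommGroup N]
    [AddCommGroup F] [AddCommGroup N']
    [Module R I] [Module R B] [Module R P] [Module R A] [Module R N] [Module R F] [Module R N']
    [Module.Flat R A] [Module.Flat R F]
    (i : I →ₗ[R] B) (p : B →ₗ[R] P) (ι : P →ₗ[R] A) (β : A →ₗ[R] P)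
    (bI : I →ₗ[R] I) (bB : B →ₗ[R] B)
    (hi : Function.Injective i) (hex : Function.Exact i p) (hsurj : Function.Surjective p)
    (h1 : ∀ y, β (ι (p y)) = p (bB y)) (h2 : ∀ x, i (bI x) = bB (i x))
    (j : N' →ₗ[R] F) (π : F →ₗ[R] N) (hj : Function.Injective j) (hjπ : Function.Exact j π)
    (hπ : Function.Surjective π)
    (z : I ⊗[R] N) (hz : i.rTensor N z = 0) : bI.rTensor N z = 0 := by
  obtain ⟨zt, rfl⟩ := LinearMap.lTensor_surjective I hπ z
  have c1 : ∀ t : I ⊗[R] F,
      π.lTensor B (i.rTensor _ t) = i.rTensor N (π.lTensor I t) := by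
    intro t
    induction t using TensorProduct.induction_on with
    | zero => simp
    | tmul x y => simp
    | add a b ha hb => simp only [map_add, ha, hb]
  have hw0 : π.lTensor B (i.rTensor _ zt) = 0 := by rw [c1, hz]
  have ex1 : Function.Exact (j.lTensor B) (π.lTensor B) :=
    @lTensor_exact R N' F N _ _ _ _ _ _ _ j π B _ _ hjπ hπ
  obtain ⟨w', hw'⟩ := (ex1 _).mp hw0
  have c2 : ∀ t : B ⊗[R] N',
      j.lTensor A ((ι ∘ₗ p).rTensor _ t) = (ι ∘ₗ p).rTensor _ (j.lTensor B t) := by
    intro t
    induction t using TensorProduct.induction_on with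
    | zero => simp
    | tmul x y => simp
    | add a b ha hb => simp only [map_add, ha, hb]
  have c3 : ∀ t : I ⊗[R] F, (ι ∘ₗ p).rTensor _ (i.rTensor _ t) = 0 := by
    intro t
    induction t using TensorProduct.induction_on with
    | zero => simp
    | tmul x y => simp [hex.apply_apply_eq_zero x]
    | add a b ha hb => simp only [map_add, ha, hb, add_zero]
  have hA : (ι ∘ₗ p).rTensor _ w' = 0 := by
    apply Module.Flat.lTensor_preserves_injective_linearMap (M := A) j hj
    rw [c2, hw', c3, map_zero]
  have c4 : ∀ t : B ⊗[R] N',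
      β.rTensor _ ((ι ∘ₗ p).rTensor _ t) = p.rTensor _ (bB.rTensor _ t) := by
    intro t
    induction t using TensorProduct.induction_on with
    | zero => simp
    | tmul x y => simp [h1]
    | add a b ha hb => simp only [map_add, ha, hb]
  have hP : p.rTensor _ (bB.rTensor _ w') = 0 := by rw [← c4, hA, map_zero]
  have ex2 : Function.Exact (i.rTensor N') (p.rTensor N') :=
    @rTensor_exact R I B P _ _ _ _ _ _ _ i p N' _ _ hex hsurj
  obtain ⟨w'', hw''⟩ := (ex2 _).mp hP
  have c5 : ∀ t : I ⊗[R] N',
      i.rTensor _ (j.lTensor I t) = j.lTensor B (i.rTensor _ t) := by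
    intro t
    induction t using TensorProduct.induction_on with
    | zero => simp
    | tmul x y => simp
    | add a b ha hb => simp only [map_add, ha, hb]
  have c6 : ∀ t : B ⊗[R] N',
      j.lTensor B (bB.rTensor _ t) = bB.rTensor _ (j.lTensor B t) := by
    intro t
    induction t using TensorProduct.induction_on with
    | zero => simp
    | tmul x y => simp
    | add a b ha hb => simp only [map_add, ha, hb]
  have c7 : ∀ t : I ⊗[R] F,
      bB.rTensor _ (i.rTensor _ t) = i.rTensor _ (bI.rTensor _ t) := by
    intro t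
    induction t using TensorProduct.induction_on with
    | zero => simp
    | tmul x y => simp [h2]
    | add a b ha hb => simp only [map_add, ha, hb]
  have hv : j.lTensor I w'' = bI.rTensor _ zt := by
    apply Module.Flat.rTensor_preserves_injective_linearMap (M := F) i hi
    rw [c5, hw'', c6, hw', c7]
  have c8 : ∀ t : I ⊗[R] F,
      bI.rTensor N (π.lTensor I t) = π.lTensor I (bI.rTensor _ t) := by
    intro t
    induction t using TensorProduct.induction_on with
    | zero => simp
    | tmul x y => simp
    | add a b ha hb => simp only [map_add, ha, hb]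
  have c9 : ∀ t : I ⊗[R] N', π.lTensor I (j.lTensor I t) = 0 := by
    intro t
    induction t using TensorProduct.induction_on with
    | zero => simp
    | tmul x y =>
      rw [LinearMap.lTensor_tmul, LinearMap.lTensor_tmul, hjπ.apply_apply_eq_zero y,
        TensorProduct.tmul_zero]
    | add a b ha hb => simp only [map_add, ha, hb, add_zero]
  rw [c8, ← hv, c9]

/-- Twisted diagram chase: `0 → I → B → P → 0` exact, `P ⊆ A` with `A` flat and `b A ⊆ P`.
Then `b` kills the kernel of `I ⊗ N → B ⊗ N`. -/
theorem chase {R : Type u} [CommRing R] {I B P A N : Type u}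
    [AddCommGroup I] [AddCommGroup B] [AddCommGroup P] [AddCommGroup A] [AddCommGroup N]
    [Module R I] [Module R B] [Module R P] [Module R A] [Module R N] [Module.Flat R A]
    (i : I →ₗ[R] B) (p : B →ₗ[R] P) (ι : P →ₗ[R] A) (β : A →ₗ[R] P)
    (bI : I →ₗ[R] I) (bB : B →ₗ[R] B)
    (hi : Function.Injective i) (hex : Function.Exact i p) (hsurj : Function.Surjective p)
    (h1 : ∀ y, β (ι (p y)) = p (bB y)) (h2 : ∀ x, i (bI x) = bB (i x))
    (z : I ⊗[R] N) (hz : i.rTensor N z = 0) : bI.rTensor N z = 0 :=
  chase_aux (F := N →₀ R) (N' := LinearMap.ker (Finsupp.linearCombination R (id : N → N)))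
    i p ι β bI bB hi hex hsurj h1 h2
    (LinearMap.ker (Finsupp.linearCombination R (id : N → N))).subtype
    (Finsupp.linearCombination R (id : N → N)) Subtype.val_injective
    (LinearMap.exact_subtype_ker_map _) (Finsupp.linearCombination_id_surjective R N) z hz

/-- (RK) -/
theorem ring_key {R B A K : Type u} [CommRing R] [CommRing B] [CommRing A] [Field K]
    [Algebra R B] [Algebra B A] [Algebra R A] [IsScalarTower R B A] [Algebra R K]
    [IsNoetherianRing B] [Module.Finite B A] [Module.Flat R A]
    (q : Ideal B) [q.IsPrime]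
    (hq : q.comap (algebraMap R B) = RingHom.ker (algebraMap R K))
    (hbij : Function.Bijective
      (Algebra.TensorProduct.map (IsScalarTower.toAlgHom R B A) (AlgHom.id R K))) :
    ∃ b : B, b ∉ q ∧ ∀ (B' A' : Type u) [CommRing B'] [CommRing A'] [Algebra B B'] [Algebra A A']
      [IsLocalization.Away b B'] [IsLocalization.Away (algebraMap B A b) A'] (ψ : B' →+* A'),
      ψ.comp (algebraMap B B') = (algebraMap A A').comp (algebraMap B A) →
        Function.Bijective ψ := by
  classical
  have hker : RingHom.ker (algebraMap R q.ResidueField) = RingHom.ker (algebraMap R K) := by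
    rw [← hq]
    ext r
    rw [RingHom.mem_ker, Ideal.mem_comap, IsScalarTower.algebraMap_apply R B q.ResidueField,
      Ideal.algebraMap_residueField_eq_zero]
  haveI : Nontrivial (q.ResidueField ⊗[R] K) := nontrivial_tensor hker
  -- Step 1: the cokernel is killed by some `b1 ∉ q`.
  have step1 : ∃ b1, b1 ∉ q ∧ ∀ a : A, ∃ y : B, algebraMap B A y = b1 • a := by
    let Nn : Submodule B A := LinearMap.range (Algebra.linearMap B A)
    obtain ⟨b1, hb1q, hb1⟩ := exists_kill q (M := A ⧸ Nn) (fun g => by
      apply LinearMap.ext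
      intro c
      obtain ⟨a, rfl⟩ := Nn.mkQ_surjective c
      rw [LinearMap.zero_apply]
      apply tmul_one_eq_zero (R := R) (K := K)
      let G : A ⊗[R] K →ₗ[R] q.ResidueField ⊗[R] K :=
        LinearMap.rTensor K ((g.comp Nn.mkQ).restrictScalars R)
      have hG : ∀ t : B ⊗[R] K, G (Algebra.TensorProduct.map (IsScalarTower.toAlgHom R B A)
          (AlgHom.id R K) t) = 0 := by
        intro t
        induction t using TensorProduct.induction_on with
        | zero => simp
        | tmul b k =>
          have : (Submodule.Quotient.mk (algebraMap B A b) : A ⧸ Nn) = 0 :=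
            (Submodule.Quotient.mk_eq_zero Nn).mpr ⟨b, rfl⟩
          simp [G, this]
        | add x y hx hy => rw [map_add, map_add, hx, hy, add_zero]
      obtain ⟨t, ht⟩ := hbij.2 (a ⊗ₜ[R] (1 : K))
      have := hG t
      rw [ht] at this
      simpa [G] using this)
    refine ⟨b1, hb1q, fun a => ?_⟩
    have := hb1 (Nn.mkQ a)
    rw [← map_smul, Submodule.mkQ_apply, Submodule.Quotient.mk_eq_zero] at this
    obtain ⟨y, hy⟩ := LinearMap.mem_range.mp this
    exact ⟨y, hy⟩
  obtain ⟨b1, hb1q, hb1⟩ := step1
  -- Step 2: the kernel is killed by some `b2 ∉ q`.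
  have step2 : ∃ b2, b2 ∉ q ∧ ∀ x : B, algebraMap B A x = 0 → b2 * x = 0 := by
    let I : Ideal B := RingHom.ker (algebraMap B A)
    obtain ⟨b2, hb2q, hb2⟩ := exists_kill q (M := I) (fun g => by
      apply LinearMap.ext
      intro x
      rw [LinearMap.zero_apply]
      have key : g (b1 • x) = 0 := by
        apply tmul_one_eq_zero (R := R) (K := K)
        let iR : I →ₗ[R] B := I.subtype.restrictScalars R
        let φR : B →ₗ[R] A := (Algebra.linearMap B A).restrictScalars R
        let β : A →ₗ[R] LinearMap.range φR := LinearMap.codRestrict (LinearMap.range φR)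
          ((LinearMap.lsmul B A b1).restrictScalars R) (fun a => by
            obtain ⟨y, hy⟩ := hb1 a
            exact ⟨y, hy⟩)
        let bI : I →ₗ[R] I := (LinearMap.lsmul B I b1).restrictScalars R
        let bB : B →ₗ[R] B := (LinearMap.lsmul B B b1).restrictScalars R
        have hex : Function.Exact iR φR.rangeRestrict := by
          intro y
          constructor
          · intro hy
            have : algebraMap B A y = 0 := congrArg Subtype.val hy
            exact ⟨⟨y, (RingHom.mem_ker).mpr this⟩, rfl⟩
          · rintro ⟨x', rfl⟩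
            have hx' : algebraMap B A x'.1 = 0 := (RingHom.mem_ker).mp x'.2
            exact Subtype.ext hx'
        have h1 : ∀ y, β ((LinearMap.range φR).subtype (φR.rangeRestrict y)) =
            φR.rangeRestrict (bB y) := by
          intro y
          apply Subtype.ext
          show b1 • algebraMap B A y = algebraMap B A (b1 • y)
          rw [smul_eq_mul, map_mul, Algebra.smul_def]
        have h2 : ∀ x', iR (bI x') = bB (iR x') := fun x' => rfl
        have hz : iR.rTensor K (x ⊗ₜ[R] (1 : K)) = 0 := by
          apply hbij.1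
          rw [map_zero, LinearMap.rTensor_tmul, Algebra.TensorProduct.map_tmul]
          have : algebraMap B A x.1 = 0 := (RingHom.mem_ker).mp x.2
          show algebraMap B A x.1 ⊗ₜ[R] (1 : K) = 0
          rw [this, TensorProduct.zero_tmul]
        have h3 := chase iR φR.rangeRestrict (LinearMap.range φR).subtype β bI bB
          Subtype.val_injective hex φR.surjective_rangeRestrict h1 h2 _ hz
        have h4 := congrArg (LinearMap.rTensor K (g.restrictScalars R)) h3
        simpa [bI] using h4
      have hne : algebraMap B q.ResidueField b1 ≠ 0 := by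
        rwa [Ne, Ideal.algebraMap_residueField_eq_zero]
      rw [map_smul, Algebra.smul_def] at key
      exact (mul_eq_zero.mp key).resolve_left hne)
    refine ⟨b2, hb2q, fun x hx => ?_⟩
    have := congrArg Subtype.val (hb2 ⟨x, (RingHom.mem_ker).mpr hx⟩)
    simpa using this
  obtain ⟨b2, hb2q, hb2⟩ := step2
  refine ⟨b1 * b2, fun hmem => (Ideal.IsPrime.mem_or_mem inferInstance hmem).elim hb1q hb2q, ?_⟩
  intro B' A' _ _ _ _ _ _ ψ hψ
  have hψ' : ∀ x, ψ (algebraMap B B' x) = algebraMap A A' (algebraMap B A x) := fun x => by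
    simpa using RingHom.congr_fun hψ x
  have hu : IsUnit (algebraMap B B' (b1 * b2)) :=
    IsLocalization.Away.algebraMap_isUnit (b1 * b2)
  have hu1 : IsUnit (algebraMap B B' b1) := by
    have hu' := hu
    rw [map_mul] at hu'
    exact isUnit_of_mul_isUnit_left hu'
  constructor
  · rw [injective_iff_map_eq_zero]
    intro x' hx'
    obtain ⟨n, x, hx⟩ := IsLocalization.Away.surj (b1 * b2) x'
    have h0 : algebraMap A A' (algebraMap B A x) = 0 := by
      rw [← hψ', ← hx, map_mul, hx', zero_mul]
    obtain ⟨⟨_, k, rfl⟩, hk⟩ := (IsLocalization.map_eq_zero_iff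
      (Submonoid.powers (algebraMap B A (b1 * b2))) A' _).mp h0
    have h1 : algebraMap B A ((b1 * b2) ^ k * x) = 0 := by
      rw [map_mul, map_pow]
      exact hk
    have h2 := hb2 _ h1
    have h3 : algebraMap B B' (b1 * b2) ^ (k + 1) * algebraMap B B' x = 0 := by
      rw [← map_pow, ← map_mul]
      have : (b1 * b2) ^ (k + 1) * x = b1 * (b2 * ((b1 * b2) ^ k * x)) := by ring
      rw [this, h2, mul_zero, map_zero]
    have h4 : algebraMap B B' x = 0 := (hu.pow (k + 1)).mul_right_eq_zero.mp h3
    rw [h4] at hx
    exact (hu.pow n).mul_left_eq_zero.mp hx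
  · intro a'
    obtain ⟨n, a, ha⟩ := IsLocalization.Away.surj (algebraMap B A (b1 * b2)) a'
    obtain ⟨y, hy⟩ := hb1 a
    obtain ⟨v, hv⟩ := hu.exists_right_inv
    obtain ⟨v1, hv1⟩ := hu1.exists_right_inv
    refine ⟨algebraMap B B' y * v1 * v ^ n, ?_⟩
    have e1 : ψ (algebraMap B B' y) =
        ψ (algebraMap B B' b1) * (a' * ψ (algebraMap B B' (b1 * b2)) ^ n) := by
      rw [hψ', hψ', hψ', hy, ha, Algebra.smul_def, map_mul]
    have e2 : ψ (algebraMap B B' (b1 * b2)) * ψ v = 1 := by rw [← map_mul, hv, map_one]
    have e3 : ψ (algebraMap B B' b1) * ψ v1 = 1 := by rw [← map_mul, hv1, map_one]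
    calc ψ (algebraMap B B' y * v1 * v ^ n)
        = ψ (algebraMap B B' y) * ψ v1 * ψ v ^ n := by rw [map_mul, map_mul, map_pow]
      _ = a' * (ψ (algebraMap B B' b1) * ψ v1) * (ψ (algebraMap B B' (b1 * b2)) * ψ v) ^ n := by
          rw [e1, mul_pow]; ring
      _ = a' := by rw [e2, e3, one_pow, mul_one, mul_one]

end Groth.Agent.H54.IsoLoc_RK
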