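import Groth.Agent.H59.LefConn.Defs
import Groth.Agent.H8.UnitHom

/-!
# Piece (R1) of the S2946 squad (helper59)

`Lef.HomToFormalBijective 𝓙 O_T` implies that `Γ(T, O_T) → ∏ₙ Γ(V(𝓙^{n+1}), O)` is injective.
-/

set_option autoImplicit false
universe u
open CategoryTheory CategoryTheory.Limits AlgebraicGeometry
open Groth.Agent.H59.LefConn

namespace Groth.Agent.H54.LefConn_R1

variable {T : Scheme.{u}} (𝓙 : T.IdealSheafData)

/-- evaluating `φ ≫ (O_T ⟶ O_T/I)` at `1` is the restriction of `φ(1)` to `V(I)`. -/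
theorem comp_toSubscheme_app_top (I : T.IdealSheafData)
    (φ : Coh.structureModule T ⟶ Coh.structureModule T) (a : Γ(T, ⊤))
    (hφ : φ.app ⊤ (show Γ(Coh.structureModule T, ⊤) from (1 : Γ(T, ⊤))) =
      (show Γ(Coh.structureModule T, ⊤) from a)) :
    ((φ ≫ ClSub.toSubscheme I).app ⊤
      (show Γ(Coh.structureModule T, ⊤) from (1 : Γ(T, ⊤))) : Γ(ClSub.quotMod I, ⊤)) =
      I.subschemeι.appTop.hom a := by
  change (ClSub.toSubscheme I).app ⊤
    (φ.app ⊤ (show Γ(Coh.structureModule T, ⊤) from (1 : Γ(T, ⊤)))) = _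
  rw [hφ]
  rfl

theorem secInj_of_homToFormalBijective
    (h : Lef.HomToFormalBijective 𝓙 (Coh.structureModule T)) : SecInj 𝓙 := by
  intro a b hab
  have hev := Groth.Agent.H8.unit_hom_ev_bijective T (Coh.structureModule T)
  obtain ⟨φa, hφa⟩ := hev.2 (show Γ(Coh.structureModule T, ⊤) from a)
  obtain ⟨φb, hφb⟩ := hev.2 (show Γ(Coh.structureModule T, ⊤) from b)
  have hφa' : φa.app ⊤ (show Γ(Coh.structureModule T, ⊤) from (1 : Γ(T, ⊤))) =
      (show Γ(Coh.structureModule T, ⊤) from a) := hφa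
  have hφb' : φb.app ⊤ (show Γ(Coh.structureModule T, ⊤) from (1 : Γ(T, ⊤))) =
      (show Γ(Coh.structureModule T, ⊤) from b) := hφb
  have hφ : φa = φb := by
    apply h.1
    intro n
    apply (Groth.Agent.H8.unit_hom_ev_bijective T (ClSub.quotMod (𝓙 ^ (n + 1)))).1
    change ((φa ≫ ClSub.toSubscheme (𝓙 ^ (n + 1))).app ⊤
      (show Γ(Coh.structureModule T, ⊤) from (1 : Γ(T, ⊤))) : Γ(ClSub.quotMod (𝓙 ^ (n + 1)), ⊤)) =
      ((φb ≫ ClSub.toSubscheme (𝓙 ^ (n + 1))).app ⊤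
      (show Γ(Coh.structureModule T, ⊤) from (1 : Γ(T, ⊤))) : Γ(ClSub.quotMod (𝓙 ^ (n + 1)), ⊤))
    rw [comp_toSubscheme_app_top _ φa a hφa', comp_toSubscheme_app_top _ φb b hφb']
    exact hab n
  rw [hφ] at hφa'
  exact hφa'.symm.trans hφb'

end Groth.Agent.H54.LefConn_R1
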