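import Groth.Agent.H59.LefConn.Defs
import Groth.Agent.H8.UnitHom
import Groth.Agent.H54.LefConn_R1

/-!
# Piece (R2) of the S2946 squad (helper59)

`Lef.HomToFormalBijective 𝓙 O_T` implies that `Γ(T, O_T) → limₙ Γ(V(𝓙^{n+1}), O)` is surjective.
-/

set_option autoImplicit false
universe u
open CategoryTheory CategoryTheory.Limits AlgebraicGeometry
open Groth.Agent.H59.LefConn

namespace Groth.Agent.H54.LefConn_R2

/-- `pushforwardCongr` is the identity on global sections. -/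
theorem pushforwardCongr_app_top {X Y : Scheme.{u}} {f g : X ⟶ Y} (hf : f = g) (M : X.Modules)
    (s : Γ(M, ⊤)) :
    (((Scheme.Modules.pushforwardCongr hf).hom.app M).app ⊤
      (show Γ((Scheme.Modules.pushforward f).obj M, ⊤) from s) :
        Γ((Scheme.Modules.pushforward g).obj M, ⊤)) =
      (show Γ((Scheme.Modules.pushforward g).obj M, ⊤) from s) := by
  subst hf
  have h0 : ((Scheme.Modules.pushforwardCongr (rfl : f = f)).hom.app M).app ⊤ = 𝟙 _ := by
    rw [Scheme.Modules.pushforwardCongr_hom_app_app]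
    rw [eqToHom_refl, op_id, CategoryTheory.Functor.map_id]
    rfl
  rw [h0]
  rfl

variable {T : Scheme.{u}} (𝓙 : T.IdealSheafData)

/-- the quotient map `O/I ⟶ O/J` is the restriction `Γ(V(I)) ⟶ Γ(V(J))` on global sections. -/
theorem quotMap_app_top {I J : T.IdealSheafData} (h : I ≤ J) (s : Γ(I.subscheme, ⊤)) :
    ((Lef.quotMap h).app ⊤ (show Γ(ClSub.quotMod I, ⊤) from s) : Γ(ClSub.quotMod J, ⊤)) =
      (Scheme.IdealSheafData.inclusion h).appTop.hom s := by
  have h1 := pushforwardCongr_app_top (Scheme.IdealSheafData.inclusion_subschemeι h)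
    (Coh.structureModule J.subscheme)
    (show Γ(Coh.structureModule J.subscheme, ⊤) from
      (Scheme.IdealSheafData.inclusion h).appTop.hom s)
  exact h1

theorem secSurj_of_homToFormalBijective
    (h : Lef.HomToFormalBijective 𝓙 (Coh.structureModule T)) : SecSurj 𝓙 := by
  intro y hy
  have hev : ∀ n : ℕ, Function.Bijective
      (fun φ : Coh.structureModule T ⟶ ClSub.quotMod (𝓙 ^ (n + 1)) =>
        (φ.app ⊤ (show Γ(Coh.structureModule T, ⊤) from (1 : Γ(T, ⊤))) :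
          Γ(ClSub.quotMod (𝓙 ^ (n + 1)), ⊤))) :=
    fun n => Groth.Agent.H8.unit_hom_ev_bijective T _
  choose ψ hψ using
    (fun n : ℕ => (hev n).2 (show Γ(ClSub.quotMod (𝓙 ^ (n + 1)), ⊤) from y n))
  have hψ' : ∀ n : ℕ, (ψ n).app ⊤ (show Γ(Coh.structureModule T, ⊤) from (1 : Γ(T, ⊤))) =
      (show Γ(ClSub.quotMod (𝓙 ^ (n + 1)), ⊤) from y n) := hψ
  have hformal : Lef.IsFormalHom 𝓙 (Coh.structureModule T) ψ := by
    intro n
    apply (hev n).1
    change ((Lef.quotMap (Lef.pow_succ_le 𝓙 n)).app ⊤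
      ((ψ (n + 1)).app ⊤ (show Γ(Coh.structureModule T, ⊤) from (1 : Γ(T, ⊤)))) :
        Γ(ClSub.quotMod (𝓙 ^ (n + 1)), ⊤)) =
      (ψ n).app ⊤ (show Γ(Coh.structureModule T, ⊤) from (1 : Γ(T, ⊤)))
    rw [hψ' (n + 1), hψ' n]
    exact (quotMap_app_top (Lef.pow_succ_le 𝓙 n) (y (n + 1))).trans (hy n)
  obtain ⟨φ, hφ⟩ := h.2 ψ hformal
  let a : Γ(T, ⊤) := φ.app ⊤ (show Γ(Coh.structureModule T, ⊤) from (1 : Γ(T, ⊤)))
  refine ⟨a, fun n => ?_⟩
  have h1 := Groth.Agent.H54.LefConn_R1.comp_toSubscheme_app_top (𝓙 ^ (n + 1)) φ a rfl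
  rw [hφ n] at h1
  exact h1.symm.trans (hψ' n)

end Groth.Agent.H54.LefConn_R2
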