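import Mathlib
import Groth.Agent.H14.SepField
import Groth.Agent.S5016

set_option autoImplicit false

universe u

open scoped TensorProduct

namespace Groth.Agent.H54.OmegaRank_P1

/-- The differentials of the residue field `L` of a localisation of `A` are spanned by the
`d a`, `a ∈ A`. -/
theorem span_D_eq_top (R A Ap L : Type u) [CommRing R] [CommRing A] [CommRing Ap] [Field L]
    [Algebra R A] [Algebra A Ap] [Algebra Ap L] [Algebra A L] [IsScalarTower A Ap L]
    [Algebra R L] [IsScalarTower R A L]
    (M : Submonoid A) [IsLocalization M Ap]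
    (hsurj : Function.Surjective (algebraMap Ap L)) :
    Submodule.span L (Set.range fun a : A => KaehlerDifferential.D R L (algebraMap A L a)) = ⊤ := by
  rw [eq_top_iff, ← KaehlerDifferential.span_range_derivation R L, Submodule.span_le]
  rintro _ ⟨l, rfl⟩
  obtain ⟨x, rfl⟩ := hsurj l
  obtain ⟨⟨a, s⟩, hx⟩ := IsLocalization.surj M x
  have hL : algebraMap Ap L x * algebraMap A L (s : A) = algebraMap A L a := by
    rw [IsScalarTower.algebraMap_apply A Ap L, IsScalarTower.algebraMap_apply A Ap L, ← map_mul]
    exact congrArg _ hx
  have hs : IsUnit (algebraMap A L (s : A)) := by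
    rw [IsScalarTower.algebraMap_apply A Ap L]
    exact (IsLocalization.map_units Ap s).map (algebraMap Ap L)
  have hD := congrArg (KaehlerDifferential.D R L) hL
  rw [Derivation.leibniz] at hD
  set W := Submodule.span L
    (Set.range fun a : A => KaehlerDifferential.D R L (algebraMap A L a)) with hWdef
  have h1 : algebraMap A L (s : A) • KaehlerDifferential.D R L (algebraMap Ap L x) ∈ W := by
    have h2 : algebraMap A L (s : A) • KaehlerDifferential.D R L (algebraMap Ap L x) =
        KaehlerDifferential.D R L (algebraMap A L a) -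
          algebraMap Ap L x • KaehlerDifferential.D R L (algebraMap A L (s : A)) := by
      rw [← hD]; abel
    rw [h2]
    exact W.sub_mem (Submodule.subset_span ⟨a, rfl⟩)
      (W.smul_mem _ (Submodule.subset_span ⟨(s : A), rfl⟩))
  have h3 := W.smul_mem ((hs.unit⁻¹ : Lˣ) : L) h1
  rwa [smul_smul, IsUnit.val_inv_mul, one_smul] at h3

/-- (P1) -/
theorem exists_linearIndependent_mapBaseChange
    (R A B Ap L K : Type u) [Field R] [CommRing A] [CommRing B] [CommRing Ap] [Field L] [Field K]
    [Algebra R A] [Algebra A B] [Algebra R B] [IsScalarTower R A B]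
    [Algebra B K] [Algebra A K] [Algebra R K] [IsScalarTower A B K] [IsScalarTower R A K]
    [IsScalarTower R B K]
    [Algebra A Ap] [Algebra Ap L] [Algebra A L] [IsScalarTower A Ap L]
    [Algebra R L] [IsScalarTower R A L]
    [Algebra L K] [IsScalarTower A L K] [IsScalarTower R L K]
    (M : Submonoid A) [IsLocalization M Ap]
    (hsurj : Function.Surjective (algebraMap Ap L))
    (hinj : Function.Injective (algebraMap B K))
    [Algebra.FormallySmooth L K] [Algebra.FiniteType R A]
    (m : ℕ) (hm : Algebra.trdeg R L = (m : Cardinal.{u}))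
    {d : ℕ} (e : Fin d → B ⊗[A] Ω[A⁄R]) (he : Submodule.span B (Set.range e) = ⊤) :
    ∃ σ : Fin m → Fin d, LinearIndependent B
      (fun j => KaehlerDifferential.mapBaseChange R A B (e (σ j))) := by
  classical
  haveI : Algebra.EssFiniteType A Ap := Algebra.EssFiniteType.of_isLocalization Ap M
  haveI : Algebra.FiniteType Ap L := Algebra.FiniteType.of_surjective (Algebra.ofId Ap L) hsurj
  haveI : Algebra.EssFiniteType A L := Algebra.EssFiniteType.comp A Ap L
  haveI : Algebra.EssFiniteType R L := Algebra.EssFiniteType.comp R A L
  obtain ⟨hfin, hmle, -⟩ := Groth.Agent.H14.SepField.field_lemma R L m hm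
  haveI := hfin
  have hW := span_D_eq_top R A Ap L M hsurj
  let ψ : B ⊗[A] Ω[A⁄R] →ₗ[B] Ω[K⁄R] :=
    (KaehlerDifferential.map R R B K).comp (KaehlerDifferential.mapBaseChange R A B)
  let v : Fin d → Ω[K⁄R] := fun i => ψ (e i)
  let V' : Submodule K Ω[K⁄R] := Submodule.span K (Set.range v)
  haveI : Module.Finite K V' := FiniteDimensional.span_of_finite K (Set.finite_range v)
  have hψD : ∀ a : A, ψ (1 ⊗ₜ KaehlerDifferential.D R A a) =
      KaehlerDifferential.D R K (algebraMap A K a) := by
    intro a
    simp only [ψ, LinearMap.comp_apply, KaehlerDifferential.mapBaseChange_tmul, one_smul,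
      KaehlerDifferential.map_D]
    rw [← IsScalarTower.algebraMap_apply A B K]
  have hψV : ∀ t : B ⊗[A] Ω[A⁄R], ψ t ∈ V' := by
    intro t
    have ht : t ∈ Submodule.span B (Set.range e) := by rw [he]; trivial
    induction ht using Submodule.span_induction with
    | mem x hx =>
      obtain ⟨i, rfl⟩ := hx
      exact Submodule.subset_span ⟨i, rfl⟩
    | zero => rw [map_zero]; exact V'.zero_mem
    | add x y _ _ hx hy => rw [map_add]; exact V'.add_mem hx hy
    | smul b x _ hx => rw [map_smul, ← algebraMap_smul K b]; exact V'.smul_mem _ hx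
  have hDK : ∀ a : A, KaehlerDifferential.D R K (algebraMap A K a) ∈ V' := by
    intro a
    rw [← hψD a]
    exact hψV _
  have hΘinj : Function.Injective (KaehlerDifferential.mapBaseChange R L K) :=
    Groth.Agent.S5016.mapBaseChange_injective R L K
  have hmapV : ∀ ω : Ω[L⁄R], KaehlerDifferential.map R R L K ω ∈ V' := by
    intro ω
    have hω : ω ∈ Submodule.span L
        (Set.range fun a : A => KaehlerDifferential.D R L (algebraMap A L a)) := by
      rw [hW]; trivial
    induction hω using Submodule.span_induction with
    | mem x hx =>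
      obtain ⟨a, rfl⟩ := hx
      rw [KaehlerDifferential.map_D, ← IsScalarTower.algebraMap_apply A L K]
      exact hDK a
    | zero => rw [map_zero]; exact V'.zero_mem
    | add x y _ _ hx hy => rw [map_add]; exact V'.add_mem hx hy
    | smul l x _ hx => rw [map_smul, ← algebraMap_smul K l]; exact V'.smul_mem _ hx
  have hΘV : ∀ t : K ⊗[L] Ω[L⁄R], KaehlerDifferential.mapBaseChange R L K t ∈ V' := by
    intro t
    induction t using TensorProduct.induction_on with
    | zero => rw [map_zero]; exact V'.zero_mem
    | tmul k ω =>
      rw [KaehlerDifferential.mapBaseChange_tmul]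
      exact V'.smul_mem _ (hmapV ω)
    | add x y hx hy => rw [map_add]; exact V'.add_mem hx hy
  have hdim : m ≤ Module.finrank K V' := by
    have h1 : Module.finrank K (K ⊗[L] Ω[L⁄R]) ≤ Module.finrank K V' :=
      LinearMap.finrank_le_finrank_of_injective
        (f := LinearMap.codRestrict V' (KaehlerDifferential.mapBaseChange R L K) hΘV)
        (fun x y hxy => hΘinj (congrArg Subtype.val hxy))
    rw [Module.finrank_baseChange] at h1
    exact hmle.trans h1
  obtain ⟨b, hbsub, hbspan, hbli⟩ := exists_linearIndependent K (Set.range v)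
  haveI : Fintype b := (Set.Finite.subset (Set.finite_range v) hbsub).fintype
  have hcard : Module.finrank K V' = Fintype.card b := by
    show Module.finrank K (Submodule.span K (Set.range v)) = _
    rw [← hbspan, finrank_span_set_eq_card hbli, Set.toFinset_card]
  have hmb : Fintype.card (Fin m) ≤ Fintype.card b := by
    rw [Fintype.card_fin, ← hcard]
    exact hdim
  obtain ⟨emb⟩ := Function.Embedding.nonempty_of_card_le hmb
  have hch : ∀ j : Fin m, ∃ i : Fin d, v i = ((emb j : b) : Ω[K⁄R]) := fun j => hbsub (emb j).2
  choose σ hσ using hch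
  refine ⟨σ, ?_⟩
  have hK : LinearIndependent K (fun j => v (σ j)) := by
    have h5 := hbli.comp emb emb.injective
    have h6 : (fun j => v (σ j)) = (Subtype.val : b → Ω[K⁄R]) ∘ emb := by
      funext j
      exact hσ j
    rw [h6]
    exact h5
  have hinj' : Function.Injective fun r : B => r • (1 : K) := by
    intro x y hxy
    apply hinj
    rw [Algebra.algebraMap_eq_smul_one, Algebra.algebraMap_eq_smul_one]
    exact hxy
  have hB : LinearIndependent B (fun j => v (σ j)) := hK.restrict_scalars hinj'
  exact LinearIndependent.of_comp (KaehlerDifferential.map R R B K) hB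

end Groth.Agent.H54.OmegaRank_P1
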