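import Mathlib
import Groth.Agent.H63.GenericSmooth
import Groth.Agent.H38.GeomRedDescent
import Groth.Agent.S2266

set_option autoImplicit false

universe u

open CategoryTheory CategoryTheory.Limits AlgebraicGeometry

namespace Groth.Agent.H54.OmegaRank_P2

theorem isPullback_id_of_mono {C : Type*} [Category C] {X I Z : C} (g : X ⟶ I) (i : I ⟶ Z)
    [Mono i] : IsPullback (𝟙 X) g (g ≫ i) i :=
  IsPullback.of_isLimit' ⟨by rw [Category.id_comp]⟩
    (PullbackCone.IsLimit.mk _ (fun s => s.fst) (fun s => Category.comp_id _)
      (fun s => by rw [← cancel_mono i, Category.assoc, s.condition])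
      (fun s m h1 _ => by rw [← h1, Category.comp_id]))

theorem isIso_residue_of_isField {X : Scheme.{u}} (x : X) (h : IsField (X.presheaf.stalk x)) :
    IsIso (X.residue x) := by
  rw [ConcreteCategory.isIso_iff_bijective]
  constructor
  · show Function.Injective (IsLocalRing.residue (X.presheaf.stalk x))
    rw [RingHom.injective_iff_ker_eq_bot, IsLocalRing.ker_residue]
    exact IsLocalRing.isField_iff_maximalIdeal_eq.mp h
  · show Function.Surjective (IsLocalRing.residue (X.presheaf.stalk x))
    exact IsLocalRing.residue_surjective

theorem isIso_residueFieldMap_of_isClosedImmersion {I Z : Scheme.{u}} (i : I ⟶ Z)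
    [IsClosedImmersion i] (y : I) : IsIso (i.residueFieldMap y) := by
  rw [ConcreteCategory.isIso_iff_bijective]
  constructor
  · exact (i.residueFieldMap y).hom.injective
  · have h1 : Function.Surjective (i.stalkMap y ≫ I.residue y).hom := by
      rw [CommRingCat.hom_comp, RingHom.coe_comp]
      exact (show Function.Surjective (IsLocalRing.residue (I.presheaf.stalk y)) from
        IsLocalRing.residue_surjective).comp (i.stalkMap_surjective y)
    rw [← Scheme.residue_residueFieldMap, CommRingCat.hom_comp, RingHom.coe_comp] at h1
    exact Function.Surjective.of_comp h1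

theorem formallySmooth_residueFieldMap_of_stalkMap {X Y : Scheme.{u}} (g : X ⟶ Y) (x : X)
    (hX : IsField (X.presheaf.stalk x)) (hY : IsField (Y.presheaf.stalk (g x)))
    (h : (g.stalkMap x).hom.FormallySmooth) : (g.residueFieldMap x).hom.FormallySmooth := by
  haveI := isIso_residue_of_isField x hX
  haveI := isIso_residue_of_isField (g x) hY
  have h1 : ((X.residue x).hom.comp (g.stalkMap x).hom).FormallySmooth :=
    (RingHom.FormallySmooth.respectsIso.cancel_right_isIso (g.stalkMap x) (X.residue x)).mpr h
  rw [← CommRingCat.hom_comp, ← Scheme.residue_residueFieldMap, CommRingCat.hom_comp] at h1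
  exact (RingHom.FormallySmooth.respectsIso.cancel_left_isIso (Y.residue (g x))
    (g.residueFieldMap x)).mp h1

theorem main_aux {X I Z : Scheme.{u}} [IsIntegral X] [IsIntegral I] (g : X ⟶ I) (i : I ⟶ Z)
    [IsClosedImmersion i] [IsDominant g] [LocallyOfFinitePresentation g]
    (hsep : GeometricallyReduced
      ((g ≫ i).fiberToSpecResidueField ((g ≫ i).base (genericPoint X)))) :
    ((g ≫ i).residueFieldMap (genericPoint X)).hom.FormallySmooth := by
  have hsq := isPullback_id_of_mono g i
  have hsep' : GeometricallyReduced (g.fiberToSpecResidueField (g (genericPoint X))) :=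
    (Groth.Agent.H38.GeomRedDescent.fiber_geometricallyReduced_iff hsq
      (g (genericPoint X))).mpr hsep
  have hsm := Groth.Agent.H63.GenericSmooth.genericPoint_mem_smoothLocus X I g hsep'
  rw [Scheme.Hom.mem_smoothLocus] at hsm
  have hη : g (genericPoint X) = genericPoint I := by
    have h1 := (genericPoint_spec X).image g.continuous
    rw [Set.image_univ, g.denseRange.closure_range] at h1
    exact h1.eq (genericPoint_spec I)
  have hX : IsField (X.presheaf.stalk (genericPoint X)) := Field.toIsField X.functionField
  have hI : IsField (I.presheaf.stalk (g (genericPoint X))) := by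
    rw [hη]
    exact Field.toIsField I.functionField
  have h1 := formallySmooth_residueFieldMap_of_stalkMap g _ hX hI hsm
  rw [Scheme.residueFieldMap_comp]
  haveI := isIso_residueFieldMap_of_isClosedImmersion i (g (genericPoint X))
  exact (RingHom.FormallySmooth.respectsIso.cancel_left_isIso
    (i.residueFieldMap (g (genericPoint X))) (g.residueFieldMap (genericPoint X))).mpr h1

theorem key {X I Z : Scheme.{u}} [IsIntegral X] [IsIntegral I] (g : X ⟶ I) (i : I ⟶ Z)
    (f : X ⟶ Z) (hf : g ≫ i = f)
    [IsClosedImmersion i] [IsDominant g] [LocallyOfFinitePresentation g]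
    (hsep : GeometricallyReduced (f.fiberToSpecResidueField (f.base (genericPoint X)))) :
    (f.residueFieldMap (genericPoint X)).hom.FormallySmooth := by
  subst hf
  exact main_aux g i hsep

/-- (P2) -/
theorem formallySmooth_residueFieldMap_genericPoint {X Z : Scheme.{u}} [IsIntegral X]
    (f : X ⟶ Z) [QuasiCompact f] [LocallyOfFiniteType f] [IsLocallyNoetherian Z]
    (hsep : GeometricallyReduced (f.fiberToSpecResidueField (f.base (genericPoint X)))) :
    (f.residueFieldMap (genericPoint X)).hom.FormallySmooth := by
  haveI : IsReduced f.image := (Groth.Agent.S2266.result f).1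
  haveI : IrreducibleSpace f.image := (Groth.Agent.S2266.result f).2 inferInstance inferInstance
  haveI : IsIntegral f.image := isIntegral_of_irreducibleSpace_of_isReduced _
  haveI : LocallyOfFiniteType (f.toImage ≫ f.imageι) := by
    rw [f.toImage_imageι]; infer_instance
  haveI : LocallyOfFiniteType f.toImage := locallyOfFiniteType_of_comp f.toImage f.imageι
  haveI : IsLocallyNoetherian f.image := LocallyOfFiniteType.isLocallyNoetherian f.imageι
  haveI : LocallyOfFinitePresentation f.toImage :=
    LocallyOfFinitePresentation.iff_locallyOfFiniteType.mpr inferInstance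
  exact key f.toImage f.imageι f f.toImage_imageι hsep

end Groth.Agent.H54.OmegaRank_P2
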