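import Mathlib
import Groth.Prelude.Def_EGA4b
import Groth.Prelude.Def_CAlg
import Groth.Agent.H15.SerreNormal
import Groth.Agent.H15.Depth
import Groth.Agent.H15.DepthLoc

/-! (K2) for helper59's S16668 squad: Serre's `S₂` for a normal Noetherian domain, in global
explicit form. -/

set_option autoImplicit false
universe u
open RingTheory.Sequence IsLocalRing
open Groth.Agent.H15.Depth

namespace Groth.Agent.H54.PowSec_K2

/-- (K2) Serre's `S₂` for a normal Noetherian domain, in global explicit form. -/
theorem exists_regular_pair_of_normal (R : Type u) [CommRing R] [IsDomain R] [IsNoetherianRing R]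
    [IsIntegrallyClosed R] (q : Ideal R) [q.IsPrime] (hq : 2 ≤ q.height) :
    ∃ a b : R, a ∈ q ∧ b ∈ q ∧ IsWeaklyRegular R [a, b] := by
  have hqbot : q ≠ ⊥ := by
    rintro rfl
    rw [Ideal.height_bot] at hq
    exact absurd hq (by norm_num)
  obtain ⟨a, haq, ha0⟩ := Submodule.exists_mem_ne_zero_of_ne_bot hqbot
  have hreg : IsSMulRegular R a := fun x y h => mul_left_cancel₀ ha0 h
  rcases exists_regular_or_hasSocle (I := q) (QuotSMulTop a R) with ⟨b, hbq, hb⟩ | hsoc
  · exact ⟨a, b, haq, hbq, (isWeaklyRegular_cons_iff R a [b]).mpr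
      ⟨hreg, (isWeaklyRegular_singleton_iff _ b).mpr hb⟩⟩
  · exfalso
    obtain ⟨Q, hQ, hqQ, hsocQ⟩ := exists_prime_hasSocle_of_hasSocle (QuotSMulTop a R) hsoc
    haveI := hQ
    haveI : IsDomain (Localization.AtPrime Q) :=
      IsLocalization.isDomain_localization Q.primeCompl_le_nonZeroDivisors
    haveI : IsIntegrallyClosed (Localization.AtPrime Q) :=
      isIntegrallyClosed_of_isLocalization (S := Localization.AtPrime Q) Q.primeCompl
        Q.primeCompl_le_nonZeroDivisors
    have hht : (maximalIdeal (Localization.AtPrime Q)).height = Q.height := by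
      have e : (((maximalIdeal (Localization.AtPrime Q)).height : ℕ∞) : WithBot ℕ∞) =
          ((Q.height : ℕ∞) : WithBot ℕ∞) := by
        rw [IsLocalRing.maximalIdeal_height_eq_ringKrullDim,
          IsLocalization.AtPrime.ringKrullDim_eq_height Q (Localization.AtPrime Q)]
      exact WithBot.coe_injective e
    have h2 : 2 ≤ (maximalIdeal (Localization.AtPrime Q)).height := by
      rw [hht]
      exact le_trans hq (Ideal.height_mono hqQ)
    have hseq2 : HasSeq (maximalIdeal (Localization.AtPrime Q)) (Localization.AtPrime Q) 2 := by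
      rcases Groth.Agent.H15.SerreNormal.hasSeq_of_normal (Localization.AtPrime Q) with
        hbot | ⟨-, h | hle⟩
      · rw [hbot, Ideal.height_bot] at h2
        exact absurd h2 (by norm_num)
      · exact h
      · exact absurd (le_trans h2 hle) (by norm_num)
    have hxm : algebraMap R (Localization.AtPrime Q) a ∈ maximalIdeal (Localization.AtPrime Q) :=
      (IsLocalization.AtPrime.to_map_mem_maximal_iff (Localization.AtPrime Q) Q a).mpr (hqQ haq)
    have hx0 : algebraMap R (Localization.AtPrime Q) a ≠ 0 := by
      intro h0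
      apply ha0
      exact (IsLocalization.injective (Localization.AtPrime Q) Q.primeCompl_le_nonZeroDivisors)
        (by rw [h0, map_zero])
    have hxreg : IsSMulRegular (Localization.AtPrime Q) (algebraMap R (Localization.AtPrime Q) a) :=
      fun y z h => mul_left_cancel₀ hx0 h
    have hseq1 : HasSeq (maximalIdeal (Localization.AtPrime Q))
        (QuotSMulTop (algebraMap R (Localization.AtPrime Q) a) (Localization.AtPrime Q)) 1 :=
      hasSeq_quot_of_hasSeq_succ hxm hxreg hseq2
    obtain ⟨y, hym, hyreg, -⟩ := hasSeq_succ_iff.mp hseq1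
    have E : LocalizedModule Q.primeCompl (QuotSMulTop a R) ≃ₗ[Localization.AtPrime Q]
        QuotSMulTop (algebraMap R (Localization.AtPrime Q) a) (Localization.AtPrime Q) :=
      (locQuotEquiv Q.primeCompl R a) ≪≫ₗ
        QuotSMulTop.congr (algebraMap R (Localization.AtPrime Q) a)
          (Groth.Agent.S0602.locSelfEquiv Q.primeCompl)
    exact (hsocQ.congr E).not_regular hym hyreg

end Groth.Agent.H54.PowSec_K2
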