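import Mathlib

/-! (K3b) for helper59's S16668 squad: a pair which is weakly regular on the two ends of a short
exact sequence is weakly regular on the middle. -/

set_option autoImplicit false
universe u
open RingTheory.Sequence
open scoped Pointwise

namespace Groth.Agent.H54.PowSec_K3b

/-- Elementwise form of weak regularity of a pair. -/
theorem pair_iff {S : Type u} [CommRing S] {M : Type u} [AddCommGroup M] [Module S M] (a b : S) :
    IsWeaklyRegular M [a, b] ↔
      (∀ m : M, a • m = 0 → m = 0) ∧ (∀ m n : M, b • m = a • n → ∃ w : M, m = a • w) := by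
  have h1 : IsWeaklyRegular M [a, b] ↔ IsSMulRegular M a ∧ IsSMulRegular (QuotSMulTop a M) b := by
    rw [isWeaklyRegular_cons_iff, isWeaklyRegular_singleton_iff]
  have h2 : IsSMulRegular (QuotSMulTop a M) b ↔
      ∀ x : M, b • x ∈ (a • ⊤ : Submodule S M) → x ∈ (a • ⊤ : Submodule S M) :=
    isSMulRegular_quotient_iff_mem_of_smul_mem (a • ⊤ : Submodule S M) b
  rw [h1, h2, isSMulRegular_iff_right_eq_zero_of_smul]
  refine and_congr Iff.rfl ⟨fun h m n hmn => ?_, fun h m hm => ?_⟩
  · obtain ⟨w, -, hw⟩ := (Submodule.mem_smul_pointwise_iff_exists _ _ _).mp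
      (h m ((Submodule.mem_smul_pointwise_iff_exists _ _ _).mpr ⟨n, trivial, hmn.symm⟩))
    exact ⟨w, hw.symm⟩
  · obtain ⟨n, -, hn⟩ := (Submodule.mem_smul_pointwise_iff_exists _ _ _).mp hm
    obtain ⟨w, hw⟩ := h m n hn.symm
    exact (Submodule.mem_smul_pointwise_iff_exists _ _ _).mpr ⟨w, trivial, hw.symm⟩

/-- (K3b) a pair which is regular on the two ends of a short exact sequence is regular on the
middle. -/
theorem isWeaklyRegular_pair_of_exact {S : Type u} [CommRing S] {M' M M'' : Type u}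
    [AddCommGroup M'] [Module S M'] [AddCommGroup M] [Module S M] [AddCommGroup M''] [Module S M'']
    (i : M' →ₗ[S] M) (π : M →ₗ[S] M'') (hi : Function.Injective i) (hπ : Function.Surjective π)
    (hex : Function.Exact i π) (a b : S) (h' : IsWeaklyRegular M' [a, b])
    (h'' : IsWeaklyRegular M'' [a, b]) : IsWeaklyRegular M [a, b] := by
  rw [pair_iff] at h' h'' ⊢
  obtain ⟨h'1, h'2⟩ := h'
  obtain ⟨h''1, h''2⟩ := h''
  have hker : ∀ m : M, π m = 0 → ∃ m' : M', i m' = m := fun m hm => (hex m).mp hm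
  have hπi : ∀ m', π (i m') = 0 := fun m' => (hex (i m')).mpr ⟨m', rfl⟩
  refine ⟨fun m hm => ?_, fun m n hmn => ?_⟩
  · have h1 : π m = 0 := h''1 _ (by rw [← π.map_smul, hm, map_zero])
    obtain ⟨m', rfl⟩ := hker m h1
    have h2 : m' = 0 := h'1 _ (hi (by rw [i.map_smul, hm, map_zero]))
    rw [h2, map_zero]
  · obtain ⟨y'', hy''⟩ := h''2 (π m) (π n) (by rw [← π.map_smul, ← π.map_smul, hmn])
    obtain ⟨y, rfl⟩ := hπ y''
    obtain ⟨m', hm'⟩ := hker (m - a • y) (by rw [map_sub, π.map_smul, hy'', sub_self])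
    have hz : π (n - b • y) = 0 := by
      apply h''1
      rw [← π.map_smul, smul_sub, ← hmn, smul_comm a b y, ← smul_sub, π.map_smul, ← hm', hπi,
        smul_zero]
    obtain ⟨z', hz'⟩ := hker _ hz
    have hbm' : b • m' = a • z' := by
      apply hi
      rw [i.map_smul, i.map_smul, hm', hz', smul_sub, smul_sub, hmn, smul_comm b a y]
    obtain ⟨w', hw'⟩ := h'2 m' z' hbm'
    refine ⟨y + i w', ?_⟩
    rw [smul_add, ← i.map_smul, ← hw', hm']
    abel

end Groth.Agent.H54.PowSec_K3b
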