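import Mathlib

/-! (K3c) for helper59's S16668 squad: a weakly regular sequence on `M` is weakly regular on a
finite power of `M`. -/

set_option autoImplicit false
universe u
open RingTheory.Sequence

namespace Groth.Agent.H54.PowSec_K3c

theorem mem_smul_top_pi {S : Type u} [CommRing S] {M : Type u} [AddCommGroup M] [Module S M]
    (ι : Type) [Finite ι] (I : Ideal S) (f : ι → M) :
    f ∈ (I • ⊤ : Submodule S (ι → M)) ↔ ∀ j, f j ∈ (I • ⊤ : Submodule S M) := by
  constructor
  · intro hf j
    have h := Submodule.mem_map_of_mem (f := (LinearMap.proj j : (ι → M) →ₗ[S] M)) hf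
    rw [Submodule.map_smul''] at h
    exact Submodule.smul_mono le_rfl le_top h
  · intro hf
    classical
    cases nonempty_fintype ι
    rw [← Finset.univ_sum_single f]
    refine Submodule.sum_mem _ fun j _ => ?_
    have h := Submodule.mem_map_of_mem (f := LinearMap.single S (fun _ : ι => M) j) (hf j)
    rw [Submodule.map_smul''] at h
    exact Submodule.smul_mono le_rfl le_top h

/-- (K3c) a weakly regular sequence on `M` is weakly regular on a power of `M`. -/
theorem isWeaklyRegular_pi {S : Type u} [CommRing S] {M : Type u} [AddCommGroup M] [Module S M]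
    (ι : Type) [Finite ι] (rs : List S) (h : IsWeaklyRegular M rs) :
    IsWeaklyRegular (ι → M) rs := by
  rw [isWeaklyRegular_iff] at h ⊢
  intro i hi
  rw [isSMulRegular_quotient_iff_mem_of_smul_mem]
  intro f hf
  rw [mem_smul_top_pi] at hf ⊢
  intro j
  exact (isSMulRegular_quotient_iff_mem_of_smul_mem _ _).mp (h i hi) (f j) (hf j)

end Groth.Agent.H54.PowSec_K3c
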