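import Mathlib
import Groth.Prelude.Def_SGA1
import Groth.Agent.H69.QuotBasis

/-!
# (AQ) Quotient of an affine scheme by a finite group exists (helper79, S2907 squad)

`Y := Spec Γ(V, ⊤)^G`, `q := V.toSpecΓ ≫ Spec.map (Γ(V, ⊤)^G ↪ Γ(V, ⊤))`; then apply
`Groth.Agent.H69.QuotBasis.isQuot_of_isAffine`.
-/

set_option autoImplicit false
universe u
open CategoryTheory CategoryTheory.Limits AlgebraicGeometry

namespace Groth.Agent.H54.QuotGlue_AQ

/-- The subring of `G`-invariant global sections. -/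
def invSubring {V : Scheme.{u}} {G : Type u} [Group G] (ρ : G →* Aut V) : Subring Γ(V, ⊤) where
  carrier := {t | ∀ g : G, (ρ g).hom.appTop.hom t = t}
  mul_mem' := fun {a b} ha hb g => by
    have h1 : (ρ g).hom.appTop.hom a = a := ha g
    have h2 : (ρ g).hom.appTop.hom b = b := hb g
    change (ρ g).hom.appTop.hom (a * b) = a * b
    rw [map_mul, h1, h2]
  one_mem' := fun g => map_one _
  add_mem' := fun {a b} ha hb g => by
    have h1 : (ρ g).hom.appTop.hom a = a := ha g
    have h2 : (ρ g).hom.appTop.hom b = b := hb g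
    change (ρ g).hom.appTop.hom (a + b) = a + b
    rw [map_add, h1, h2]
  zero_mem' := fun g => map_zero _
  neg_mem' := fun {a} ha g => by
    have h1 : (ρ g).hom.appTop.hom a = a := ha g
    change (ρ g).hom.appTop.hom (-a) = -a
    rw [map_neg, h1]

theorem exists_isQuot_of_isAffine {V : Scheme.{u}} [IsAffine V] {G : Type u} [Group G] [Finite G] (ρ : G →* Aut V) : ∃ (Y : Scheme.{u}) (q : V ⟶ Y), IsAffine Y ∧ SGA1.IsQuot ρ q := by
  let B : Subring Γ(V, ⊤) := invSubring ρ
  let ι : CommRingCat.of B ⟶ Γ(V, ⊤) := CommRingCat.ofHom B.subtype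
  have hι : ∀ g : G, ι ≫ (ρ g).hom.appTop = ι := by
    intro g
    ext b
    exact b.2 g
  have happ : (V.toSpecΓ ≫ Spec.map ι).appTop =
      (Scheme.ΓSpecIso (CommRingCat.of B)).hom ≫ ι := by
    rw [Scheme.Hom.comp_appTop, Scheme.toSpecΓ_appTop, Scheme.ΓSpecIso_naturality]
  have hbij : Function.Bijective (Scheme.ΓSpecIso (CommRingCat.of B)).hom.hom :=
    ConcreteCategory.bijective_of_isIso (Scheme.ΓSpecIso (CommRingCat.of B)).hom
  refine ⟨Spec (CommRingCat.of B), V.toSpecΓ ≫ Spec.map ι, inferInstance, ?_⟩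
  apply Groth.Agent.H69.QuotBasis.isQuot_of_isAffine
  · intro g
    rw [← Category.assoc, Scheme.toSpecΓ_naturality, Category.assoc, ← Spec.map_comp, hι g]
  · rw [happ]
    intro x y hxy
    have h1 : B.subtype ((Scheme.ΓSpecIso (CommRingCat.of B)).hom.hom x) =
        B.subtype ((Scheme.ΓSpecIso (CommRingCat.of B)).hom.hom y) := hxy
    exact hbij.1 (Subtype.val_injective h1)
  · intro t ht
    rw [happ]
    obtain ⟨s, hs⟩ := hbij.2 (⟨t, ht⟩ : B)
    refine ⟨s, ?_⟩
    change B.subtype ((Scheme.ΓSpecIso (CommRingCat.of B)).hom.hom s) = t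
    rw [hs]
    rfl

end Groth.Agent.H54.QuotGlue_AQ
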