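import Mathlib
import Groth.Agent.H29.RAU.Defs
import Groth.Agent.H17.StalkSeq
import Groth.Agent.H17.ReflSheaf

/-!
# (ISOU) for helper29's S1370 squad: the relative associated points, hence `EU`, are invariant
under isomorphism of modules.
-/

set_option autoImplicit false
universe u
open AlgebraicGeometry CategoryTheory Limits TopologicalSpace
open Groth.Agent.H29.RAU

namespace Groth.Agent.H54.RAU_ISOU

theorem relAss_eq_of_iso {X S : Scheme.{u}} (f : X ⟶ S) {F F' : X.Modules} (e : F ≅ F') :
    MoreMor.relAss f F = MoreMor.relAss f F' := by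
  ext x
  let φ : F.presheaf.stalk x ≃ₗ[X.presheaf.stalk x] F'.presheaf.stalk x :=
    LinearEquiv.ofBijective (Groth.Agent.H17.StalkSeq.stalkMapₗ e.hom x)
      (Groth.Agent.H17.ReflSheaf.stalkMap_bijective_of_isIso e.hom x)
  have hmap : ∀ I : Ideal (X.presheaf.stalk x),
      (I • (⊤ : Submodule (X.presheaf.stalk x) (F.presheaf.stalk x))).map
        (φ : F.presheaf.stalk x →ₗ[X.presheaf.stalk x] F'.presheaf.stalk x) =
      I • (⊤ : Submodule (X.presheaf.stalk x) (F'.presheaf.stalk x)) := by
    intro I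
    rw [Submodule.map_smul'', Submodule.map_top, LinearEquiv.range]
  show IsAssociatedPrime _ _ ↔ IsAssociatedPrime _ _
  exact LinearEquiv.isAssociatedPrime_iff (Submodule.Quotient.equiv _ _ φ (hmap _))

/-- (ISOU) -/
theorem eu_congr_iso {X S : Scheme.{u}} (f : X ⟶ S) {F F' : X.Modules} (e : F ≅ F')
    (U : X.Opens) : EU f F U = EU f F' U := by
  unfold EU
  rw [relAss_eq_of_iso f e]

end Groth.Agent.H54.RAU_ISOU
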