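import Mathlib

/-! (A) for helper23's S7295 squad: `Lan` along a representably flat functor between large
categories preserves monomorphisms of abelian presheaves.  The general part
(`lan_preservesMono`) only needs that `colim` over every `CostructuredArrow L K` preserves
monomorphisms. -/

set_option autoImplicit false
open CategoryTheory CategoryTheory.Limits Opposite
universe u

namespace Groth.Agent.H54.RestrInj_A

section General
universe v₁ v₂ v₃ v₄ u₁ u₂ u₃ u₄

variable {C : Type u₁} [Category.{v₁} C] {D : Type u₂} [Category.{v₂} D]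
  {E : Type u₃} [Category.{v₃} E]

/-- If `colim` preserves monos, so does `IsColimit.map` between arbitrary colimit cocones. -/
theorem mono_isColimit_map {J : Type u₄} [Category.{v₄} J] [HasColimitsOfShape J E]
    [(colim : (J ⥤ E) ⥤ E).PreservesMonomorphisms]
    {F F' : J ⥤ E} (α : F ⟶ F') (hα : ∀ j, Mono (α.app j)) {c : Cocone F} (hc : IsColimit c)
    {c' : Cocone F'} (hc' : IsColimit c') : Mono (hc.map c' α) := by
  haveI : Mono α := NatTrans.mono_of_mono_app α
  have key : hc.map c' α = (hc.coconePointUniqueUpToIso (colimit.isColimit F)).hom ≫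
      colim.map α ≫ ((colimit.isColimit F').coconePointUniqueUpToIso hc').hom := by
    apply hc.hom_ext
    intro j
    rw [IsColimit.ι_map, IsColimit.comp_coconePointUniqueUpToIso_hom_assoc]
    simp
  rw [key]
  infer_instance

/-- The value of `L.lan.map f` at `K`, as `IsColimit.map` of the pointwise colimit cocones. -/
theorem lan_map_app_eq (L : C ⥤ D) [∀ F : C ⥤ E, L.HasPointwiseLeftKanExtension F]
    {P Q : C ⥤ E} (f : P ⟶ Q) (K : D) :
    (L.lan.map f).app K =
      (Functor.isPointwiseLeftKanExtensionLeftKanExtensionUnit L P K).map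
        ((Functor.LeftExtension.mk _ (L.leftKanExtensionUnit Q)).coconeAt K)
        (Functor.whiskerLeft (CostructuredArrow.proj L K) f) := by
  apply (Functor.isPointwiseLeftKanExtensionLeftKanExtensionUnit L P K).hom_ext
  intro T
  refine Eq.trans ?_ (IsColimit.ι_map
    (Functor.isPointwiseLeftKanExtensionLeftKanExtensionUnit L P K)
    ((Functor.LeftExtension.mk _ (L.leftKanExtensionUnit Q)).coconeAt K)
    (Functor.whiskerLeft (CostructuredArrow.proj L K) f) T).symm
  have h₂ : f.app T.left ≫ (L.leftKanExtensionUnit Q).app T.left =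
      (L.leftKanExtensionUnit P).app T.left ≫ (L.lan.map f).app (L.obj T.left) :=
    congr_app (L.lanUnit.naturality f) T.left
  have h₃ : (L.leftKanExtension P).map T.hom ≫ (L.lan.map f).app K =
      (L.lan.map f).app (L.obj T.left) ≫ (L.leftKanExtension Q).map T.hom :=
    (L.lan.map f).naturality T.hom
  exact calc ((L.leftKanExtensionUnit P).app T.left ≫ (L.leftKanExtension P).map T.hom) ≫
        (L.lan.map f).app K
      = (L.leftKanExtensionUnit P).app T.left ≫
          ((L.leftKanExtension P).map T.hom ≫ (L.lan.map f).app K) := Category.assoc _ _ _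
    _ = (L.leftKanExtensionUnit P).app T.left ≫
          ((L.lan.map f).app (L.obj T.left) ≫ (L.leftKanExtension Q).map T.hom) :=
        congrArg (fun z => (L.leftKanExtensionUnit P).app T.left ≫ z) h₃
    _ = ((L.leftKanExtensionUnit P).app T.left ≫ (L.lan.map f).app (L.obj T.left)) ≫
          (L.leftKanExtension Q).map T.hom := (Category.assoc _ _ _).symm
    _ = (f.app T.left ≫ (L.leftKanExtensionUnit Q).app T.left) ≫
          (L.leftKanExtension Q).map T.hom :=
        congrArg (fun z => z ≫ (L.leftKanExtension Q).map T.hom) h₂.symm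
    _ = f.app T.left ≫ ((L.leftKanExtensionUnit Q).app T.left ≫
          (L.leftKanExtension Q).map T.hom) := Category.assoc _ _ _

/-- `L.lan` preserves monomorphisms as soon as `colim` over every `CostructuredArrow L K`
does (and monos of functors are pointwise monos). -/
theorem lan_preservesMono (L : C ⥤ D) [∀ F : C ⥤ E, L.HasPointwiseLeftKanExtension F]
    [HasPullbacks E]
    [∀ K : D, HasColimitsOfShape (CostructuredArrow L K) E]
    [∀ K : D, (colim : (CostructuredArrow L K ⥤ E) ⥤ E).PreservesMonomorphisms] :
    (L.lan : (C ⥤ E) ⥤ (D ⥤ E)).PreservesMonomorphisms where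
  preserves {P Q} f hf := by
    haveI : ∀ K, Mono ((L.lan.map f).app K) := by
      intro K
      rw [lan_map_app_eq]
      exact mono_isColimit_map _ (fun T => show Mono (f.app T.left) from inferInstance) _
        (Functor.isPointwiseLeftKanExtensionLeftKanExtensionUnit L Q K)
    exact NatTrans.mono_of_mono_app _

end General

/-- (A) Lan along a representably flat functor between LARGE categories preserves monos of
abelian presheaves. -/
theorem lan_preservesMono_of_flat {C D : Type (u + 1)} [Category.{u} C] [Category.{u} D]
    (G : C ⥤ D) [RepresentablyFlat G] :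
    (G.op.lan : (Cᵒᵖ ⥤ AddCommGrpCat.{u + 1}) ⥤
      (Dᵒᵖ ⥤ AddCommGrpCat.{u + 1})).PreservesMonomorphisms := by
  haveI : ∀ K : Dᵒᵖ, (colim : (CostructuredArrow G.op K ⥤ AddCommGrpCat.{u + 1}) ⥤
      AddCommGrpCat.{u + 1}).PreservesMonomorphisms := by
    intro K
    haveI : IsFiltered (CostructuredArrow G.op K) :=
      IsFiltered.of_equivalence (structuredArrowOpEquivalence G (unop K))
    haveI : AB5OfSize.{u, u + 1} AddCommGrpCat.{u + 1} :=
      AB5OfSize_shrink.{u, u + 1, u + 1, u + 1} AddCommGrpCat.{u + 1}
    haveI := HasExactColimitsOfShape.preservesFiniteLimits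
      (J := CostructuredArrow G.op K) (C := AddCommGrpCat.{u + 1})
    infer_instance
  exact lan_preservesMono G.op

end Groth.Agent.H54.RestrInj_A
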