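import Groth.Agent.H54.ZMT
import Groth.Agent.H54.Extend
import Mathlib.AlgebraicGeometry.Normalization
import Mathlib.AlgebraicGeometry.ZariskisMainTheorem
import Mathlib.AlgebraicGeometry.Morphisms.Separated

set_option autoImplicit false
universe u

namespace Groth.Agent.H54

open AlgebraicGeometry CategoryTheory Limits

/-- If `U` is a dense open, the inclusion `U ⊓ V ⟶ V` is dominant. -/
lemma isDominant_homOfLE_inf {X : Scheme.{u}} (U V : X.Opens) (hU : Dense (U : Set X)) :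
    IsDominant (X.homOfLE (inf_le_right : U ⊓ V ≤ V)) := by
  constructor
  have hpre : Dense (V.ι ⁻¹' (U : Set X)) := hU.preimage V.ι.isOpenEmbedding.isOpenMap
  show Dense (Set.range (X.homOfLE (inf_le_right : U ⊓ V ≤ V)))
  refine hpre.mono ?_
  intro v hv
  have hv' : v.1 ∈ U := hv
  refine ⟨⟨v.1, ⟨hv', v.2⟩⟩, ?_⟩
  apply V.ι.isOpenEmbedding.injective
  rw [← Scheme.Hom.comp_apply, X.homOfLE_ι]
  rfl

/-- A section of an integral morphism over a nonempty retrocompact open of a normal integral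
scheme extends to a global section. -/
theorem exists_section_of_quasiCompact {X X' : Scheme.{u}} [IsIntegral X]
    (hN : ∀ x : X, IsIntegrallyClosed (X.presheaf.stalk x))
    (g : X' ⟶ X) [IsIntegralHom g] (U : X.Opens) [Nonempty U] [QuasiCompact U.ι]
    (s : (U : Scheme.{u}) ⟶ X') (hs : s ≫ g = U.ι) :
    ∃ s' : X ⟶ X', s' ≫ g = 𝟙 X ∧ U.ι ≫ s' = s := by
  haveI : IsIntegral (U : Scheme.{u}) := inferInstance
  have hfac := U.ι.toNormalization_fromNormalization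
  have ht : U.ι.toNormalization (genericPoint (U : Scheme.{u})) = genericPoint U.ι.normalization :=
    genericPoint_eq_of_isOpenImmersion U.ι.toNormalization
  have hUη : U.ι (genericPoint (U : Scheme.{u})) = genericPoint X :=
    genericPoint_eq_of_isOpenImmersion U.ι
  have hgen' : U.ι.fromNormalization (genericPoint U.ι.normalization) = genericPoint X := by
    rw [← ht, ← Scheme.Hom.comp_apply, hfac, hUη]
  have hbir' : IsIso (U.ι.fromNormalization.stalkMap (genericPoint U.ι.normalization)) := by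
    have h1 : IsIso ((U.ι.toNormalization ≫ U.ι.fromNormalization).stalkMap
        (genericPoint (U : Scheme.{u}))) := by
      rw [hfac]; infer_instance
    rw [Scheme.Hom.stalkMap_comp] at h1
    have h2 : IsIso (U.ι.fromNormalization.stalkMap
        (U.ι.toNormalization (genericPoint (U : Scheme.{u})))) :=
      @IsIso.of_isIso_comp_right _ _ _ _ _
        (U.ι.fromNormalization.stalkMap (U.ι.toNormalization (genericPoint (U : Scheme.{u}))))
        (U.ι.toNormalization.stalkMap (genericPoint (U : Scheme.{u}))) inferInstance h1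
    rw [ht] at h2; exact h2
  haveI := isIso_of_isIntegralHom_of_birational hN U.ι.fromNormalization hgen' hbir'
  refine ⟨inv U.ι.fromNormalization ≫ U.ι.normalizationDesc s g hs.symm, ?_, ?_⟩
  · rw [Category.assoc, U.ι.normalizationDesc_comp, IsIso.inv_hom_id]
  · have h3 : U.ι ≫ inv U.ι.fromNormalization = U.ι.toNormalization := by
      rw [IsIso.comp_inv_eq]; exact hfac.symm
    rw [← Category.assoc, h3, U.ι.toNormalization_normalizationDesc]

/-- The local version of the extension of a rational section of an integral morphism over a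
normal integral scheme: on an affine open `W` (or an open inside `U`). -/
theorem exists_section_on_open {X X' : Scheme.{u}} [IsIntegral X]
    (hN : ∀ x : X, IsIntegrallyClosed (X.presheaf.stalk x))
    (g : X' ⟶ X) [IsIntegralHom g] (U : X.Opens) (hU : Dense (U : Set X))
    (s : (U : Scheme.{u}) ⟶ X') (hs : s ≫ g = U.ι) (W : X.Opens)
    (hW : IsAffineOpen W ∨ W ≤ U) :
    ∃ F : (W : Scheme.{u}) ⟶ X', F ≫ g = W.ι ∧
      X.homOfLE (inf_le_right : U ⊓ W ≤ W) ≫ F = X.homOfLE (inf_le_left : U ⊓ W ≤ U) ≫ s := by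
  by_cases hWU : W ≤ U
  · refine ⟨X.homOfLE hWU ≫ s, ?_, ?_⟩
    · rw [Category.assoc, hs, X.homOfLE_ι]
    · rw [← Category.assoc, X.homOfLE_homOfLE]
  have hWa : IsAffineOpen W := hW.resolve_right hWU
  have hWne : Nonempty W := by
    by_contra hne
    exact hWU fun x hx => (hne ⟨⟨x, hx⟩⟩).elim
  haveI := hWne
  haveI : IsIntegral (W : Scheme.{u}) := inferInstance
  haveI : IsAffine (W : Scheme.{u}) := hWa
  have hNW : ∀ w : (W : Scheme.{u}), IsIntegrallyClosed ((W : Scheme.{u}).presheaf.stalk w) :=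
    fun w => by
      haveI := hN (W.ι w)
      exact IsIntegrallyClosed.of_equiv (asIso (W.ι.stalkMap w)).commRingCatIsoToRingEquiv
  haveI : IsIntegralHom (g ∣_ W) :=
    IsZariskiLocalAtTarget.restrict (P := @IsIntegralHom) (inferInstance : IsIntegralHom g) W
  -- the generic point
  have hηU : genericPoint X ∈ U := by
    obtain ⟨x, hx⟩ := hU.nonempty
    exact ((genericPoint_spec X).mem_open_set_iff U.2).mpr ⟨x, trivial, hx⟩
  have hWη : W.ι (genericPoint (W : Scheme.{u})) = genericPoint X :=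
    genericPoint_eq_of_isOpenImmersion W.ι
  have hηW : genericPoint X ∈ W := by
    rw [← hWη]; exact (genericPoint (W : Scheme.{u})).2
  have hηUW : genericPoint (W : Scheme.{u}) ∈ W.ι ⁻¹ᵁ U := by
    show W.ι (genericPoint (W : Scheme.{u})) ∈ U
    rw [hWη]; exact hηU
  obtain ⟨D, hD, hηD, hDU⟩ := exists_isAffineOpen_mem_and_subset (X := (W : Scheme.{u})) hηUW
  haveI : Nonempty D := ⟨⟨_, hηD⟩⟩
  haveI : IsAffine (D : Scheme.{u}) := hD
  haveI : QuasiCompact D.ι := inferInstance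
  have hrange : Set.range (D.ι ≫ W.ι) ⊆ Set.range U.ι := by
    rintro _ ⟨d, rfl⟩
    rw [Scheme.Opens.range_ι, Scheme.Hom.comp_apply]
    exact hDU d.2
  obtain ⟨j, hj⟩ : ∃ j, j ≫ U.ι = D.ι ≫ W.ι := ⟨_, IsOpenImmersion.lift_fac _ _ hrange⟩
  have ht : (j ≫ s) ≫ g = D.ι ≫ W.ι := by rw [Category.assoc, hs, hj]
  have hrange' : Set.range (j ≫ s) ⊆ Set.range (g ⁻¹ᵁ W).ι := by
    rintro _ ⟨d, rfl⟩
    rw [Scheme.Opens.range_ι]
    show g ((j ≫ s) d) ∈ W
    rw [← Scheme.Hom.comp_apply, ht, Scheme.Hom.comp_apply]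
    exact (D.ι d).2
  obtain ⟨sD, hsD⟩ : ∃ sD, sD ≫ (g ⁻¹ᵁ W).ι = j ≫ s := ⟨_, IsOpenImmersion.lift_fac _ _ hrange'⟩
  have hsec : sD ≫ (g ∣_ W) = D.ι := by
    rw [← cancel_mono W.ι, Category.assoc, morphismRestrict_ι, ← Category.assoc, hsD, ht]
  obtain ⟨s', h1, h2⟩ := exists_section_of_quasiCompact hNW (g ∣_ W) D sD hsec
  have hFg : (s' ≫ (g ⁻¹ᵁ W).ι) ≫ g = W.ι := by
    rw [Category.assoc, ← morphismRestrict_ι, ← Category.assoc, h1, Category.id_comp]
  refine ⟨s' ≫ (g ⁻¹ᵁ W).ι, hFg, ?_⟩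
  haveI : Nonempty ↥((U ⊓ W : X.Opens) : Scheme.{u}) := ⟨⟨genericPoint X, hηU, hηW⟩⟩
  have hrι : Set.range (D.ι ≫ W.ι) ⊆ Set.range (U ⊓ W).ι := by
    rintro _ ⟨d, rfl⟩
    rw [Scheme.Opens.range_ι, Scheme.Hom.comp_apply]
    exact ⟨hDU d.2, (D.ι d).2⟩
  obtain ⟨ι, hι⟩ : ∃ ι, ι ≫ (U ⊓ W).ι = D.ι ≫ W.ι := ⟨_, IsOpenImmersion.lift_fac _ _ hrι⟩
  haveI : IsOpenImmersion ι := by
    haveI : IsOpenImmersion (ι ≫ (U ⊓ W).ι) := by rw [hι]; infer_instance
    exact IsOpenImmersion.of_comp ι (U ⊓ W).ι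
  haveI : IsIntegral ((U ⊓ W : X.Opens) : Scheme.{u}) := isIntegral_of_isOpenImmersion (U ⊓ W).ι
  haveI : IsDominant ι :=
    ⟨(ι.isOpenEmbedding.isOpen_range.dense (Set.range_nonempty _) : Dense (Set.range ι))⟩
  have e1 : ι ≫ X.homOfLE (inf_le_right : U ⊓ W ≤ W) = D.ι := by
    rw [← cancel_mono W.ι, Category.assoc, X.homOfLE_ι, hι]
  have e2 : ι ≫ X.homOfLE (inf_le_left : U ⊓ W ≤ U) = j := by
    rw [← cancel_mono U.ι, Category.assoc, X.homOfLE_ι, hι, hj]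
  refine ext_of_isDominant_of_isSeparated g ?_ ι ?_
  · rw [Category.assoc, hFg, X.homOfLE_ι, Category.assoc, hs, X.homOfLE_ι]
  · have l : ι ≫ X.homOfLE (inf_le_right : U ⊓ W ≤ W) ≫ (s' ≫ (g ⁻¹ᵁ W).ι) = j ≫ s := by
      rw [← Category.assoc, e1, ← Category.assoc, h2, hsD]
    have r : ι ≫ X.homOfLE (inf_le_left : U ⊓ W ≤ U) ≫ s = j ≫ s := by
      rw [← Category.assoc, e2]
    exact l.trans r.symm

/-- Let `X` be an integral normal scheme, `g : X' ⟶ X` an integral morphism, `U` a dense open of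
`X` and `s` a section of `g` over `U`. Then `s` extends to a section of `g` over `X`. -/
theorem exists_section_of_isIntegralHom {X X' : Scheme.{u}} [IsIntegral X]
    (hN : ∀ x : X, IsIntegrallyClosed (X.presheaf.stalk x))
    (g : X' ⟶ X) [IsIntegralHom g] (U : X.Opens) (hU : Dense (U : Set X))
    (s : (U : Scheme.{u}) ⟶ X') (hs : s ≫ g = U.ι) :
    ∃ s' : X ⟶ X', s' ≫ g = 𝟙 X ∧ U.ι ≫ s' = s := by
  classical
  have hloc : ∀ W : {W : X.Opens // IsAffineOpen W ∨ W ≤ U},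
      ∃ F : ((W.1 : X.Opens) : Scheme.{u}) ⟶ X', F ≫ g = W.1.ι ∧
        X.homOfLE (inf_le_right : U ⊓ W.1 ≤ W.1) ≫ F =
          X.homOfLE (inf_le_left : U ⊓ W.1 ≤ U) ≫ s :=
    fun W => exists_section_on_open hN g U hU s hs W.1 W.2
  choose F hFg hFs using hloc
  have hcompat : ∀ W W' : {W : X.Opens // IsAffineOpen W ∨ W ≤ U},
      X.homOfLE (inf_le_left : W.1 ⊓ W'.1 ≤ W.1) ≫ F W =
        X.homOfLE (inf_le_right : W.1 ⊓ W'.1 ≤ W'.1) ≫ F W' := by
    intro W W'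
    haveI := isDominant_homOfLE_inf U (W.1 ⊓ W'.1) hU
    refine ext_of_isDominant_of_isSeparated g ?_
      (X.homOfLE (inf_le_right : U ⊓ (W.1 ⊓ W'.1) ≤ W.1 ⊓ W'.1)) ?_
    · rw [Category.assoc, hFg, X.homOfLE_ι, Category.assoc, hFg, X.homOfLE_ι]
    · have l : X.homOfLE (inf_le_right : U ⊓ (W.1 ⊓ W'.1) ≤ W.1 ⊓ W'.1) ≫
          X.homOfLE (inf_le_left : W.1 ⊓ W'.1 ≤ W.1) ≫ F W =
          X.homOfLE (inf_le_left : U ⊓ (W.1 ⊓ W'.1) ≤ U) ≫ s := by
        have hle : U ⊓ (W.1 ⊓ W'.1) ≤ U ⊓ W.1 := inf_le_inf_left _ inf_le_left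
        rw [← Category.assoc, X.homOfLE_homOfLE,
          ← X.homOfLE_homOfLE hle (inf_le_right : U ⊓ W.1 ≤ W.1), Category.assoc, hFs W,
          ← Category.assoc, X.homOfLE_homOfLE]
      have r : X.homOfLE (inf_le_right : U ⊓ (W.1 ⊓ W'.1) ≤ W.1 ⊓ W'.1) ≫
          X.homOfLE (inf_le_right : W.1 ⊓ W'.1 ≤ W'.1) ≫ F W' =
          X.homOfLE (inf_le_left : U ⊓ (W.1 ⊓ W'.1) ≤ U) ≫ s := by
        have hle : U ⊓ (W.1 ⊓ W'.1) ≤ U ⊓ W'.1 := inf_le_inf_left _ inf_le_right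
        rw [← Category.assoc, X.homOfLE_homOfLE,
          ← X.homOfLE_homOfLE hle (inf_le_right : U ⊓ W'.1 ≤ W'.1), Category.assoc, hFs W',
          ← Category.assoc, X.homOfLE_homOfLE]
      exact l.trans r.symm
  obtain ⟨G, hG⟩ := glue_family
    (fun W : {W : X.Opens // IsAffineOpen W ∨ W ≤ U} => W.1) F hcompat
  have hTtop : (⨆ W : {W : X.Opens // IsAffineOpen W ∨ W ≤ U}, W.1) = ⊤ := by
    rw [eq_top_iff, ← iSup_affineOpens_eq_top X]
    exact iSup_le fun W =>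
      le_iSup (fun W : {W : X.Opens // IsAffineOpen W ∨ W ≤ U} => W.1) ⟨W.1, Or.inl W.2⟩
  haveI : IsIso (⨆ W : {W : X.Opens // IsAffineOpen W ∨ W ≤ U}, W.1).ι := by
    rw [isIso_iff_isOpenImmersion_and_surjective]
    refine ⟨inferInstance, ⟨fun x => ⟨⟨x, hTtop ▸ trivial⟩, rfl⟩⟩⟩
  have hGg : G ≫ g = (⨆ W : {W : X.Opens // IsAffineOpen W ∨ W ≤ U}, W.1).ι := by
    refine Scheme.Cover.hom_ext (Scheme.Opens.iSupOpenCover
      (fun W : {W : X.Opens // IsAffineOpen W ∨ W ≤ U} => W.1)) _ _ fun W => ?_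
    show X.homOfLE (le_iSup (fun W : {W : X.Opens // IsAffineOpen W ∨ W ≤ U} => W.1) W) ≫ G ≫ g =
      X.homOfLE (le_iSup (fun W : {W : X.Opens // IsAffineOpen W ∨ W ≤ U} => W.1) W) ≫ _
    rw [← Category.assoc, hG W, X.homOfLE_ι]
    exact hFg W
  refine ⟨inv (⨆ W : {W : X.Opens // IsAffineOpen W ∨ W ≤ U}, W.1).ι ≫ G, ?_, ?_⟩
  · rw [Category.assoc, hGg, IsIso.inv_hom_id]
  · let u₀ : {W : X.Opens // IsAffineOpen W ∨ W ≤ U} := ⟨U, Or.inr le_rfl⟩
    have hUT : U ≤ ⨆ W : {W : X.Opens // IsAffineOpen W ∨ W ≤ U}, W.1 :=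
      le_iSup (fun W : {W : X.Opens // IsAffineOpen W ∨ W ≤ U} => W.1) u₀
    have h1 : U.ι ≫ inv (⨆ W : {W : X.Opens // IsAffineOpen W ∨ W ≤ U}, W.1).ι =
        X.homOfLE hUT := by
      rw [IsIso.comp_inv_eq, X.homOfLE_ι]
    have h2 : F u₀ = s := by
      have h3 : X.homOfLE (inf_le_right : U ⊓ U ≤ U) ≫ F u₀ =
          X.homOfLE (inf_le_left : U ⊓ U ≤ U) ≫ s := hFs u₀
      have hUU : U ≤ U ⊓ U := le_inf le_rfl le_rfl
      have e : X.homOfLE hUU ≫ X.homOfLE (inf_le_right : U ⊓ U ≤ U) = 𝟙 _ := by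
        rw [X.homOfLE_homOfLE]; exact X.homOfLE_rfl U
      have e' : X.homOfLE hUU ≫ X.homOfLE (inf_le_left : U ⊓ U ≤ U) = 𝟙 _ := by
        rw [X.homOfLE_homOfLE]; exact X.homOfLE_rfl U
      calc F u₀ = (X.homOfLE hUU ≫ X.homOfLE (inf_le_right : U ⊓ U ≤ U)) ≫ F u₀ := by
            rw [e, Category.id_comp]
        _ = X.homOfLE hUU ≫ (X.homOfLE (inf_le_left : U ⊓ U ≤ U) ≫ s) := by
            rw [Category.assoc, h3]
        _ = s := by rw [← Category.assoc, e', Category.id_comp]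
    calc U.ι ≫ inv (⨆ W : {W : X.Opens // IsAffineOpen W ∨ W ≤ U}, W.1).ι ≫ G
        = (U.ι ≫ inv (⨆ W : {W : X.Opens // IsAffineOpen W ∨ W ≤ U}, W.1).ι) ≫ G :=
          (Category.assoc _ _ _).symm
      _ = X.homOfLE hUT ≫ G := by rw [h1]
      _ = F u₀ := hG u₀
      _ = s := h2

end Groth.Agent.H54
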