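import Mathlib

/-!
# Descent of the Stein property along an fpqc base change (helper54, for helper63's S13867)
-/

set_option autoImplicit false
universe u
open CategoryTheory CategoryTheory.Limits AlgebraicGeometry Opposite

namespace Groth.Agent.H54.SteinDesc

/-- The statement (D1): faithfully flat descent of "is an isomorphism" along a finite jointly
surjective flat family (proved in `Groth.Agent.H2.IsoDescFam` by helper2). It is taken as an
explicit hypothesis here so that this file does not depend on that one. -/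
def D1Statement : Prop :=
  ∀ {A A' : CommRingCat.{u}} (φ : A ⟶ A') {ι : Type} [Finite ι]
    (B P : ι → CommRingCat.{u}) (β : ∀ i, A ⟶ B i) (inl : ∀ i, A' ⟶ P i) (inr : ∀ i, B i ⟶ P i)
    (_ : ∀ i, IsPushout φ (β i) (inl i) (inr i)) (_ : ∀ i, (β i).hom.Flat)
    (_ : ∀ p : PrimeSpectrum A, ∃ i, ∃ q : PrimeSpectrum (B i), q.comap (β i).hom = p)
    (_ : ∀ i, IsIso (inr i)), IsIso φ

/-- the affine-local step -/
theorem isIso_app_of_isAffineOpen (hD1 : D1Statement.{u}) {X Y X' Y' : Scheme.{u}} {f : X ⟶ Y}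
    {g : Y' ⟶ Y} {f' : X' ⟶ Y'} {g' : X' ⟶ X} (H : IsPullback g' f' f g) [Flat g] [Surjective g]
    [QuasiCompact g] [QuasiCompact f] [QuasiSeparated f]
    (hf' : ∀ U' : Y'.Opens, IsIso (f'.app U')) (U : Y.Opens) (hU : IsAffineOpen U) :
    IsIso (f.app U) := by
  obtain ⟨s, hs, hsU⟩ := isCompact_iff_finite_and_eq_biUnion_affineOpens.mp
    (g.isCompact_preimage hU.isCompact)
  haveI : Finite s := hs.to_subtype
  obtain ⟨n, ⟨e⟩⟩ := Finite.exists_equiv_fin s
  let V : Fin n → Y'.affineOpens := fun i => (e.symm i).1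
  have hVa : ∀ i, IsAffineOpen (V i : Y'.Opens) := fun i => (V i).2
  have hVle : ∀ i, (V i : Y'.Opens) ≤ g ⁻¹ᵁ U := fun i => by
    rw [hsU]
    exact le_iSup₂ (f := fun (j : Y'.affineOpens) (_ : j ∈ s) => (j : Y'.Opens)) (V i)
      (e.symm i).2
  have hUP : ∀ i, f' ⁻¹ᵁ (V i : Y'.Opens) =
      g' ⁻¹ᵁ (f ⁻¹ᵁ U) ⊓ f' ⁻¹ᵁ (V i : Y'.Opens) := fun i => by
    simp_rw [← Scheme.Hom.comp_preimage, H.w, Scheme.Hom.comp_preimage,
      ← Scheme.Hom.preimage_inf, inf_eq_right.mpr (hVle i)]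
  have hpo : ∀ i, IsPushout (f.appLE U (f ⁻¹ᵁ U) le_rfl) (g.appLE U (V i) (hVle i))
      (g'.appLE (f ⁻¹ᵁ U) (f' ⁻¹ᵁ (V i : Y'.Opens)) (by rw [hUP i]; exact inf_le_left))
      (f'.appLE (V i) (f' ⁻¹ᵁ (V i : Y'.Opens)) le_rfl) := fun i => by
    have hiso := isIso_pushoutSection_of_isQuasiSeparated_of_flat_right H
      (US := U) (UT := V i) (UX := f ⁻¹ᵁ U) (hVle i) le_rfl (hUP i) hU (hVa i)
      (f.isCompact_preimage hU.isCompact)
      (f.isQuasiSeparated_preimage hU.isQuasiSeparated)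
    exact (isIso_pushoutSection_iff H (hVle i) le_rfl (hUP i)).mp hiso
  rw [Scheme.Hom.app_eq_appLE]
  refine hD1 (f.appLE U (f ⁻¹ᵁ U) le_rfl)
    (fun i => Γ(Y', V i)) (fun i => Γ(X', f' ⁻¹ᵁ (V i : Y'.Opens)))
    (fun i => g.appLE U (V i) (hVle i)) _ _ hpo ?_ ?_ ?_
  · intro i
    exact g.flat_appLE hU (hVa i) _
  · intro p
    have hpU : hU.fromSpec p ∈ (U : Set Y) := by
      have h : hU.fromSpec p ∈ Set.range hU.fromSpec := Set.mem_range_self p
      rwa [hU.range_fromSpec] at h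
    obtain ⟨y', hy'⟩ := g.surjective (hU.fromSpec p)
    have hy'U : y' ∈ g ⁻¹ᵁ U := by
      show g y' ∈ U
      rw [hy']; exact hpU
    rw [hsU] at hy'U
    simp only [TopologicalSpace.Opens.mem_iSup] at hy'U
    obtain ⟨j, hj, hy'j⟩ := hy'U
    have hVj : V (e ⟨j, hj⟩) = j := by
      show (e.symm (e ⟨j, hj⟩)).1 = j
      rw [e.symm_apply_apply]
    have hy'V : y' ∈ (V (e ⟨j, hj⟩) : Y'.Opens) := by rw [hVj]; exact hy'j
    refine ⟨e ⟨j, hj⟩, (hVa (e ⟨j, hj⟩)).primeIdealOf ⟨y', hy'V⟩, ?_⟩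
    rw [IsAffineOpen.comap_primeIdealOf_appLE U hU (V (e ⟨j, hj⟩) : Y'.Opens) (hVa (e ⟨j, hj⟩))
      (hVle _) hy'V]
    apply hU.fromSpec.isOpenEmbedding.injective
    rw [hU.fromSpec_primeIdealOf]
    exact hy'
  · intro i
    rw [← Scheme.Hom.app_eq_appLE]
    exact hf' _

/-- (D2) descent of the Stein property along an fpqc base change, relative to (D1). -/
theorem isIso_app_of_isPullback_of_flat_surjective' (hD1 : D1Statement.{u})
    {X Y X' Y' : Scheme.{u}} {f : X ⟶ Y}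
    {g : Y' ⟶ Y} {f' : X' ⟶ Y'} {g' : X' ⟶ X} (H : IsPullback g' f' f g) [Flat g] [Surjective g]
    [QuasiCompact g] [QuasiCompact f] [QuasiSeparated f]
    (hf' : ∀ U' : Y'.Opens, IsIso (f'.app U')) (U : Y.Opens) : IsIso (f.app U) := by
  let φ : Y.sheaf ⟶ (TopCat.Sheaf.pushforward CommRingCat f.base).obj X.sheaf := ⟨f.c⟩
  let ι : Type u := {W : Y.Opens // IsAffineOpen W}
  let B : ι → TopologicalSpace.Opens Y := fun i => i.1
  have hB : TopologicalSpace.Opens.IsBasis (Set.range B) := by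
    rw [TopologicalSpace.Opens.isBasis_iff_nbhd]
    intro W x hxW
    obtain ⟨U', hU', hxU', hU'W⟩ := exists_isAffineOpen_mem_and_subset hxW
    exact ⟨U', ⟨⟨U', hU'⟩, rfl⟩, hxU', fun z hz => hU'W hz⟩
  have hφ : IsIso φ := by
    refine TopCat.Sheaf.isIso_iff_isIso_basis (B := B) hB ?_
    rintro ⟨U', hU'⟩
    exact isIso_app_of_isAffineOpen hD1 H hf' U' hU'
  have h1 : IsIso φ.hom :=
    @Functor.map_isIso _ _ _ _ _ _ (TopCat.Sheaf.forget CommRingCat _) φ hφ
  exact NatIso.isIso_app_of_isIso φ.hom (op U)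

end Groth.Agent.H54.SteinDesc
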