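import Mathlib
import Groth.Agent.H54.SteinDesc
import Groth.Agent.H2.IsoDescFam

/-!
# (D2) Descent of the Stein property along an fpqc base change (helper54, for helper63's S13867)
-/

set_option autoImplicit false
universe u
open CategoryTheory CategoryTheory.Limits AlgebraicGeometry Opposite

namespace Groth.Agent.H54.SteinDesc

theorem d1Statement : D1Statement.{u} :=
  fun φ _ _ B P β inl inr hpo hflat hcov hiso =>
    Groth.Agent.H2.IsoDescFam.isIso_of_isPushout_family φ B P β inl inr hpo hflat hcov hiso

/-- (D2) descent of the Stein property along an fpqc base change. -/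
theorem isIso_app_of_isPullback_of_flat_surjective {X Y X' Y' : Scheme.{u}} {f : X ⟶ Y}
    {g : Y' ⟶ Y} {f' : X' ⟶ Y'} {g' : X' ⟶ X} (H : IsPullback g' f' f g) [Flat g] [Surjective g]
    [QuasiCompact g] [QuasiCompact f] [QuasiSeparated f]
    (hf' : ∀ U' : Y'.Opens, IsIso (f'.app U')) (U : Y.Opens) : IsIso (f.app U) :=
  isIso_app_of_isPullback_of_flat_surjective' d1Statement H hf' U

end Groth.Agent.H54.SteinDesc
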