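import Groth.Prelude.Def_C1
import Groth.Prelude.Def_Cyc
import Groth.Prelude.Def_Pic
import Groth.Agent.H95.SecOrd

/-!
# (SN) + (NZ) for helper34's S1930 squad #5

* `mk_germ_genericPoint_ne_zero`: a section which is a nonzerodivisor at the generic point of an
  integral scheme is nonzero in the fibre there.
* `exists_secFibre_ne_zero`: an invertible module has a nowhere zero family of rational sections.
-/

set_option autoImplicit false
universe u
open CategoryTheory AlgebraicGeometry TopologicalSpace Opposite

namespace Groth.Agent.H54.StubDiv_SN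

variable {X D : Scheme.{u}}

theorem maximalIdeal_genericPoint_eq_bot [IsIntegral X] :
    IsLocalRing.maximalIdeal (X.presheaf.stalk (genericPoint X)) = ⊥ := by
  have hfield : IsField (X.presheaf.stalk (genericPoint X)) :=
    Field.toIsField X.functionField
  exact IsLocalRing.isField_iff_maximalIdeal_eq.mp hfield

/-- (SN) A section which is a nonzerodivisor at the generic point of an integral scheme is nonzero
in the fibre there. -/
theorem mk_germ_genericPoint_ne_zero [IsIntegral X] (L : X.Modules)
    (s : L.presheaf.obj (Opposite.op ⊤))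
    (hreg : Function.Injective (fun a : X.presheaf.stalk (genericPoint X) =>
      a • (L.presheaf.germ ⊤ (genericPoint X) trivial) s)) :
    (Submodule.Quotient.mk ((L.presheaf.germ ⊤ (genericPoint X) trivial) s) :
      Cyc.secFibre L (genericPoint X)) ≠ 0 := by
  intro h
  rw [Submodule.Quotient.mk_eq_zero, maximalIdeal_genericPoint_eq_bot, Submodule.bot_smul,
    Submodule.mem_bot] at h
  have h10 : (1 : X.presheaf.stalk (genericPoint X)) = 0 := by
    apply hreg
    simp only [h, smul_zero]
  exact one_ne_zero h10

/-- (NZ) An invertible module has a nowhere zero family of rational sections. -/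
theorem exists_secFibre_ne_zero (N : X.Modules) (hN : PicF.IsInvertible N) :
    ∃ v : (ξ : X) → Cyc.secFibre N ξ, ∀ ξ, v ξ ≠ 0 := by
  have h : ∀ ξ : X, ∃ w : Cyc.secFibre N ξ, w ≠ 0 := by
    intro ξ
    obtain ⟨V, τ, hξ, hτ⟩ := Groth.Agent.H18.TensorGen.exists_isGen hN ξ
    refine ⟨Submodule.Quotient.mk (N.presheaf.germ V ξ hξ τ), fun h0 => ?_⟩
    have hmem := Groth.Agent.H95.SecOrd.mem_maximalIdeal_of_smul_mk_eq_zero hτ ξ hξ 1
      (by rw [one_smul]; exact h0)
    exact (Ideal.ne_top_iff_one _).mp
      (IsLocalRing.maximalIdeal.isMaximal (X.presheaf.stalk ξ)).ne_top hmem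
  choose v hv using h
  exact ⟨v, hv⟩

end Groth.Agent.H54.StubDiv_SN
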