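import Groth.Prelude.Def_C1
import Groth.Prelude.Def_Cyc
import Groth.Prelude.Def_Pic
import Groth.Prelude.Def_MeroDiv
import Groth.Agent.H95.SecOrd

/-!
# (SUPP) for helper34's S6466 squad #6: the divisor of the rational section given by a global
section `σ` vanishes at the points where `σ` does not vanish.
-/

set_option autoImplicit false
universe u
open CategoryTheory AlgebraicGeometry TopologicalSpace Opposite

namespace Groth.Agent.H54.StubG6_SUPP

open Groth.Agent.H95.SecOrd
open Groth.Agent.H18.TensorGen (IsGen exists_isGen)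

variable {X D : Scheme.{u}}

/-- (SUPP) -/
theorem secDivFun_global_eq_zero (δ : X → ℤ) {L : X.Modules} (hL : PicF.IsInvertible L)
    (σ : L.presheaf.obj (Opposite.op ⊤)) (ζ ξ : X)
    (hξ : (Submodule.Quotient.mk ((L.presheaf.germ ⊤ ξ trivial) σ) : Cyc.secFibre L ξ) ≠ 0) :
    Cyc.secDivFun δ L ζ (Submodule.Quotient.mk ((L.presheaf.germ ⊤ ζ trivial) σ)) ξ = 0 := by
  unfold Cyc.secDivFun
  split_ifs with hc
  · obtain ⟨V, τ, hξV, hτ⟩ := exists_isGen hL ξ
    have hζV : ζ ∈ V := hc.1.mem_open V.2 hξV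
    obtain ⟨c, hcτ⟩ := (hτ V le_rfl).2 (L.presheaf.map (homOfLE (le_top : V ≤ ⊤)).op σ)
    have hcτ' : c • τ = L.presheaf.map (homOfLE (le_top : V ≤ ⊤)).op σ := by
      have h0 : c • L.presheaf.map (homOfLE (le_rfl : V ≤ V)).op τ =
          L.presheaf.map (homOfLE (le_top : V ≤ ⊤)).op σ := hcτ
      have h1 : L.presheaf.map (homOfLE (le_rfl : V ≤ V)).op τ = τ := by
        have : (homOfLE (le_rfl : V ≤ V)).op = 𝟙 (Opposite.op V) := rfl
        rw [this, L.presheaf.map_id]
        rfl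
      rw [h1] at h0
      exact h0
    have hgerm : ∀ (z : X) (hz : z ∈ V), L.presheaf.germ ⊤ z trivial σ =
        X.presheaf.germ V z hz c • L.presheaf.germ V z hz τ := by
      intro z hz
      rw [← Mero.germ_smul, hcτ', TopCat.Presheaf.germ_res_apply]
    have hφξ : (Submodule.Quotient.mk (L.presheaf.germ ⊤ ξ trivial σ) : Cyc.secFibre L ξ) =
        X.presheaf.germ V ξ hξV c •
          (Submodule.Quotient.mk (L.presheaf.germ V ξ hξV τ) : Cyc.secFibre L ξ) := by
      rw [hgerm ξ hξV, Submodule.Quotient.mk_smul]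
    have hφζ : (Submodule.Quotient.mk (L.presheaf.germ ⊤ ζ trivial σ) : Cyc.secFibre L ζ) =
        X.presheaf.germ V ζ hζV c •
          (Submodule.Quotient.mk (L.presheaf.germ V ζ hζV τ) : Cyc.secFibre L ζ) := by
      rw [hgerm ζ hζV, Submodule.Quotient.mk_smul]
    have hcu : IsUnit (X.presheaf.germ V ξ hξV c) :=
      isUnit_of_mk_ne_zero ξ hξV _ hξ _ hφξ
    rw [secOrdAt_eq_of_isGen hτ hc.1 hξV hζV _ _ hφζ, ← specMap_germ hc.1 hξV hζV c]
    exact ordAt_specMap_unit hc.1 hcu
  · rfl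

end Groth.Agent.H54.StubG6_SUPP
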