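import Mathlib
import Groth.Prelude.Def_RedSub

/-!
# (T6-DESC) for helper43's S6119 squad: an `H`-invariant morphism descends along the quotient map
-/

set_option autoImplicit false
universe u
open CategoryTheory Limits MonoidalCategory CartesianMonoidalCategory MonObj GrpObj AlgebraicGeometry

namespace Groth.Agent.H54.T6_DESC

/-- a morphism out of `G` which is invariant under right translation by `H` factors through the
fppf quotient `G ⟶ G/H`. -/
theorem exists_desc_of_invariant {S : Scheme.{u}} {G H Q Z : Over S} [GrpObj G] [GrpObj H]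
    (i : H ⟶ G) (q : G ⟶ Q) (hq : RedSub.IsQuotient i q) (m : G ⟶ Z)
    (hm : fst G H ≫ m = ((G ◁ i) ≫ μ[G]) ≫ m) : ∃ e : Q ⟶ Z, q ≫ e = m := by
  obtain ⟨hs, hf, hp, sq⟩ := hq
  haveI := hs
  haveI := hf
  haveI := hp
  haveI : EffectiveEpi q.left := inferInstance
  haveI : Epi q.left := inferInstance
  have sqL : IsPullback (fst G H).left ((G ◁ i) ≫ μ[G]).left q.left q.left :=
    sq.map (Over.forget S)
  have w' : (fst G H).left ≫ m.left = ((G ◁ i) ≫ μ[G]).left ≫ m.left :=
    congrArg (fun f => f.left) hm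
  let e₁ : Q.left ⟶ Z.left := EffectiveEpi.desc q.left m.left (by
    intro W g₁ g₂ h
    calc g₁ ≫ m.left = (sqL.lift g₁ g₂ h ≫ (fst G H).left) ≫ m.left := by
          rw [sqL.lift_fst]
      _ = sqL.lift g₁ g₂ h ≫ ((G ◁ i) ≫ μ[G]).left ≫ m.left := by
          rw [Category.assoc, w']
      _ = g₂ ≫ m.left := by rw [← Category.assoc, sqL.lift_snd])
  have he₁ : q.left ≫ e₁ = m.left := EffectiveEpi.fac _ _ _
  refine ⟨Over.homMk e₁ ?_, ?_⟩
  · rw [← cancel_epi q.left, ← Category.assoc, he₁, Over.w, Over.w]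
  · ext
    exact he₁

end Groth.Agent.H54.T6_DESC
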