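import Mathlib
import Groth.Prelude.Def_RedSub
import Groth.Agent.H48.FppfSource
import Groth.Agent.H52.SrcFlat

/-!
# (T6-FPPF) for helper43's S6119 squad: fppf-ness descends along an fppf cover of the source
-/

set_option autoImplicit false
universe u
open CategoryTheory Limits MonoidalCategory CartesianMonoidalCategory MonObj GrpObj AlgebraicGeometry

namespace Groth.Agent.H54.T6_FPPF

theorem fppf_of_comp_fppf {X Y Z : Scheme.{u}} (f : X ⟶ Y) (g : Y ⟶ Z) (hf₁ : Surjective f)
    (hf₂ : Flat f) (hf₃ : LocallyOfFinitePresentation f) (h₁ : Surjective (f ≫ g))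
    (h₂ : Flat (f ≫ g)) (h₃ : LocallyOfFinitePresentation (f ≫ g)) :
    Surjective g ∧ Flat g ∧ LocallyOfFinitePresentation g := by
  haveI := hf₁
  haveI := hf₂
  haveI := hf₃
  haveI := h₃
  refine ⟨⟨fun z => ?_⟩, Groth.Agent.H52.flat_of_comp_of_flat_of_surjective f g h₂,
    Groth.Agent.H48.FppfSource.locallyOfFinitePresentation_of_comp_fppf f g⟩
  obtain ⟨x, hx⟩ := h₁.surj z
  refine ⟨f x, ?_⟩
  rw [← hx]
  rfl

end Groth.Agent.H54.T6_FPPF
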