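import Mathlib
import Groth.Prelude.Def_Omega3
import Groth.Agent.H70.UTTrans.Defs
import Groth.Agent.H2.UTT_R2
import Groth.Agent.H2.UTT_R1

/-! (R3) for helper70's S9784 squad: transitivity of universal first order thickenings of rings. -/

set_option autoImplicit false
universe u
open Groth.Agent.H70.UTTrans

namespace Groth.Agent.H54.UTT_R3

/-- Core of (R3), with the quotient thickening `C' ⧸ K` of (R1) given abstractly. -/
theorem core {A B' B C' C C'' : Type u} [CommRing A] [CommRing B'] [CommRing B]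
    [CommRing C'] [CommRing C] [CommRing C'']
    {α : A →+* B'} {πB : B' →+* B} {γ : A →+* C'} {πC : C' →+* C} {ε : B →+* C''}
    {πC'' : C'' →+* C}
    (hBs : Function.Surjective πB) (hC : UnivProp γ πC) (hC'' : UnivProp ε πC'')
    (μ : B' →+* C') (ν : C' →+* C'') (hμ : μ.comp α = γ) (hν : ν.comp μ = ε.comp πB)
    (hπ : πC''.comp ν = πC)
    (K : Ideal C') (ε₀ : B →+* C' ⧸ K) (π₀ : C' ⧸ K →+* C)
    (hε₀ : ε₀.comp πB = (Ideal.Quotient.mk K).comp μ)
    (hπ₀ : π₀.comp (Ideal.Quotient.mk K) = πC) (h₀ : UnivProp ε₀ π₀) :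
    (∀ x₃ ∈ RingHom.ker πC'', ∃ x₂ ∈ RingHom.ker πC, ν x₂ = x₃) ∧
      (∀ x₂ ∈ RingHom.ker πC, ν x₂ = 0 → x₂ ∈ K) := by
  have hμ' : ∀ x, μ (α x) = γ x := fun x => RingHom.congr_fun hμ x
  have hν' : ∀ x, ν (μ x) = ε (πB x) := fun x => RingHom.congr_fun hν x
  have hπ' : ∀ x, πC'' (ν x) = πC x := fun x => RingHom.congr_fun hπ x
  have hε₀' : ∀ x, ε₀ (πB x) = Ideal.Quotient.mk K (μ x) := fun x => RingHom.congr_fun hε₀ x
  have hπ₀' : ∀ x, π₀ (Ideal.Quotient.mk K x) = πC x := fun x => RingHom.congr_fun hπ₀ x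
  have hc : π₀.comp ε₀ = πC''.comp ε := by
    ext b
    obtain ⟨b', rfl⟩ := hBs b
    simp only [RingHom.comp_apply]
    rw [hε₀', hπ₀', ← hπ', hν']
  obtain ⟨u, hu₁, hu₂⟩ := Groth.Agent.H2.UTT.univProp_unique h₀ hC'' hc
  have hu₁' : ∀ x, u (ε₀ x) = ε x := fun x => RingHom.congr_fun hu₁ x
  have hu₂' : ∀ x, πC'' (u x) = π₀ x := fun x => RingHom.congr_fun hu₂ x
  -- `ν = u ∘ mk`
  have hνu : ν = (u : C' ⧸ K →+* C'').comp (Ideal.Quotient.mk K) := by
    have ha' : ∀ x, (RingHom.quotientKerEquivOfSurjective hC''.1).symm.toRingHom (πC'' x) =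
        Ideal.Quotient.mk (RingHom.ker πC'') x := fun x =>
      RingHom.quotientKerEquivOfSurjective_symm_apply hC''.1 x
    generalize (RingHom.quotientKerEquivOfSurjective hC''.1).symm.toRingHom = a at ha'
    have hcomp : a.comp (πC.comp γ) =
        (Ideal.Quotient.mk (RingHom.ker πC'')).comp (ν.comp γ) := by
      ext x
      simp only [RingHom.comp_apply]
      rw [← hπ', ha']
    obtain ⟨a', -, huniq⟩ := hC.2.2 C'' (ν.comp γ) (RingHom.ker πC'') hC''.2.1 a hcomp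
    have h1 : ν = a' := huniq ν ⟨rfl, by
      ext x
      simp only [RingHom.comp_apply]
      rw [← hπ', ha']⟩
    have h2 : (u : C' ⧸ K →+* C'').comp (Ideal.Quotient.mk K) = a' := huniq _ ⟨by
      ext x
      simp only [RingHom.comp_apply, RingHom.coe_coe]
      rw [← hμ', ← hε₀', hu₁', ← hν'], by
      ext x
      simp only [RingHom.comp_apply, RingHom.coe_coe]
      rw [← hπ₀', ← hu₂', ha']⟩
    rw [h1, h2]
  have hνu' : ∀ x, ν x = u (Ideal.Quotient.mk K x) := fun x => by rw [hνu]; rfl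
  refine ⟨fun x₃ hx₃ => ?_, fun x₂ _ hx₂ => ?_⟩
  · obtain ⟨y, rfl⟩ := u.surjective x₃
    obtain ⟨x₂, rfl⟩ := Ideal.Quotient.mk_surjective y
    refine ⟨x₂, ?_, hνu' x₂⟩
    rw [RingHom.mem_ker] at hx₃ ⊢
    rw [← hπ', hνu']
    exact hx₃
  · rw [hνu'] at hx₂
    have h0 : Ideal.Quotient.mk K x₂ = 0 := by
      apply u.injective
      rw [hx₂, map_zero]
    exact Ideal.Quotient.eq_zero_iff_mem.mp h0

/-- (R3) transitivity of universal first order thickenings, ring form. -/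
theorem ring_transitivity {A B' B C' C C'' : Type u} [CommRing A] [CommRing B'] [CommRing B]
    [CommRing C'] [CommRing C] [CommRing C'']
    {α : A →+* B'} {πB : B' →+* B} {γ : A →+* C'} {πC : C' →+* C} {ε : B →+* C''}
    {πC'' : C'' →+* C}
    (hB : UnivProp α πB) (hC : UnivProp γ πC) (hC'' : UnivProp ε πC'')
    (μ : B' →+* C') (ν : C' →+* C'') (hμ : μ.comp α = γ) (hν : ν.comp μ = ε.comp πB)
    (hπ : πC''.comp ν = πC) :
    (∀ x₃ ∈ RingHom.ker πC'', ∃ x₂ ∈ RingHom.ker πC, ν x₂ = x₃) ∧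
      (∀ x₂ ∈ RingHom.ker πC, ν x₂ = 0 → x₂ ∈ Ideal.map μ (RingHom.ker πB)) := by
  have hβ : πC.comp μ = (πC''.comp ε).comp πB := by
    ext x
    have h1 := RingHom.congr_fun hπ (μ x)
    have h2 := RingHom.congr_fun hν x
    simp only [RingHom.comp_apply] at h1 h2 ⊢
    rw [← h1, h2]
  obtain ⟨ε₀, π₀, hε₀, hπ₀, h₀⟩ := Groth.Agent.H2.UTT.univProp_quotient hB hC μ (πC''.comp ε) hμ hβ
  exact core hB.1 hC hC'' μ ν hμ hν hπ _ ε₀ π₀ hε₀ hπ₀ h₀

end Groth.Agent.H54.UTT_R3
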