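import Mathlib
import Groth.Agent.H54.ValDense

/-!
# The valuative criterion through a dense family of points: assembly
-/

set_option autoImplicit false
universe u

open CategoryTheory CategoryTheory.Limits AlgebraicGeometry

namespace Groth.Agent.H54

/-- Core step: lifting a valuation ring of a residue field of `X`. -/
theorem exists_lift_core {U X S : Scheme.{u}} (f : X ⟶ S) (h : U ⟶ X) [QuasiCompact h]
    (hd : DenseRange h.base)
    (H : ∀ sq : ValuativeCommSq f, (∃ i : Spec (.of sq.K) ⟶ U, i ≫ h = sq.i₁) →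
      Nonempty (Unique sq.commSq.LiftStruct))
    (x : X) (A : ValuationSubring (X.residueField x)) (φ' : Spec (CommRingCat.of A) ⟶ S)
    (hφ' : Spec.map (CommRingCat.ofHom A.subtype) ≫ φ' = X.fromSpecResidueField x ≫ f) :
    ∃ ℓ : Spec (CommRingCat.of A) ⟶ X,
      Spec.map (CommRingCat.ofHom A.subtype) ≫ ℓ = X.fromSpecResidueField x ∧ ℓ ≫ f = φ' := by
  obtain ⟨u, hux⟩ := exists_specializes_of_denseRange h hd x
  obtain ⟨A', θ, hθloc, hθ⟩ := exists_valuationSubring_of_specializes h u x hux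
  haveI := hθloc
  obtain ⟨g', hg'⟩ : ∃ g' : Spec (CommRingCat.of A') ⟶ X, g' = Spec.map θ ≫ X.fromSpecStalk x :=
    ⟨_, rfl⟩
  have hθ' : Spec.map (CommRingCat.ofHom A'.subtype) ≫ g' = U.fromSpecResidueField u ≫ h := by
    rw [hg']; exact hθ
  obtain ⟨γ, hγdef⟩ : ∃ γ : X.residueField x →+* IsLocalRing.ResidueField A',
      γ = IsLocalRing.ResidueField.map θ.hom := ⟨_, rfl⟩
  have hγ : X.residue x ≫ CommRingCat.ofHom γ =
      θ ≫ CommRingCat.ofHom (IsLocalRing.residue A') := by rw [hγdef]; rfl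
  have E1 : Spec.map (CommRingCat.ofHom (IsLocalRing.residue A')) ≫ g' =
      Spec.map (CommRingCat.ofHom γ) ≫ X.fromSpecResidueField x := by
    rw [hg', Scheme.fromSpecResidueField, ← Spec.map_comp_assoc, ← Spec.map_comp_assoc]
    exact congrArg (fun m => Spec.map m ≫ X.fromSpecStalk x) hγ.symm
  obtain ⟨A'', rfl⟩ := exists_valuationSubring_extension A γ
  obtain ⟨C, hC⟩ : ∃ C, C = compVal A' A'' := ⟨_, rfl⟩
  have hCle : C ≤ A' := hC ▸ compVal_le A' A''
  obtain ⟨ι, hι⟩ : ∃ ι : C →+* A', ι = ValuationSubring.inclusion C A' hCle := ⟨_, rfl⟩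
  obtain ⟨σ, hσsurj, hσ⟩ : ∃ σ : C →+* A'', Function.Surjective σ ∧
      ∀ c : C, ((σ c : A'') : IsLocalRing.ResidueField A') = IsLocalRing.residue A' (ι c) := by
    subst hC hι
    exact ⟨compValσ A' A'', compValσ_surjective A' A'', fun c => rfl⟩
  let τ : ↥(A''.comap γ) →+* ↥A'' :=
    (γ.comp (A''.comap γ).subtype).codRestrict A''.toSubring (fun a => a.2)
  have hτ : CommRingCat.ofHom τ ≫ CommRingCat.ofHom A''.subtype =
      CommRingCat.ofHom (A''.comap γ).subtype ≫ CommRingCat.ofHom γ := rfl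
  have hιsub : CommRingCat.ofHom ι ≫ CommRingCat.ofHom A'.subtype = CommRingCat.ofHom C.subtype := by
    subst hι; rfl
  have hσι : CommRingCat.ofHom σ ≫ CommRingCat.ofHom A''.subtype =
      CommRingCat.ofHom ι ≫ CommRingCat.ofHom (IsLocalRing.residue A') := by
    ext c
    exact hσ c
  -- the morphism `Spec C ⟶ S`
  have hht₁ : Spec.map (CommRingCat.ofHom A''.subtype) ≫ (Spec.map (CommRingCat.ofHom τ) ≫ φ') =
      Spec.map (CommRingCat.ofHom (IsLocalRing.residue ↥A')) ≫ (g' ≫ f) := by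
    rw [← Category.assoc, ← Spec.map_comp, hτ, Spec.map_comp, Category.assoc, hφ',
      ← Category.assoc (Spec.map (CommRingCat.ofHom (IsLocalRing.residue ↥A'))), E1, Category.assoc]
  obtain ⟨ψ, ⟨hψ1, -, hψ3, hψ4⟩, -⟩ := Groth.Agent.S17898.result (terminal.from S)
    (U.residueField u) C A' hCle ι (fun c => by subst hι; rfl)
    (Spec.map (CommRingCat.ofHom A'.subtype) ≫ g' ≫ f) (terminal.from _) (terminal.hom_ext _ _)
    (g' ≫ f) rfl (terminal.hom_ext _ _) A'' σ hσsurj hσ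
    (Spec.map (CommRingCat.ofHom τ) ≫ φ') hht₁ (terminal.hom_ext _ _)
  -- the lift over `C`
  have wC : (U.fromSpecResidueField u ≫ h) ≫ f =
      Spec.map (CommRingCat.ofHom (algebraMap C (U.residueField u))) ≫ ψ := by
    have : CommRingCat.ofHom (algebraMap C (U.residueField u)) = CommRingCat.ofHom C.subtype := rfl
    rw [this, hψ1, ← hθ', Category.assoc]
  obtain ⟨uC⟩ := H (⟨C, U.residueField u, U.fromSpecResidueField u ≫ h, ψ, ⟨wC⟩⟩ :
    ValuativeCommSq f) ⟨U.fromSpecResidueField u, rfl⟩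
  obtain ⟨ℓC, hℓC1, hℓC2⟩ := uC.default
  dsimp only at hℓC1 hℓC2
  -- uniqueness over `A'`
  have wA : (U.fromSpecResidueField u ≫ h) ≫ f =
      Spec.map (CommRingCat.ofHom (algebraMap A' (U.residueField u))) ≫ (g' ≫ f) := by
    have : CommRingCat.ofHom (algebraMap A' (U.residueField u)) = CommRingCat.ofHom A'.subtype := rfl
    rw [this, ← hθ', Category.assoc]
  obtain ⟨uA⟩ := H (⟨A', U.residueField u, U.fromSpecResidueField u ≫ h, g' ≫ f, ⟨wA⟩⟩ :
    ValuativeCommSq f) ⟨U.fromSpecResidueField u, rfl⟩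
  have hl12 : Spec.map (CommRingCat.ofHom ι) ≫ ℓC = g' := by
    have p1 : Spec.map (CommRingCat.ofHom A'.subtype) ≫ Spec.map (CommRingCat.ofHom ι) ≫ ℓC =
        U.fromSpecResidueField u ≫ h := by
      rw [← Category.assoc, ← Spec.map_comp, hιsub]; exact hℓC1
    have p2 : (Spec.map (CommRingCat.ofHom ι) ≫ ℓC) ≫ f = g' ≫ f := by
      rw [Category.assoc, hℓC2, hψ3]
    have e12 := (uA.uniq ⟨Spec.map (CommRingCat.ofHom ι) ≫ ℓC, p1, p2⟩).trans
      (uA.uniq ⟨g', hθ', rfl⟩).symm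
    exact congrArg CommSq.LiftStruct.l e12
  -- the lift over `A''`
  have hℓ''f : (Spec.map (CommRingCat.ofHom σ) ≫ ℓC) ≫ f = Spec.map (CommRingCat.ofHom τ) ≫ φ' := by
    rw [Category.assoc, hℓC2, hψ4]
  have hℓ''K : Spec.map (CommRingCat.ofHom A''.subtype) ≫ Spec.map (CommRingCat.ofHom σ) ≫ ℓC =
      Spec.map (CommRingCat.ofHom γ) ≫ X.fromSpecResidueField x := by
    rw [← Category.assoc, ← Spec.map_comp, hσι, Spec.map_comp, Category.assoc, hl12, E1]
  -- descend to `A`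
  obtain ⟨φ'', ⟨hφ''1, hφ''2⟩, -⟩ := Groth.Agent.S17897.result (𝟙 X)
    (IsLocalRing.ResidueField A') A''
    (Spec.map (CommRingCat.ofHom γ) ≫ X.fromSpecResidueField x)
    (Spec.map (CommRingCat.ofHom σ) ≫ ℓC)
    (by rw [Category.comp_id]; exact hℓ''K) x (CommRingCat.ofHom γ) rfl τ (fun a => rfl)
  obtain ⟨φ₀, -, hφ₀uniq⟩ := Groth.Agent.S17897.result f
    (IsLocalRing.ResidueField A') A''
    (Spec.map (CommRingCat.ofHom γ) ≫ X.fromSpecResidueField x)
    ((Spec.map (CommRingCat.ofHom σ) ≫ ℓC) ≫ f)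
    (by rw [← Category.assoc, ← Category.assoc, Category.assoc (Spec.map (CommRingCat.ofHom A''.subtype)),
      hℓ''K, Category.assoc]) x (CommRingCat.ofHom γ) rfl τ (fun a => rfl)
  have e1 : φ'' ≫ f = φ₀ := hφ₀uniq _ ⟨by rw [← Category.assoc, hφ''1], by
    rw [← Category.assoc, hφ''2, Category.comp_id]⟩
  have e2 : φ' = φ₀ := hφ₀uniq _ ⟨hℓ''f.symm, hφ'⟩
  exact ⟨φ'', by rw [hφ''2, Category.comp_id], e1.trans e2.symm⟩

end Groth.Agent.H54
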