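import Mathlib
import Groth.Agent.H54.ValDense2

/-!
# The valuative criterion through a dense family of points: main statements
-/

set_option autoImplicit false
universe u

open CategoryTheory CategoryTheory.Limits AlgebraicGeometry

namespace Groth.Agent.H54

/-- Lifting in the `ValuationSubring` form. -/
theorem exists_lift_valuationSubring {U X S : Scheme.{u}} (f : X ⟶ S) (h : U ⟶ X) [QuasiCompact h]
    (hd : DenseRange h.base)
    (H : ∀ sq : ValuativeCommSq f, (∃ i : Spec (.of sq.K) ⟶ U, i ≫ h = sq.i₁) →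
      Nonempty (Unique sq.commSq.LiftStruct))
    (K : Type u) [Field K] (V : ValuationSubring K) (i₁ : Spec (CommRingCat.of K) ⟶ X)
    (i₂ : Spec (CommRingCat.of V) ⟶ S)
    (w : Spec.map (CommRingCat.ofHom V.subtype) ≫ i₂ = i₁ ≫ f) :
    ∃ l : Spec (CommRingCat.of V) ⟶ X,
      Spec.map (CommRingCat.ofHom V.subtype) ≫ l = i₁ ∧ l ≫ f = i₂ := by
  obtain ⟨x, hx⟩ : ∃ x : X, x = i₁ (IsLocalRing.closedPoint K) := ⟨_, rfl⟩
  subst hx
  obtain ⟨g, hgdef⟩ : ∃ g : X.residueField (i₁ (IsLocalRing.closedPoint K)) ⟶ CommRingCat.of K,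
      g = Scheme.descResidueField (Scheme.stalkClosedPointTo i₁) := ⟨_, rfl⟩
  have hg : Spec.map g ≫ X.fromSpecResidueField (i₁ (IsLocalRing.closedPoint K)) = i₁ := by
    rw [hgdef]
    exact Scheme.descResidueField_stalkClosedPointTo_fromSpecResidueField K X i₁
  let ρ : ↥(V.comap g.hom) →+* ↥V :=
    (g.hom.comp (V.comap g.hom).subtype).codRestrict V.toSubring (fun a => a.2)
  have hρ : CommRingCat.ofHom ρ ≫ CommRingCat.ofHom V.subtype =
      CommRingCat.ofHom (V.comap g.hom).subtype ≫ g := rfl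
  obtain ⟨φ', ⟨hφ'1, hφ'2⟩, -⟩ := Groth.Agent.S17897.result f K V i₁ i₂ w
    (i₁ (IsLocalRing.closedPoint K)) g hg ρ (fun a => rfl)
  obtain ⟨ℓ, hℓ1, hℓ2⟩ := exists_lift_core f h hd H (i₁ (IsLocalRing.closedPoint K))
    (V.comap g.hom) φ' hφ'2
  refine ⟨Spec.map (CommRingCat.ofHom ρ) ≫ ℓ, ?_, ?_⟩
  · rw [← Category.assoc, ← Spec.map_comp, hρ, Spec.map_comp, Category.assoc, hℓ1, hg]
  · rw [Category.assoc, hℓ2, hφ'1]

/-- The existence part of the valuative criterion can be checked on squares whose generic point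
factors through a quasi-compact morphism with dense image, provided lifts are unique there. -/
theorem existence_of_dense {U X S : Scheme.{u}} (f : X ⟶ S) (h : U ⟶ X) [QuasiCompact h]
    (hd : DenseRange h.base)
    (H : ∀ sq : ValuativeCommSq f, (∃ i : Spec (.of sq.K) ⟶ U, i ≫ h = sq.i₁) →
      Nonempty (Unique sq.commSq.LiftStruct)) :
    ValuativeCriterion.Existence f := by
  intro sq
  obtain ⟨V, hV⟩ : ∃ V : ValuationSubring sq.K,
      V = (ValuationRing.valuation sq.R sq.K).valuationSubring := ⟨_, rfl⟩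
  have hmemV : ∀ r : sq.R, algebraMap sq.R sq.K r ∈ V := fun r => by
    rw [hV]; exact (ValuationRing.mem_integer_iff sq.R sq.K _).mpr ⟨r, rfl⟩
  have hVmem : ∀ t : V, ∃ r : sq.R, algebraMap sq.R sq.K r = (t : sq.K) := fun t => by
    have ht : (t : sq.K) ∈ (ValuationRing.valuation sq.R sq.K).valuationSubring := hV ▸ t.2
    exact (ValuationRing.mem_integer_iff sq.R sq.K _).mp ht
  obtain ⟨e0, he0⟩ : ∃ e0 : sq.R →+* V,
      e0 = (algebraMap sq.R sq.K).codRestrict V.toSubring hmemV := ⟨_, rfl⟩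
  have he0K : ∀ r : sq.R, ((e0 r : V) : sq.K) = algebraMap sq.R sq.K r := fun r => by
    rw [he0]; rfl
  have hbij : Function.Bijective e0 := by
    constructor
    · intro a b hab
      apply IsFractionRing.injective sq.R sq.K
      rw [← he0K a, ← he0K b, hab]
    · intro t
      obtain ⟨r, hr⟩ := hVmem t
      exact ⟨r, Subtype.ext ((he0K r).trans hr)⟩
  obtain ⟨e, he⟩ : ∃ e : sq.R ≃+* V, ∀ r, e r = e0 r := ⟨RingEquiv.ofBijective e0 hbij, fun r => rfl⟩
  have h1 : CommRingCat.ofHom e.toRingHom ≫ CommRingCat.ofHom V.subtype =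
      CommRingCat.ofHom (algebraMap sq.R sq.K) := by
    ext r
    show ((e r : V) : sq.K) = algebraMap sq.R sq.K r
    rw [he, he0K]
  have h2 : CommRingCat.ofHom e.toRingHom ≫ CommRingCat.ofHom e.symm.toRingHom = 𝟙 _ := by
    ext r
    exact e.symm_apply_apply r
  have h3 : CommRingCat.ofHom e.symm.toRingHom ≫ CommRingCat.ofHom e.toRingHom = 𝟙 _ := by
    ext r
    exact congrArg Subtype.val (e.apply_symm_apply r)
  have w : Spec.map (CommRingCat.ofHom V.subtype) ≫
      (Spec.map (CommRingCat.ofHom e.toRingHom) ≫ sq.i₂) = sq.i₁ ≫ f := by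
    rw [← Category.assoc, ← Spec.map_comp, h1]
    exact sq.commSq.w.symm
  obtain ⟨l, hl1, hl2⟩ := exists_lift_valuationSubring f h hd H sq.K V sq.i₁
    (Spec.map (CommRingCat.ofHom e.toRingHom) ≫ sq.i₂) w
  refine ⟨⟨⟨Spec.map (CommRingCat.ofHom e.symm.toRingHom) ≫ l, ?_, ?_⟩⟩⟩
  · rw [← h1, Spec.map_comp, Category.assoc, ← Category.assoc (Spec.map (CommRingCat.ofHom e.toRingHom)),
      ← Spec.map_comp, h3, Spec.map_id, Category.id_comp, hl1]
  · rw [Category.assoc, hl2, ← Category.assoc, ← Spec.map_comp, h2, Spec.map_id, Category.id_comp]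

/-- Uniqueness of lifts for the diagonal. -/
theorem diagonal_unique_lift {U X S : Scheme.{u}} (f : X ⟶ S) (h : U ⟶ X)
    (H : ∀ sq : ValuativeCommSq f, (∃ i : Spec (.of sq.K) ⟶ U, i ≫ h = sq.i₁) →
      Nonempty (Unique sq.commSq.LiftStruct)) :
    ∀ sq : ValuativeCommSq (pullback.diagonal f), (∃ i : Spec (.of sq.K) ⟶ U, i ≫ h = sq.i₁) →
      Nonempty (Unique sq.commSq.LiftStruct) := by
  intro S hS
  have hc : CommSq S.i₁ (Spec.map (CommRingCat.ofHom (algebraMap S.R S.K)))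
      f (S.i₂ ≫ pullback.fst f f ≫ f) := ⟨by simp [← S.commSq.w_assoc]⟩
  obtain ⟨uS'⟩ := H (⟨S.R, S.K, S.i₁, S.i₂ ≫ pullback.fst f f ≫ f, hc⟩ : ValuativeCommSq f) hS
  have p1 : Spec.map (CommRingCat.ofHom (algebraMap S.R S.K)) ≫ S.i₂ ≫ pullback.fst f f = S.i₁ := by
    simp [← S.commSq.w_assoc]
  have p2 : Spec.map (CommRingCat.ofHom (algebraMap S.R S.K)) ≫ S.i₂ ≫ pullback.snd f f = S.i₁ := by
    simp [← S.commSq.w_assoc]
  have p3 : (S.i₂ ≫ pullback.snd f f) ≫ f = S.i₂ ≫ pullback.fst f f ≫ f := by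
    simp [pullback.condition]
  have h₁₂ := (uS'.uniq ⟨S.i₂ ≫ pullback.fst f f, p1, by simp⟩).trans
    (uS'.uniq ⟨S.i₂ ≫ pullback.snd f f, p2, p3⟩).symm
  have h12 : S.i₂ ≫ pullback.fst f f = S.i₂ ≫ pullback.snd f f :=
    congrArg CommSq.LiftStruct.l h₁₂
  have hl : (S.i₂ ≫ pullback.fst f f) ≫ pullback.diagonal f = S.i₂ := by
    apply IsPullback.hom_ext (IsPullback.of_hasPullback f f)
    · simp
    · simp only [Category.assoc, pullback.diagonal_snd, Category.comp_id]
      exact h12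
  refine ⟨{ default := ⟨S.i₂ ≫ pullback.fst f f, p1, hl⟩, uniq := fun l => ?_ }⟩
  ext
  have h5 := l.fac_right
  calc l.l = (l.l ≫ pullback.diagonal f) ≫ pullback.fst f f := by simp
    _ = S.i₂ ≫ pullback.fst f f := by rw [h5]

/-- Stacks-type refined valuative criterion. -/
theorem universallyClosed_and_isSeparated_of_dense {U X S : Scheme.{u}} (f : X ⟶ S) (h : U ⟶ X)
    [QuasiCompact f] [QuasiCompact h] (hd : DenseRange h.base)
    (H : ∀ sq : ValuativeCommSq f, (∃ i : Spec (.of sq.K) ⟶ U, i ≫ h = sq.i₁) →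
      Nonempty (Unique sq.commSq.LiftStruct)) :
    UniversallyClosed f ∧ (QuasiSeparated f → IsSeparated f) := by
  refine ⟨UniversallyClosed.of_valuativeCriterion f (existence_of_dense f h hd H), fun hqs => ?_⟩
  haveI := hqs
  constructor
  have hΔ : ValuativeCriterion.Existence (pullback.diagonal f) :=
    existence_of_dense (pullback.diagonal f) h hd (diagonal_unique_lift f h H)
  have := UniversallyClosed.of_valuativeCriterion (pullback.diagonal f) hΔ
  exact .of_isPreimmersion _ (pullback.diagonal f).isClosedMap.isClosed_range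

end Groth.Agent.H54
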