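import Mathlib
import Groth.Agent.H54.ValDense3

/-!
# Refined valuative criteria through residue fields of a dominating scheme
-/

set_option autoImplicit false
universe u

open CategoryTheory CategoryTheory.Limits AlgebraicGeometry

namespace Groth.Agent.H54

/-- A valuation ring with its fraction field is a valuation subring. -/
theorem exists_valuationSubring_equiv (R K : Type u) [CommRing R] [IsDomain R] [ValuationRing R]
    [Field K] [Algebra R K] [IsFractionRing R K] :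
    ∃ (V : ValuationSubring K) (e : R ≃+* V),
      CommRingCat.ofHom e.toRingHom ≫ CommRingCat.ofHom V.subtype =
        CommRingCat.ofHom (algebraMap R K) := by
  obtain ⟨V, hV⟩ : ∃ V : ValuationSubring K,
      V = (ValuationRing.valuation R K).valuationSubring := ⟨_, rfl⟩
  have hmemV : ∀ r : R, algebraMap R K r ∈ V := fun r => by
    rw [hV]; exact (ValuationRing.mem_integer_iff R K _).mpr ⟨r, rfl⟩
  have hVmem : ∀ t : V, ∃ r : R, algebraMap R K r = (t : K) := fun t => by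
    have ht : (t : K) ∈ (ValuationRing.valuation R K).valuationSubring := hV ▸ t.2
    exact (ValuationRing.mem_integer_iff R K _).mp ht
  obtain ⟨e0, he0⟩ : ∃ e0 : R →+* V,
      e0 = (algebraMap R K).codRestrict V.toSubring hmemV := ⟨_, rfl⟩
  have he0K : ∀ r : R, ((e0 r : V) : K) = algebraMap R K r := fun r => by
    rw [he0]; rfl
  have hbij : Function.Bijective e0 := by
    constructor
    · intro a b hab
      apply IsFractionRing.injective R K
      rw [← he0K a, ← he0K b, hab]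
    · intro t
      obtain ⟨r, hr⟩ := hVmem t
      exact ⟨r, Subtype.ext ((he0K r).trans hr)⟩
  refine ⟨V, RingEquiv.ofBijective e0 hbij, ?_⟩
  ext r
  exact he0K r

theorem specMap_equiv_symm_comp {R V : Type u} [CommRing R] [CommRing V] (e : R ≃+* V) :
    Spec.map (CommRingCat.ofHom e.symm.toRingHom) ≫ Spec.map (CommRingCat.ofHom e.toRingHom) =
      𝟙 _ := by
  rw [← Spec.map_comp]
  have : CommRingCat.ofHom e.toRingHom ≫ CommRingCat.ofHom e.symm.toRingHom = 𝟙 _ := by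
    ext r
    exact e.symm_apply_apply r
  rw [this, Spec.map_id]

/-- Uniqueness of lifts for the diagonal, from uniqueness only. -/
theorem diagonal_unique_lift' {U X S : Scheme.{u}} (f : X ⟶ S) (h : U ⟶ X)
    (H : ∀ sq : ValuativeCommSq f, (∃ i : Spec (.of sq.K) ⟶ U, i ≫ h = sq.i₁) →
      Subsingleton sq.commSq.LiftStruct) :
    ∀ sq : ValuativeCommSq (pullback.diagonal f), (∃ i : Spec (.of sq.K) ⟶ U, i ≫ h = sq.i₁) →
      Nonempty (Unique sq.commSq.LiftStruct) := by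
  intro S hS
  have hc : CommSq S.i₁ (Spec.map (CommRingCat.ofHom (algebraMap S.R S.K)))
      f (S.i₂ ≫ pullback.fst f f ≫ f) := ⟨by simp [← S.commSq.w_assoc]⟩
  have uS' := H (⟨S.R, S.K, S.i₁, S.i₂ ≫ pullback.fst f f ≫ f, hc⟩ : ValuativeCommSq f) hS
  have p1 : Spec.map (CommRingCat.ofHom (algebraMap S.R S.K)) ≫ S.i₂ ≫ pullback.fst f f = S.i₁ := by
    simp [← S.commSq.w_assoc]
  have p2 : Spec.map (CommRingCat.ofHom (algebraMap S.R S.K)) ≫ S.i₂ ≫ pullback.snd f f = S.i₁ := by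
    simp [← S.commSq.w_assoc]
  have p3 : (S.i₂ ≫ pullback.snd f f) ≫ f = S.i₂ ≫ pullback.fst f f ≫ f := by
    simp [pullback.condition]
  have h₁₂ := uS'.elim ⟨S.i₂ ≫ pullback.fst f f, p1, by simp⟩ ⟨S.i₂ ≫ pullback.snd f f, p2, p3⟩
  have h12 : S.i₂ ≫ pullback.fst f f = S.i₂ ≫ pullback.snd f f :=
    congrArg CommSq.LiftStruct.l h₁₂
  have hl : (S.i₂ ≫ pullback.fst f f) ≫ pullback.diagonal f = S.i₂ := by
    apply IsPullback.hom_ext (IsPullback.of_hasPullback f f)
    · simp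
    · simp only [Category.assoc, pullback.diagonal_snd, Category.comp_id]
      exact h12
  refine ⟨{ default := ⟨S.i₂ ≫ pullback.fst f f, p1, hl⟩, uniq := fun l => ?_ }⟩
  ext
  have h5 := l.fac_right
  calc l.l = (l.l ≫ pullback.diagonal f) ≫ pullback.fst f f := by simp
    _ = S.i₂ ≫ pullback.fst f f := by rw [h5]

section refined

variable {X Y Z : Scheme.{u}} (h : Z ⟶ Y) (f : Y ⟶ X)

/-- Uniqueness of lifts, reduced to residue fields of `Z`. -/
theorem lift_unique_of_residueField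
    (Uq : ∀ (z : ↥Z) (R : ValuationSubring ↑(Z.residueField z))
        (φ : Spec (CommRingCat.of ↥R) ⟶ X),
        Spec.map (CommRingCat.ofHom R.subtype) ≫ φ = Z.fromSpecResidueField z ≫ h ≫ f →
        ∀ φ₁ φ₂ : Spec (CommRingCat.of ↥R) ⟶ Y,
          Spec.map (CommRingCat.ofHom R.subtype) ≫ φ₁ = Z.fromSpecResidueField z ≫ h → φ₁ ≫ f = φ →
          Spec.map (CommRingCat.ofHom R.subtype) ≫ φ₂ = Z.fromSpecResidueField z ≫ h → φ₂ ≫ f = φ →
          φ₁ = φ₂)
    (K : Type u) [Field K] (V : ValuationSubring K) (i : Spec (CommRingCat.of K) ⟶ Z)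
    (l₁ l₂ : Spec (CommRingCat.of V) ⟶ Y)
    (h1 : Spec.map (CommRingCat.ofHom V.subtype) ≫ l₁ = i ≫ h)
    (h2 : Spec.map (CommRingCat.ofHom V.subtype) ≫ l₂ = i ≫ h)
    (h12 : l₁ ≫ f = l₂ ≫ f) : l₁ = l₂ := by
  obtain ⟨g, hgdef⟩ : ∃ g : Z.residueField (i (IsLocalRing.closedPoint K)) ⟶ CommRingCat.of K,
      g = Scheme.descResidueField (Scheme.stalkClosedPointTo i) := ⟨_, rfl⟩
  have hg : Spec.map g ≫ Z.fromSpecResidueField (i (IsLocalRing.closedPoint K)) = i := by
    rw [hgdef]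
    exact Scheme.descResidueField_stalkClosedPointTo_fromSpecResidueField K Z i
  let ρ : ↥(V.comap g.hom) →+* ↥V :=
    (g.hom.comp (V.comap g.hom).subtype).codRestrict V.toSubring (fun a => a.2)
  obtain ⟨m₁, ⟨hm₁a, hm₁b⟩, -⟩ := Groth.Agent.S17897.result h K V i l₁ h1
    (i (IsLocalRing.closedPoint K)) g hg ρ (fun a => rfl)
  obtain ⟨m₂, ⟨hm₂a, hm₂b⟩, -⟩ := Groth.Agent.S17897.result h K V i l₂ h2
    (i (IsLocalRing.closedPoint K)) g hg ρ (fun a => rfl)
  obtain ⟨φ₀, -, hφ₀⟩ := Groth.Agent.S17897.result (h ≫ f) K V i (l₁ ≫ f)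
    (by rw [← Category.assoc, h1, Category.assoc])
    (i (IsLocalRing.closedPoint K)) g hg ρ (fun a => rfl)
  have e1 : m₁ ≫ f = φ₀ := hφ₀ _ ⟨by rw [← Category.assoc, hm₁a], by
    rw [← Category.assoc, hm₁b, Category.assoc]⟩
  have e2 : m₂ ≫ f = φ₀ := hφ₀ _ ⟨by rw [← Category.assoc, hm₂a, h12], by
    rw [← Category.assoc, hm₂b, Category.assoc]⟩
  have hm : m₁ = m₂ := Uq _ (V.comap g.hom) (m₁ ≫ f)
    (by rw [← Category.assoc, hm₁b, Category.assoc]) m₁ m₂ hm₁b rfl hm₂b (e2.trans e1.symm)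
  rw [← hm₁a, ← hm₂a, hm]

/-- Existence of lifts, reduced to residue fields of `Z`. -/
theorem exists_lift_of_residueField
    (Ex : ∀ (z : ↥Z) (R : ValuationSubring ↑(Z.residueField z))
        (φ : Spec (CommRingCat.of ↥R) ⟶ X),
        Spec.map (CommRingCat.ofHom R.subtype) ≫ φ = Z.fromSpecResidueField z ≫ h ≫ f →
        ∃ φ' : Spec (CommRingCat.of ↥R) ⟶ Y,
          Spec.map (CommRingCat.ofHom R.subtype) ≫ φ' = Z.fromSpecResidueField z ≫ h ∧ φ' ≫ f = φ)
    (K : Type u) [Field K] (V : ValuationSubring K) (i : Spec (CommRingCat.of K) ⟶ Z)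
    (i₂ : Spec (CommRingCat.of V) ⟶ X)
    (w : Spec.map (CommRingCat.ofHom V.subtype) ≫ i₂ = i ≫ h ≫ f) :
    ∃ l : Spec (CommRingCat.of V) ⟶ Y,
      Spec.map (CommRingCat.ofHom V.subtype) ≫ l = i ≫ h ∧ l ≫ f = i₂ := by
  obtain ⟨g, hgdef⟩ : ∃ g : Z.residueField (i (IsLocalRing.closedPoint K)) ⟶ CommRingCat.of K,
      g = Scheme.descResidueField (Scheme.stalkClosedPointTo i) := ⟨_, rfl⟩
  have hg : Spec.map g ≫ Z.fromSpecResidueField (i (IsLocalRing.closedPoint K)) = i := by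
    rw [hgdef]
    exact Scheme.descResidueField_stalkClosedPointTo_fromSpecResidueField K Z i
  let ρ : ↥(V.comap g.hom) →+* ↥V :=
    (g.hom.comp (V.comap g.hom).subtype).codRestrict V.toSubring (fun a => a.2)
  have hρ : CommRingCat.ofHom ρ ≫ CommRingCat.ofHom V.subtype =
      CommRingCat.ofHom (V.comap g.hom).subtype ≫ g := rfl
  obtain ⟨φ, ⟨hφa, hφb⟩, -⟩ := Groth.Agent.S17897.result (h ≫ f) K V i i₂ w
    (i (IsLocalRing.closedPoint K)) g hg ρ (fun a => rfl)
  obtain ⟨φ', hφ'a, hφ'b⟩ := Ex _ (V.comap g.hom) φ hφb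
  refine ⟨Spec.map (CommRingCat.ofHom ρ) ≫ φ', ?_, ?_⟩
  · rw [← Category.assoc, ← Spec.map_comp, hρ, Spec.map_comp, Category.assoc, hφ'a,
      ← Category.assoc, hg]
  · rw [Category.assoc, hφ'b, hφa]

theorem subsingleton_liftStruct_of
    (Uq : ∀ (z : ↥Z) (R : ValuationSubring ↑(Z.residueField z))
        (φ : Spec (CommRingCat.of ↥R) ⟶ X),
        Spec.map (CommRingCat.ofHom R.subtype) ≫ φ = Z.fromSpecResidueField z ≫ h ≫ f →
        ∀ φ₁ φ₂ : Spec (CommRingCat.of ↥R) ⟶ Y,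
          Spec.map (CommRingCat.ofHom R.subtype) ≫ φ₁ = Z.fromSpecResidueField z ≫ h → φ₁ ≫ f = φ →
          Spec.map (CommRingCat.ofHom R.subtype) ≫ φ₂ = Z.fromSpecResidueField z ≫ h → φ₂ ≫ f = φ →
          φ₁ = φ₂) :
    ∀ sq : ValuativeCommSq f, (∃ i : Spec (.of sq.K) ⟶ Z, i ≫ h = sq.i₁) →
      Subsingleton sq.commSq.LiftStruct := by
  rintro sq ⟨i, hi⟩
  obtain ⟨V, e, h1⟩ := exists_valuationSubring_equiv sq.R sq.K
  constructor
  intro a b
  ext
  have key : Spec.map (CommRingCat.ofHom e.toRingHom) ≫ a.l =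
      Spec.map (CommRingCat.ofHom e.toRingHom) ≫ b.l := by
    apply lift_unique_of_residueField h f Uq sq.K V i
    · rw [← Category.assoc, ← Spec.map_comp, h1]; exact a.fac_left.trans hi.symm
    · rw [← Category.assoc, ← Spec.map_comp, h1]; exact b.fac_left.trans hi.symm
    · rw [Category.assoc, Category.assoc, a.fac_right, b.fac_right]
  calc a.l = (Spec.map (CommRingCat.ofHom e.symm.toRingHom) ≫
        Spec.map (CommRingCat.ofHom e.toRingHom)) ≫ a.l := by
        rw [specMap_equiv_symm_comp, Category.id_comp]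
    _ = (Spec.map (CommRingCat.ofHom e.symm.toRingHom) ≫
        Spec.map (CommRingCat.ofHom e.toRingHom)) ≫ b.l := by
        rw [Category.assoc, key, ← Category.assoc]
    _ = b.l := by rw [specMap_equiv_symm_comp, Category.id_comp]

theorem unique_liftStruct_of
    (EU : ∀ (z : ↥Z) (R : ValuationSubring ↑(Z.residueField z))
        (φ : Spec (CommRingCat.of ↥R) ⟶ X),
        Spec.map (CommRingCat.ofHom R.subtype) ≫ φ = Z.fromSpecResidueField z ≫ h ≫ f →
        ∃! φ' : Spec (CommRingCat.of ↥R) ⟶ Y,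
          Spec.map (CommRingCat.ofHom R.subtype) ≫ φ' = Z.fromSpecResidueField z ≫ h ∧ φ' ≫ f = φ) :
    ∀ sq : ValuativeCommSq f, (∃ i : Spec (.of sq.K) ⟶ Z, i ≫ h = sq.i₁) →
      Nonempty (Unique sq.commSq.LiftStruct) := by
  rintro sq ⟨i, hi⟩
  have hsub := subsingleton_liftStruct_of h f
    (fun z R φ hφ φ₁ φ₂ a1 a2 b1 b2 => (EU z R φ hφ).unique ⟨a1, a2⟩ ⟨b1, b2⟩) sq ⟨i, hi⟩
  obtain ⟨V, e, h1⟩ := exists_valuationSubring_equiv sq.R sq.K
  have w : Spec.map (CommRingCat.ofHom V.subtype) ≫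
      (Spec.map (CommRingCat.ofHom e.toRingHom) ≫ sq.i₂) = i ≫ h ≫ f := by
    rw [← Category.assoc, ← Spec.map_comp, h1, ← Category.assoc, hi]
    exact sq.commSq.w.symm
  obtain ⟨l, hl1, hl2⟩ := exists_lift_of_residueField h f
    (fun z R φ hφ => (EU z R φ hφ).exists) sq.K V i _ w
  have hsymm : Spec.map (CommRingCat.ofHom e.toRingHom) ≫
      Spec.map (CommRingCat.ofHom e.symm.toRingHom) = 𝟙 _ := by
    have := specMap_equiv_symm_comp e.symm
    exact this
  refine ⟨{ default := ⟨Spec.map (CommRingCat.ofHom e.symm.toRingHom) ≫ l, ?_, ?_⟩,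
            uniq := fun m => hsub.elim _ _ }⟩
  · rw [← h1, Spec.map_comp, Category.assoc,
      ← Category.assoc (Spec.map (CommRingCat.ofHom e.toRingHom)), hsymm, Category.id_comp,
      hl1, hi]
  · rw [Category.assoc, hl2, ← Category.assoc, specMap_equiv_symm_comp, Category.id_comp]

end refined

end Groth.Agent.H54
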