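import Groth.Agent.S9681
import Mathlib.AlgebraicGeometry.ValuativeCriterion
import Mathlib.AlgebraicGeometry.Morphisms.ClosedImmersion
import Mathlib.AlgebraicGeometry.Morphisms.Separated
import Mathlib.AlgebraicGeometry.FunctionField

set_option autoImplicit false
universe u

namespace Groth.Agent.H54

open AlgebraicGeometry CategoryTheory Limits IsLocalRing

/-- Lifting a fraction-field point to a section over the spectrum of a valuation ring, given a
specialization lying over the closed point. -/
theorem exists_lift_of_specializes {X : Scheme.{u}} (R K : Type u) [CommRing R] [IsDomain R]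
    [ValuationRing R] [Field K] [Algebra R K] [IsFractionRing R K]
    (f : X ⟶ Spec (CommRingCat.of R)) (i₁ : Spec (CommRingCat.of K) ⟶ X)
    (w : i₁ ≫ f = Spec.map (CommRingCat.ofHom (algebraMap R K)))
    (x : X) (h₁ : i₁ (closedPoint K) ⤳ x) (h₂ : f x = closedPoint R) :
    ∃ l : Spec (CommRingCat.of R) ⟶ X,
      Spec.map (CommRingCat.ofHom (algebraMap R K)) ≫ l = i₁ ∧ l ≫ f = 𝟙 _ := by
  have : IsDomain (CommRingCat.of R) := ‹_›
  have : ValuationRing (CommRingCat.of R) := ‹_›
  let : Field (CommRingCat.of K) := ‹_›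
  let e : CommRingCat.of R ≅ (Spec <| .of R).presheaf.stalk (f x) :=
    (stalkClosedPointIso (.of R)).symm ≪≫
      (Spec <| .of R).presheaf.stalkCongr (.of_eq h₂.symm)
  let α := e.hom ≫ f.stalkMap x
  have : IsLocalHom e.hom.hom := isLocalHom_of_isIso e.hom
  have : IsLocalHom α.hom := inferInstanceAs
    (IsLocalHom ((f.stalkMap x).hom.comp e.hom.hom))
  let β := X.presheaf.stalkSpecializes h₁ ≫ Scheme.stalkClosedPointTo i₁
  have hE : Spec.map e.hom = (Spec (.of R)).fromSpecStalk (f x) := by
    rw [show e.hom = (stalkClosedPointIso (.of R)).inv ≫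
      ((Spec (.of R)).presheaf.stalkCongr (.of_eq h₂.symm)).hom from rfl, Spec.map_comp,
      Spec_stalkClosedPointIso, TopCat.Presheaf.stalkCongr_hom,
      Scheme.SpecMap_stalkSpecializes_fromSpecStalk]
  have hSpecα : Spec.map α = X.fromSpecStalk x ≫ f := by
    rw [show α = e.hom ≫ f.stalkMap x from rfl, Spec.map_comp, hE,
      Scheme.SpecMap_stalkMap_fromSpecStalk]
  have hαβ : α ≫ β = CommRingCat.ofHom (algebraMap R K) := by
    apply Spec.map_injective
    rw [Spec.map_comp, hSpecα,
      show β = X.presheaf.stalkSpecializes h₁ ≫ Scheme.stalkClosedPointTo i₁ from rfl,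
      Spec.map_comp, Category.assoc, Scheme.SpecMap_stalkSpecializes_fromSpecStalk_assoc,
      Scheme.Spec_stalkClosedPointTo_fromSpecStalk_assoc, w]
  have hbij := (bijective_rangeRestrict_comp_of_valuationRing (R := R) (K := K) α.hom β.hom
    (CommRingCat.hom_ext_iff.mp hαβ))
  let φ : X.presheaf.stalk x ⟶ CommRingCat.of R := CommRingCat.ofHom <|
    (RingEquiv.ofBijective _ hbij).symm.toRingHom.comp β.hom.rangeRestrict
  have hαφ : α ≫ φ = 𝟙 _ := by ext a; exact (RingEquiv.ofBijective _ hbij).symm_apply_apply a
  have hφβ : φ ≫ CommRingCat.ofHom (algebraMap R K) = β :=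
    hαβ ▸ CommRingCat.hom_ext (RingHom.ext fun a ↦ congr_arg Subtype.val
      ((RingEquiv.ofBijective _ hbij).apply_symm_apply (β.hom.rangeRestrict a)))
  refine ⟨Spec.map φ ≫ X.fromSpecStalk x, ?_, ?_⟩
  · rw [← Spec.map_comp_assoc, hφβ,
      show β = X.presheaf.stalkSpecializes h₁ ≫ Scheme.stalkClosedPointTo i₁ from rfl,
      Spec.map_comp, Category.assoc, Scheme.SpecMap_stalkSpecializes_fromSpecStalk,
      Scheme.Spec_stalkClosedPointTo_fromSpecStalk]
  · rw [Category.assoc, ← hSpecα, ← Spec.map_comp, hαφ, Spec.map_id]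

/-- A closed morphism from an integral separated scheme to the spectrum of a valuation ring whose
generic fibre is a single point with trivial residue field extension is an isomorphism. -/
theorem isIso_of_isClosedMap_of_valuationRing (A : Type u) [CommRing A] [IsDomain A]
    [ValuationRing A] (X : Scheme.{u}) [IsIntegral X] [X.IsSeparated]
    (f : X ⟶ (Spec (CommRingCat.of A))) (hf : IsClosedMap f.base)
    (x : X) (hx : f.base ⁻¹' {genericPoint (Spec (CommRingCat.of A))} = {x})
    (hres : Function.Bijective (f.residueFieldMap x).hom) : IsIso f := by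
  haveI : IsDomain (CommRingCat.of A) := ‹_›
  haveI : IsIntegral (Spec (CommRingCat.of A)) := inferInstance
  have hxη : f x = genericPoint (Spec (CommRingCat.of A)) := by
    have h0 : x ∈ f.base ⁻¹' {genericPoint (Spec (CommRingCat.of A))} := by rw [hx]; exact rfl
    exact h0
  have hξη : f (genericPoint X) = genericPoint (Spec (CommRingCat.of A)) := by
    have h1 : genericPoint X ⤳ x := (genericPoint_spec X).specializes trivial
    have h2 : f (genericPoint X) ⤳ f x := h1.map f.continuous
    rw [hxη] at h2
    have h3 : genericPoint (Spec (CommRingCat.of A)) ⤳ f (genericPoint X) :=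
      (genericPoint_spec (Spec (CommRingCat.of A))).specializes trivial
    exact (h2.antisymm h3).eq
  have hxξ : x = genericPoint X := by
    have h0 : genericPoint X ∈ f.base ⁻¹' {genericPoint (Spec (CommRingCat.of A))} := hξη
    rw [hx] at h0
    exact h0.symm
  subst hxξ
  -- the stalk map at the generic point is an isomorphism
  haveI h1 : IsIso (X.residue (genericPoint X)) := Groth.Agent.S9681.isIso_residue_genericPoint X
  haveI h2 : IsIso ((Spec (CommRingCat.of A)).residue (f (genericPoint X))) := by
    rw [hξη]; exact Groth.Agent.S9681.isIso_residue_genericPoint _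
  haveI h3 : IsIso (f.residueFieldMap (genericPoint X)) :=
    (ConcreteCategory.isIso_iff_bijective _).mpr hres
  haveI hstalk : IsIso (f.stalkMap (genericPoint X)) := by
    haveI : IsIso (f.stalkMap (genericPoint X) ≫ X.residue (genericPoint X)) := by
      rw [← Scheme.residue_residueFieldMap]; infer_instance
    exact IsIso.of_isIso_comp_right (f.stalkMap (genericPoint X)) (X.residue (genericPoint X))
  have hsp : genericPoint (Spec (CommRingCat.of A)) ⤳ f (genericPoint X) := (genericPoint_spec (Spec (CommRingCat.of A))).specializes trivial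
  letI : Algebra A (Spec (CommRingCat.of A)).functionField :=
    AlgebraicGeometry.instAlgebraCarrierFunctionFieldSpec (CommRingCat.of A)
  haveI : IsFractionRing A (Spec (CommRingCat.of A)).functionField :=
    functionField_isFractionRing_of_affine (CommRingCat.of A)
  obtain ⟨τ, hτ1, hτ2⟩ : ∃ τ : CommRingCat.of A ⟶ (Spec (CommRingCat.of A)).presheaf.stalk (genericPoint (Spec (CommRingCat.of A))),
      (Spec (CommRingCat.of A)).fromSpecStalk (genericPoint (Spec (CommRingCat.of A))) = Spec.map τ ∧
        τ.hom = algebraMap A (Spec (CommRingCat.of A)).functionField :=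
    ⟨StructureSheaf.toStalk (CommRingCat.of A) _, Spec.fromSpecStalk_eq' _ _, rfl⟩
  let eK : FractionRing A ≃ₐ[A] (Spec (CommRingCat.of A)).functionField :=
    IsLocalization.algEquiv (nonZeroDivisors A) _ _
  obtain ⟨θK, hθKdef⟩ : ∃ θK : (Spec (CommRingCat.of A)).presheaf.stalk (genericPoint (Spec (CommRingCat.of A))) ⟶
      CommRingCat.of (FractionRing A),
      θK = CommRingCat.ofHom (eK.symm : (Spec (CommRingCat.of A)).functionField →+* FractionRing A) := ⟨_, rfl⟩
  have hθK : τ ≫ θK = CommRingCat.ofHom (algebraMap A (FractionRing A)) := by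
    rw [hθKdef]
    refine CommRingCat.hom_ext (RingHom.ext fun a => ?_)
    show eK.symm (τ.hom a) = algebraMap A (FractionRing A) a
    rw [hτ2]
    exact eK.symm.commutes a
  obtain ⟨θ, hθdef⟩ : ∃ θ : X.presheaf.stalk (genericPoint X) ⟶ CommRingCat.of (FractionRing A),
      θ = inv (f.stalkMap (genericPoint X)) ≫ (Spec (CommRingCat.of A)).presheaf.stalkSpecializes hsp ≫ θK := ⟨_, rfl⟩
  obtain ⟨i₁, hi₁def⟩ : ∃ i₁ : Spec (CommRingCat.of (FractionRing A)) ⟶ X,
      i₁ = Spec.map θ ≫ X.fromSpecStalk (genericPoint X) := ⟨_, rfl⟩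
  have w : i₁ ≫ f = Spec.map (CommRingCat.ofHom (algebraMap A (FractionRing A))) := by
    have e1 : f.stalkMap (genericPoint X) ≫ θ = (Spec (CommRingCat.of A)).presheaf.stalkSpecializes hsp ≫ θK := by
      rw [hθdef, IsIso.hom_inv_id_assoc]
    calc i₁ ≫ f = Spec.map θ ≫ (X.fromSpecStalk (genericPoint X) ≫ f) := by
          rw [hi₁def, Category.assoc]
      _ = Spec.map θ ≫ (Spec.map (f.stalkMap (genericPoint X)) ≫
            (Spec (CommRingCat.of A)).fromSpecStalk (f (genericPoint X))) := by
          rw [Scheme.SpecMap_stalkMap_fromSpecStalk]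
      _ = Spec.map (f.stalkMap (genericPoint X) ≫ θ) ≫
            (Spec (CommRingCat.of A)).fromSpecStalk (f (genericPoint X)) := by
          rw [Spec.map_comp, Category.assoc]
      _ = Spec.map θK ≫ (Spec.map ((Spec (CommRingCat.of A)).presheaf.stalkSpecializes hsp) ≫
            (Spec (CommRingCat.of A)).fromSpecStalk (f (genericPoint X))) := by
          rw [e1, Spec.map_comp, Category.assoc]
      _ = Spec.map θK ≫ (Spec (CommRingCat.of A)).fromSpecStalk (genericPoint (Spec (CommRingCat.of A))) := by
          rw [Scheme.SpecMap_stalkSpecializes_fromSpecStalk]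
      _ = Spec.map θK ≫ Spec.map τ := by
          rw [hτ1]
      _ = Spec.map (CommRingCat.ofHom (algebraMap A (FractionRing A))) := by
          rw [← Spec.map_comp, hθK]
  -- a point over the closed point
  obtain ⟨x₀, hx₀⟩ : ∃ x₀ : X, f x₀ = closedPoint A := by
    have hcl : IsClosed (Set.range f.base) := hf.isClosed_range
    have hη : genericPoint (Spec (CommRingCat.of A)) ∈ Set.range f.base := ⟨genericPoint X, hξη⟩
    have hsub : closure {genericPoint (Spec (CommRingCat.of A))} ⊆ Set.range f.base :=
      (hcl.closure_subset_iff).mpr (Set.singleton_subset_iff.mpr hη)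
    rw [(genericPoint_spec (Spec (CommRingCat.of A))).def] at hsub
    obtain ⟨x₀, hx₀⟩ := hsub (trivial : closedPoint A ∈ (⊤ : Set (Spec (CommRingCat.of A))))
    exact ⟨x₀, hx₀⟩
  have hi₁gen : i₁ (closedPoint (FractionRing A)) ⤳ genericPoint X := by
    have hmem : i₁ (closedPoint (FractionRing A)) ∈
        Set.range (X.fromSpecStalk (genericPoint X)) :=
      ⟨Spec.map θ (closedPoint (FractionRing A)), by rw [hi₁def, Scheme.Hom.comp_apply]⟩
    rwa [Scheme.range_fromSpecStalk] at hmem
  have hi₁ : i₁ (closedPoint (FractionRing A)) ⤳ x₀ :=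
    hi₁gen.trans ((genericPoint_spec X).specializes trivial)
  obtain ⟨l, hl₁, hl₂⟩ := exists_lift_of_specializes A (FractionRing A) f i₁ w x₀ hi₁ hx₀
  have hlξ : l (Spec.map (CommRingCat.ofHom (algebraMap A (FractionRing A)))
      (closedPoint (FractionRing A))) = genericPoint X := by
    rw [← Scheme.Hom.comp_apply, hl₁]
    exact (hi₁gen.antisymm ((genericPoint_spec X).specializes trivial)).eq
  haveI : IsClosedImmersion l := by
    haveI : IsClosedImmersion (l ≫ f) := by rw [hl₂]; infer_instance
    exact IsClosedImmersion.of_comp l f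
  haveI : Surjective l := by
    refine ⟨fun z => ?_⟩
    have hcl : IsClosed (Set.range l) := l.isClosedEmbedding.isClosed_range
    have hsub : closure {genericPoint X} ⊆ Set.range l :=
      hcl.closure_subset_iff.mpr (Set.singleton_subset_iff.mpr ⟨_, hlξ⟩)
    rw [(genericPoint_spec X).def] at hsub
    exact hsub trivial
  haveI : IsIso l := isIso_of_isClosedImmersion_of_surjective l
  have hfl : f = inv l := by rw [← cancel_epi l, hl₂, IsIso.hom_inv_id]
  rw [hfl]; infer_instance

end Groth.Agent.H54
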