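import Mathlib
import Groth.Agent.H54.ValDense4
import Groth.Agent.H54.DVRLift
import Groth.Agent.H54.DVRSep

/-!
# The valuative criterion through chosen generizations, and the Noetherian variants
-/

set_option autoImplicit false
universe u

open CategoryTheory CategoryTheory.Limits AlgebraicGeometry

namespace Groth.Agent.H54

/-- Core step, pointwise form: lifting a valuation ring of a residue field of `X` at `x`, given a
point `u` of `U` with `h u ⤳ x` and unique lifting for valuation rings of `κ(u)`. -/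
theorem exists_lift_core_pt {U X S : Scheme.{u}} (f : X ⟶ S) (h : U ⟶ X) (u : U) (x : X)
    (hux : h.base u ⤳ x)
    (H : ∀ (R : ValuationSubring (U.residueField u)) (ψ : Spec (CommRingCat.of R) ⟶ S),
      Spec.map (CommRingCat.ofHom R.subtype) ≫ ψ = (U.fromSpecResidueField u ≫ h) ≫ f →
      ∃! l : Spec (CommRingCat.of R) ⟶ X,
        Spec.map (CommRingCat.ofHom R.subtype) ≫ l = U.fromSpecResidueField u ≫ h ∧ l ≫ f = ψ)
    (A : ValuationSubring (X.residueField x)) (φ' : Spec (CommRingCat.of A) ⟶ S)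
    (hφ' : Spec.map (CommRingCat.ofHom A.subtype) ≫ φ' = X.fromSpecResidueField x ≫ f) :
    ∃ ℓ : Spec (CommRingCat.of A) ⟶ X,
      Spec.map (CommRingCat.ofHom A.subtype) ≫ ℓ = X.fromSpecResidueField x ∧ ℓ ≫ f = φ' := by
  obtain ⟨A', θ, hθloc, hθ⟩ := exists_valuationSubring_of_specializes h u x hux
  haveI := hθloc
  obtain ⟨g', hg'⟩ : ∃ g' : Spec (CommRingCat.of A') ⟶ X, g' = Spec.map θ ≫ X.fromSpecStalk x :=
    ⟨_, rfl⟩
  have hθ' : Spec.map (CommRingCat.ofHom A'.subtype) ≫ g' = U.fromSpecResidueField u ≫ h := by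
    rw [hg']; exact hθ
  obtain ⟨γ, hγdef⟩ : ∃ γ : X.residueField x →+* IsLocalRing.ResidueField A',
      γ = IsLocalRing.ResidueField.map θ.hom := ⟨_, rfl⟩
  have hγ : X.residue x ≫ CommRingCat.ofHom γ =
      θ ≫ CommRingCat.ofHom (IsLocalRing.residue A') := by rw [hγdef]; rfl
  have E1 : Spec.map (CommRingCat.ofHom (IsLocalRing.residue A')) ≫ g' =
      Spec.map (CommRingCat.ofHom γ) ≫ X.fromSpecResidueField x := by
    rw [hg', Scheme.fromSpecResidueField, ← Spec.map_comp_assoc, ← Spec.map_comp_assoc]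
    exact congrArg (fun m => Spec.map m ≫ X.fromSpecStalk x) hγ.symm
  obtain ⟨A'', rfl⟩ := exists_valuationSubring_extension A γ
  obtain ⟨C, hC⟩ : ∃ C, C = compVal A' A'' := ⟨_, rfl⟩
  have hCle : C ≤ A' := hC ▸ compVal_le A' A''
  obtain ⟨ι, hι⟩ : ∃ ι : C →+* A', ι = ValuationSubring.inclusion C A' hCle := ⟨_, rfl⟩
  obtain ⟨σ, hσsurj, hσ⟩ : ∃ σ : C →+* A'', Function.Surjective σ ∧
      ∀ c : C, ((σ c : A'') : IsLocalRing.ResidueField A') = IsLocalRing.residue A' (ι c) := by
    subst hC hι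
    exact ⟨compValσ A' A'', compValσ_surjective A' A'', fun c => rfl⟩
  let τ : ↥(A''.comap γ) →+* ↥A'' :=
    (γ.comp (A''.comap γ).subtype).codRestrict A''.toSubring (fun a => a.2)
  have hτ : CommRingCat.ofHom τ ≫ CommRingCat.ofHom A''.subtype =
      CommRingCat.ofHom (A''.comap γ).subtype ≫ CommRingCat.ofHom γ := rfl
  have hιsub : CommRingCat.ofHom ι ≫ CommRingCat.ofHom A'.subtype = CommRingCat.ofHom C.subtype := by
    subst hι; rfl
  have hσι : CommRingCat.ofHom σ ≫ CommRingCat.ofHom A''.subtype =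
      CommRingCat.ofHom ι ≫ CommRingCat.ofHom (IsLocalRing.residue A') := by
    ext c
    exact hσ c
  -- the morphism `Spec C ⟶ S`
  have hht₁ : Spec.map (CommRingCat.ofHom A''.subtype) ≫ (Spec.map (CommRingCat.ofHom τ) ≫ φ') =
      Spec.map (CommRingCat.ofHom (IsLocalRing.residue ↥A')) ≫ (g' ≫ f) := by
    rw [← Category.assoc, ← Spec.map_comp, hτ, Spec.map_comp, Category.assoc, hφ',
      ← Category.assoc (Spec.map (CommRingCat.ofHom (IsLocalRing.residue ↥A'))), E1, Category.assoc]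
  obtain ⟨ψ, ⟨hψ1, -, hψ3, hψ4⟩, -⟩ := Groth.Agent.S17898.result (terminal.from S)
    (U.residueField u) C A' hCle ι (fun c => by subst hι; rfl)
    (Spec.map (CommRingCat.ofHom A'.subtype) ≫ g' ≫ f) (terminal.from _) (terminal.hom_ext _ _)
    (g' ≫ f) rfl (terminal.hom_ext _ _) A'' σ hσsurj hσ
    (Spec.map (CommRingCat.ofHom τ) ≫ φ') hht₁ (terminal.hom_ext _ _)
  -- the lift over `C`
  have wC : Spec.map (CommRingCat.ofHom C.subtype) ≫ ψ = (U.fromSpecResidueField u ≫ h) ≫ f := by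
    rw [hψ1, ← hθ', Category.assoc]
  obtain ⟨ℓC, ⟨hℓC1, hℓC2⟩, -⟩ := H C ψ wC
  -- uniqueness over `A'`
  have wA : Spec.map (CommRingCat.ofHom A'.subtype) ≫ (g' ≫ f) =
      (U.fromSpecResidueField u ≫ h) ≫ f := by
    rw [← hθ', Category.assoc]
  have hl12 : Spec.map (CommRingCat.ofHom ι) ≫ ℓC = g' := by
    have p1 : Spec.map (CommRingCat.ofHom A'.subtype) ≫ Spec.map (CommRingCat.ofHom ι) ≫ ℓC =
        U.fromSpecResidueField u ≫ h := by
      rw [← Category.assoc, ← Spec.map_comp, hιsub]; exact hℓC1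
    have p2 : (Spec.map (CommRingCat.ofHom ι) ≫ ℓC) ≫ f = g' ≫ f := by
      rw [Category.assoc, hℓC2, hψ3]
    exact (H A' (g' ≫ f) wA).unique ⟨p1, p2⟩ ⟨hθ', rfl⟩
  -- the lift over `A''`
  have hℓ''f : (Spec.map (CommRingCat.ofHom σ) ≫ ℓC) ≫ f = Spec.map (CommRingCat.ofHom τ) ≫ φ' := by
    rw [Category.assoc, hℓC2, hψ4]
  have hℓ''K : Spec.map (CommRingCat.ofHom A''.subtype) ≫ Spec.map (CommRingCat.ofHom σ) ≫ ℓC =
      Spec.map (CommRingCat.ofHom γ) ≫ X.fromSpecResidueField x := by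
    rw [← Category.assoc, ← Spec.map_comp, hσι, Spec.map_comp, Category.assoc, hl12, E1]
  -- descend to `A`
  obtain ⟨φ'', ⟨hφ''1, hφ''2⟩, -⟩ := Groth.Agent.S17897.result (𝟙 X)
    (IsLocalRing.ResidueField A') A''
    (Spec.map (CommRingCat.ofHom γ) ≫ X.fromSpecResidueField x)
    (Spec.map (CommRingCat.ofHom σ) ≫ ℓC)
    (by rw [Category.comp_id]; exact hℓ''K) x (CommRingCat.ofHom γ) rfl τ (fun a => rfl)
  obtain ⟨φ₀, -, hφ₀uniq⟩ := Groth.Agent.S17897.result f
    (IsLocalRing.ResidueField A') A''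
    (Spec.map (CommRingCat.ofHom γ) ≫ X.fromSpecResidueField x)
    ((Spec.map (CommRingCat.ofHom σ) ≫ ℓC) ≫ f)
    (by rw [← Category.assoc, ← Category.assoc, Category.assoc (Spec.map (CommRingCat.ofHom A''.subtype)),
      hℓ''K, Category.assoc]) x (CommRingCat.ofHom γ) rfl τ (fun a => rfl)
  have e1 : φ'' ≫ f = φ₀ := hφ₀uniq _ ⟨by rw [← Category.assoc, hφ''1], by
    rw [← Category.assoc, hφ''2, Category.comp_id]⟩
  have e2 : φ' = φ₀ := hφ₀uniq _ ⟨hℓ''f.symm, hφ'⟩
  exact ⟨φ'', by rw [hφ''2, Category.comp_id], e1.trans e2.symm⟩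

/-- The existence part of the valuative criterion for a separated morphism, from lifting of
valuation rings of all residue fields of `X`. -/
theorem existence_of_core {X S : Scheme.{u}} (f : X ⟶ S) [IsSeparated f]
    (core : ∀ (x : X) (A : ValuationSubring (X.residueField x))
      (φ' : Spec (CommRingCat.of A) ⟶ S),
      Spec.map (CommRingCat.ofHom A.subtype) ≫ φ' = X.fromSpecResidueField x ≫ f →
      ∃ ℓ : Spec (CommRingCat.of A) ⟶ X,
        Spec.map (CommRingCat.ofHom A.subtype) ≫ ℓ = X.fromSpecResidueField x ∧ ℓ ≫ f = φ') :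
    ValuativeCriterion.Existence f := by
  have EU : ∀ (z : X) (R : ValuationSubring (X.residueField z))
      (φ : Spec (CommRingCat.of R) ⟶ S),
      Spec.map (CommRingCat.ofHom R.subtype) ≫ φ = X.fromSpecResidueField z ≫ 𝟙 X ≫ f →
      ∃! φ' : Spec (CommRingCat.of R) ⟶ X,
        Spec.map (CommRingCat.ofHom R.subtype) ≫ φ' = X.fromSpecResidueField z ≫ 𝟙 X ∧
          φ' ≫ f = φ := by
    intro z R φ hφ
    obtain ⟨ℓ, a, b⟩ := core z R φ (by rw [hφ, Category.id_comp])
    refine ⟨ℓ, ⟨by rw [a, Category.comp_id], b⟩, fun m hm => ?_⟩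
    obtain ⟨m1, m2⟩ := hm
    exact DVRSep.lift_unique_of_isSeparated f R m ℓ (m2.trans b.symm)
      (m1.trans (by rw [a, Category.comp_id]))
  intro sq
  obtain ⟨uq⟩ := unique_liftStruct_of (𝟙 X) f EU sq ⟨sq.i₁, Category.comp_id _⟩
  exact ⟨⟨uq.default⟩⟩

/-- **Noetherian valuative criterion through a dense finite type morphism** (properness). -/
theorem isProper_of_dvr_through_dense {X S U : Scheme.{u}} [IsLocallyNoetherian S] (f : X ⟶ S)
    [IsSeparated f] [LocallyOfFiniteType f] [QuasiCompact f] (h : U ⟶ X)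
    [LocallyOfFiniteType h] [QuasiCompact h] (hd : DenseRange h.base)
    (H : ∀ (A : Type u) [CommRing A] [IsDomain A] [IsDiscreteValuationRing A]
      (u : Spec (CommRingCat.of (FractionRing A)) ⟶ U) (y : Spec (CommRingCat.of A) ⟶ S),
      u ≫ h ≫ f = Spec.map (CommRingCat.ofHom (algebraMap A (FractionRing A))) ≫ y →
        ∃ l : Spec (CommRingCat.of A) ⟶ X, l ≫ f = y ∧
          Spec.map (CommRingCat.ofHom (algebraMap A (FractionRing A))) ≫ l = u ≫ h) :
    IsProper f := by
  have EU : ∀ (z : U) (R : ValuationSubring (U.residueField z))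
      (φ : Spec (CommRingCat.of R) ⟶ S),
      Spec.map (CommRingCat.ofHom R.subtype) ≫ φ = U.fromSpecResidueField z ≫ h ≫ f →
      ∃! φ' : Spec (CommRingCat.of R) ⟶ X,
        Spec.map (CommRingCat.ofHom R.subtype) ≫ φ' = U.fromSpecResidueField z ≫ h ∧
          φ' ≫ f = φ := by
    intro z R φ hφ
    obtain ⟨ℓ, a, b⟩ := DVRLift.exists_lift_of_dvr f (U.residueField z)
      (U.fromSpecResidueField z ≫ h)
      (fun W hW hi => by
        have hi' : (U.fromSpecResidueField z ≫ h ≫ f) ⁻¹ᵁ W = ⊤ := by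
          rw [← Category.assoc]; exact hi
        rw [Groth.Agent.H73.AnClosed.toAff_congr
          (Category.assoc (U.fromSpecResidueField z) h f) W hi hi']
        exact DVRLift.closure_residueField (h ≫ f) z W hW hi')
      (fun V hV y hy => FracTransport.exists_of_H f h H z V hV y hy)
      R φ (by rw [hφ, Category.assoc])
    refine ⟨ℓ, ⟨a, b⟩, fun m hm => ?_⟩
    obtain ⟨m1, m2⟩ := hm
    exact DVRSep.lift_unique_of_isSeparated f R m ℓ (m2.trans b.symm) (m1.trans a.symm)
  haveI := (universallyClosed_and_isSeparated_of_dense f h hd (unique_liftStruct_of h f EU)).1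
  exact {}

/-- **Noetherian valuative criterion at generic points** (properness, the hard direction). -/
theorem isProper_of_generic {X S : Scheme.{u}} [IsLocallyNoetherian S] (f : X ⟶ S)
    [LocallyOfFiniteType f] [QuasiCompact f]
    (Hg : ∀ (η : X), closure {η} ∈ irreducibleComponents (X : Type u) →
      ∀ (A : ValuationSubring (X.residueField η)), IsDiscreteValuationRing A →
        ∀ y : Spec (CommRingCat.of A) ⟶ S,
          Spec.map (CommRingCat.ofHom A.subtype) ≫ y = X.fromSpecResidueField η ≫ f →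
          ∃! l : Spec (CommRingCat.of A) ⟶ X,
            l ≫ f = y ∧ Spec.map (CommRingCat.ofHom A.subtype) ≫ l = X.fromSpecResidueField η) :
    IsProper f := by
  haveI : IsSeparated f := DVRSep.isSeparated_of_generic f
    (fun η hη A hA l₁ l₂ h12 h1 h2 =>
      (Hg η hη A hA (l₁ ≫ f) (by rw [← Category.assoc, h1])).unique ⟨rfl, h1⟩ ⟨h12.symm, h2⟩)
  have core : ∀ (x : X) (A : ValuationSubring (X.residueField x))
      (φ' : Spec (CommRingCat.of A) ⟶ S),
      Spec.map (CommRingCat.ofHom A.subtype) ≫ φ' = X.fromSpecResidueField x ≫ f →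
      ∃ ℓ : Spec (CommRingCat.of A) ⟶ X,
        Spec.map (CommRingCat.ofHom A.subtype) ≫ ℓ = X.fromSpecResidueField x ∧ ℓ ≫ f = φ' := by
    intro x A φ' hφ'
    obtain ⟨η, hηx, hη⟩ := exists_generic_specializes x
    refine exists_lift_core_pt f (𝟙 X) η x hηx (fun R ψ hψ => ?_) A φ' hφ'
    have hψ' : Spec.map (CommRingCat.ofHom R.subtype) ≫ ψ = X.fromSpecResidueField η ≫ f := by
      rw [hψ, Category.comp_id]
    obtain ⟨l, hl1, hl2⟩ := DVRLift.exists_lift_of_dvr f (X.residueField η)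
      (X.fromSpecResidueField η)
      (fun W hW hi => DVRLift.closure_residueField f η W hW hi)
      (fun V hV y hy => by
        obtain ⟨l, ⟨a, b⟩, -⟩ := Hg η hη V hV y hy
        exact ⟨l, b, a⟩) R ψ hψ'
    refine ⟨l, ⟨by rw [hl1, Category.comp_id], hl2⟩, fun m hm => ?_⟩
    obtain ⟨m1, m2⟩ := hm
    exact DVRSep.lift_unique_of_isSeparated f R m l (m2.trans hl2.symm)
      (by rw [m1, Category.comp_id, hl1])
  haveI := UniversallyClosed.of_valuativeCriterion f (existence_of_core f core)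
  exact {}

end Groth.Agent.H54
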