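import Mathlib

/-!
# (AR) for helper74's S14484 squad: arithmetic in `WithBot ℕ∞`
-/

set_option autoImplicit false
universe u

namespace Groth.Agent.H54.WI_AR

theorem arith_enat (a b c e : ℕ∞) (h : e + c ≤ a + b) (hbc : b < c) (ha : a < c) : e < a := by
  have ha' : a ≠ ⊤ := ne_top_of_lt ha
  have hb' : b ≠ ⊤ := ne_top_of_lt hbc
  lift a to ℕ using ha'
  lift b to ℕ using hb'
  have hab : ((a : ℕ∞) + (b : ℕ∞)) ≠ ⊤ := by simp
  have hsum : (e + c) ≠ ⊤ := ne_top_of_le_ne_top hab h
  have he' : e ≠ ⊤ := fun he => hsum (by rw [he, top_add])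
  have hc' : c ≠ ⊤ := fun hc => hsum (by rw [hc, add_top])
  lift e to ℕ using he'
  lift c to ℕ using hc'
  norm_cast at h hbc ha ⊢
  omega

/-- (AR) arithmetic in `WithBot ℕ∞` -/
theorem arith (a b c e : WithBot ℕ∞) (h : e + c ≤ a + b) (hbc : b < c) (ha0 : 0 ≤ a) (ha : a < c) :
    e < a := by
  induction a using WithBot.recBotCoe with
  | bot => simp at ha0
  | coe a =>
    induction e using WithBot.recBotCoe with
    | bot => exact WithBot.bot_lt_coe a
    | coe e =>
      induction c using WithBot.recBotCoe with
      | bot => exact absurd ha (not_lt_bot)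
      | coe c =>
        induction b using WithBot.recBotCoe with
        | bot =>
          exfalso
          rw [WithBot.add_bot, le_bot_iff, WithBot.add_eq_bot] at h
          rcases h with h | h
          · exact WithBot.coe_ne_bot h
          · exact WithBot.coe_ne_bot h
        | coe b =>
          rw [← WithBot.coe_add, ← WithBot.coe_add, WithBot.coe_le_coe] at h
          rw [WithBot.coe_lt_coe] at hbc ha ⊢
          exact arith_enat a b c e h hbc ha

end Groth.Agent.H54.WI_AR
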