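import Mathlib
import Groth.Agent.H54.SchemeDim2

/-!
# (DU) for helper74's S14484 squad

For closed subsets `F`, `D` of a scheme locally of finite type over a field,
`dim F ≤ max (dim (F \ D)) (dim (F ∩ D))`.
-/

set_option autoImplicit false
universe u
open CategoryTheory CategoryTheory.Limits AlgebraicGeometry

namespace Groth.Agent.H54.WI_DU

open Groth.Agent.H54

variable {k : Type u} [Field k]

/-- residue field maps of closed immersions are surjective -/
theorem residueFieldMap_surjective {X Y : Scheme.{u}} (f : Y ⟶ X) [IsClosedImmersion f] (y : Y) :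
    Function.Surjective (f.residueFieldMap y).hom := by
  intro g'
  obtain ⟨b, rfl⟩ := Y.residue_surjective y g'
  obtain ⟨a, rfl⟩ := f.stalkMap_surjective y b
  refine ⟨X.residue (f y) a, ?_⟩
  have := congrArg (fun φ => φ.hom a) (Scheme.residue_residueFieldMap f y)
  exact this

/-- closed immersions do not change the transcendence degree of residue fields. -/
theorem tdeg_le_of_closedImmersion {X Y : Scheme.{u}}
    (p : X ⟶ Spec (CommRingCat.of k)) (q : Y ⟶ Spec (CommRingCat.of k))
    [LocallyOfFiniteType p] [LocallyOfFiniteType q] (f : Y ⟶ X) [IsClosedImmersion f]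
    (hf : f ≫ p = q) (y : Y) : tdeg q y ≤ tdeg p (f y) := by
  letI := (resMapOf p (f y)).toAlgebra
  letI := (resMapOf q y).toAlgebra
  have hcomm : ∀ c : k, (f.residueFieldMap y).hom (algebraMap k (X.residueField (f y)) c) =
      algebraMap k (Y.residueField y) c := fun c =>
    congrArg (fun φ => φ.hom c) (resMapOf_comp_residueFieldMap p q f hf y)
  let g : X.residueField (f y) →ₐ[k] Y.residueField y :=
    { (f.residueFieldMap y).hom with commutes' := hcomm }
  have hsurj : Function.Surjective g := residueFieldMap_surjective f y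
  have h1 := trdeg_le_of_surjective g hsurj
  rw [tdeg_spec p (f y), tdeg_spec q y] at h1
  exact_mod_cast h1

/-- the reduced induced closed subscheme on a closed subset -/
theorem exists_closedSubscheme {W : Scheme.{u}} (C : Set W) (hC : IsClosed C) :
    ∃ (Z : Scheme.{u}) (i : Z ⟶ W), IsClosedImmersion i ∧ Set.range i.base = C := by
  refine ⟨(Scheme.IdealSheafData.vanishingIdeal ⟨C, hC⟩).subscheme,
    (Scheme.IdealSheafData.vanishingIdeal ⟨C, hC⟩).subschemeι, inferInstance, ?_⟩
  rw [Scheme.IdealSheafData.range_subschemeι, Scheme.IdealSheafData.coe_support_vanishingIdeal]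
  rfl

theorem topologicalKrullDim_preimage_eq {A B : Type*} [TopologicalSpace A] [TopologicalSpace B]
    {f : A → B} (hf : Topology.IsEmbedding f) (S : Set B) (hS : S ⊆ Set.range f) :
    topologicalKrullDim ↥(f ⁻¹' S) = topologicalKrullDim ↥S := by
  let ψ : ↥(f ⁻¹' S) → ↥S := fun a => ⟨f a.1, a.2⟩
  have hψ : Topology.IsEmbedding ψ := by
    have h1 : Topology.IsEmbedding (Subtype.val ∘ ψ) := by
      have h0 : (Subtype.val ∘ ψ : ↥(f ⁻¹' S) → B) = f ∘ Subtype.val := rfl
      rw [h0]
      exact hf.comp Topology.IsEmbedding.subtypeVal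
    exact (Topology.IsEmbedding.of_comp_iff Topology.IsEmbedding.subtypeVal).mp h1
  have hsurj : Function.Surjective ψ := by
    rintro ⟨b, hb⟩
    obtain ⟨a, rfl⟩ := hS hb
    exact ⟨⟨a, hb⟩, rfl⟩
  exact IsHomeomorph.topologicalKrullDim_eq ψ
    (isHomeomorph_iff_isEmbedding_surjective.mpr ⟨hψ, hsurj⟩)

theorem topologicalKrullDim_eq_bot_of_isEmpty {T : Type*} [TopologicalSpace T] [IsEmpty T] :
    topologicalKrullDim T = ⊥ := by
  rw [topologicalKrullDim, Order.krullDim_eq_bot_iff]
  exact ⟨fun Z => (Z.isIrreducible.nonempty.some : T) |> IsEmpty.false⟩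

theorem withBotENat_cases (x : WithBot ℕ∞) : x = ⊥ ∨ x = ⊤ ∨ ∃ m : ℕ, x = m := by
  induction x using WithBot.recBotCoe with
  | bot => exact Or.inl rfl
  | coe a =>
    induction a using ENat.recTopCoe with
    | top => exact Or.inr (Or.inl rfl)
    | coe m => exact Or.inr (Or.inr ⟨m, rfl⟩)

/-- the transcendence degree of a point of a locally closed subset bounds its dimension below. -/
theorem tdeg_le_dim_inter {W : Scheme.{u}} (p : W ⟶ Spec (CommRingCat.of k))
    [LocallyOfFiniteType p] (C U : Set W) (hC : IsClosed C) (hU : IsOpen U) (x : W)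
    (hx : x ∈ C ∩ U) : (tdeg p x : WithBot ℕ∞) ≤ topologicalKrullDim ↥(C ∩ U) := by
  obtain ⟨Z, i, hi, hrange⟩ := exists_closedSubscheme C hC
  haveI := hi
  obtain ⟨z, rfl⟩ : x ∈ Set.range i.base := by rw [hrange]; exact hx.1
  have hzV : z ∈ i ⁻¹ᵁ (⟨U, hU⟩ : W.Opens) := hx.2
  have h1 : (tdeg (i ≫ p) z : WithBot ℕ∞) ≤ topologicalKrullDim ↥(i ⁻¹ᵁ (⟨U, hU⟩ : W.Opens)) :=
    tdeg_le_topologicalKrullDim (i ≫ p) z (i ⁻¹ᵁ (⟨U, hU⟩ : W.Opens)) hzV
  have h2 : tdeg p (i.base z) ≤ tdeg (i ≫ p) z := tdeg_le_of_hom p (i ≫ p) i rfl z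
  have h2' : (tdeg p (i.base z) : WithBot ℕ∞) ≤ (tdeg (i ≫ p) z : WithBot ℕ∞) := by
    exact_mod_cast h2
  have hset : (i.base ⁻¹' (C ∩ U)) = ((i ⁻¹ᵁ (⟨U, hU⟩ : W.Opens) : Z.Opens) : Set Z) := by
    ext w
    constructor
    · intro hw
      exact hw.2
    · intro hw
      exact ⟨hrange ▸ Set.mem_range_self w, hw⟩
  have h3 := topologicalKrullDim_preimage_eq (f := i.base) i.isClosedEmbedding.isEmbedding (C ∩ U)
    (by rw [hrange]; exact Set.inter_subset_left)
  rw [hset] at h3
  exact h2'.trans (h1.trans h3.le)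

/-- a bound on transcendence degrees of the points of a closed subset bounds its dimension. -/
theorem dim_le_of_forall_tdeg_le {W : Scheme.{u}} (p : W ⟶ Spec (CommRingCat.of k))
    [LocallyOfFiniteType p] (F : Set W) (hF : IsClosed F) (n : ℕ)
    (h : ∀ x ∈ F, tdeg p x ≤ n) : topologicalKrullDim ↥F ≤ n := by
  obtain ⟨Z, i, hi, hrange⟩ := exists_closedSubscheme F hF
  haveI := hi
  have h1 : topologicalKrullDim Z ≤ n :=
    topologicalKrullDim_le_of_forall_tdeg_le (i ≫ p) n (fun z =>
      (tdeg_le_of_closedImmersion p (i ≫ p) i rfl z).trans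
        (h _ (hrange ▸ Set.mem_range_self z)))
  have h2 := topologicalKrullDim_preimage_eq (f := i.base) i.isClosedEmbedding.isEmbedding F
    (by rw [hrange])
  rw [← h2]
  exact (topologicalKrullDim_subspace_le Z _).trans h1

/-- (DU) dimension of a closed set = max of the dimensions of an open part and its complement -/
theorem dim_le_max_diff_inter (k : Type u) [Field k] {W : Scheme.{u}}
    (p : W ⟶ Spec (CommRingCat.of k))
    [LocallyOfFiniteType p] (F D : Set W) (hF : IsClosed F) (hD : IsClosed D) :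
    topologicalKrullDim ↥F ≤ max (topologicalKrullDim ↥(F \ D)) (topologicalKrullDim ↥(F ∩ D)) := by
  have hpt : ∀ x ∈ F, (tdeg p x : WithBot ℕ∞) ≤
      max (topologicalKrullDim ↥(F \ D)) (topologicalKrullDim ↥(F ∩ D)) := by
    intro x hx
    by_cases hxD : x ∈ D
    · refine le_trans ?_ (le_max_right _ _)
      have h0 := tdeg_le_dim_inter p (F ∩ D) Set.univ (hF.inter hD) isOpen_univ x
        ⟨⟨hx, hxD⟩, trivial⟩
      rwa [Set.inter_univ] at h0
    · refine le_trans ?_ (le_max_left _ _)
      have h0 := tdeg_le_dim_inter p F Dᶜ hF hD.isOpen_compl x ⟨hx, hxD⟩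
      rwa [← Set.diff_eq] at h0
  rcases withBotENat_cases
    (max (topologicalKrullDim ↥(F \ D)) (topologicalKrullDim ↥(F ∩ D))) with hm | hm | ⟨m, hm⟩
  · -- then `F` is empty
    haveI : IsEmpty ↥F := ⟨fun x => by
      have h0 := hpt x.1 x.2
      rw [hm, le_bot_iff] at h0
      exact WithBot.coe_ne_bot h0⟩
    rw [topologicalKrullDim_eq_bot_of_isEmpty]
    exact bot_le
  · rw [hm]
    exact le_top
  · rw [hm]
    refine dim_le_of_forall_tdeg_le p F hF m (fun x hx => ?_)
    have h0 := hpt x hx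
    rw [hm] at h0
    exact_mod_cast h0

end Groth.Agent.H54.WI_DU
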