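import Mathlib

/-!
# (PI) for helper74's S14483 squad

Pointwise version of the step `4 → 3` of `AlgebraicGeometry.tfae_universallyInjective`: if every
point of `X ×_S X` over `(x, x)` lies on the diagonal, then `κ(x)/κ(f x)` is purely inseparable.
(The proof is copied from Mathlib's proof of `tfae_universallyInjective`.)
-/

set_option autoImplicit false
universe u
open CategoryTheory CategoryTheory.Limits AlgebraicGeometry

namespace Groth.Agent.H54.WJ_PI

set_option backward.isDefEq.respectTransparency.types false in
set_option backward.defeqAttrib.useBackward true in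
theorem isPurelyInseparable_of_forall_mem_range_diagonal {X S : Scheme.{u}} (f : X ⟶ S) (x : X)
    (h : ∀ p : ↥(pullback f f), pullback.fst f f p = x → pullback.snd f f p = x →
      p ∈ Set.range (pullback.diagonal f)) :
    (f.residueFieldMap x).hom.IsPurelyInseparable := by
  algebraize [(f.residueFieldMap x).hom]
  rw [RingHom.IsPurelyInseparable, isPurelyInseparable_iff_subsingleton_emb, subsingleton_iff]
  intro σ₁ σ₂
  apply AlgHom.coe_ringHom_injective
  let g₁ := (X.SpecToEquivOfField _).symm ⟨_, CommRingCat.ofHom σ₁.toRingHom⟩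
  let g₂ := (X.SpecToEquivOfField _).symm ⟨_, CommRingCat.ofHom σ₂.toRingHom⟩
  suffices X.SpecToEquivOfField _ g₁ = X.SpecToEquivOfField _ g₂ by
    rw [Equiv.apply_symm_apply, Equiv.apply_symm_apply] at this
    exact congr($(this).2.hom)
  let q := pullback.lift (f := f) (g := f) g₁ g₂ <| by
    simp only [g₁, g₂, Scheme.SpecToEquivOfField_symm_apply, AlgHom.toRingHom_eq_coe,
      Category.assoc, ← f.SpecMap_residueFieldMap_fromSpecResidueField x, ← Spec.map_comp_assoc]
    congr 2
    ext a
    simp only [CommRingCat.hom_comp, RingHom.comp_apply]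
    exact (AlgHom.commutes σ₁ a).trans (AlgHom.commutes σ₂ a).symm
  have q_fst : q ≫ pullback.fst f f = g₁ := pullback.lift_fst _ _ _
  have q_snd : q ≫ pullback.snd f f = g₂ := pullback.lift_snd _ _ _
  have hfst : pullback.fst f f (q (IsLocalRing.closedPoint _)) = x := by
    rw [← Scheme.Hom.comp_apply, q_fst]
    simp [g₁, Scheme.SpecToEquivOfField_symm_apply]
  have hsnd : pullback.snd f f (q (IsLocalRing.closedPoint _)) = x := by
    rw [← Scheme.Hom.comp_apply, q_snd]
    simp [g₂, Scheme.SpecToEquivOfField_symm_apply]
  rw [Scheme.SpecToEquivOfField_eq_iff, ← q_fst, ← q_snd]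
  obtain ⟨u, hu⟩ := h (q (IsLocalRing.closedPoint _)) hfst hsnd
  have hux : u = x := by
    have := congr(pullback.fst f f $(hu))
    rw [← Scheme.Hom.comp_apply, ← Scheme.Hom.comp_apply] at this
    simpa [Scheme.SpecToEquivOfField_symm_apply, q_fst, g₁] using this
  refine ⟨by simp [g₁, g₂, q_fst, q_snd], ?_⟩
  dsimp
  simp only [Scheme.descResidueField_stalkClosedPointTo_comp, ← Category.assoc]
  congr 1
  rw [← cancel_mono (Scheme.residueFieldCongr (hux ▸ hu).symm).hom]
  have : Mono (Scheme.Hom.residueFieldMap (pullback.diagonal f) x) :=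
    ConcreteCategory.mono_of_injective _ (RingHom.injective _)
  simp [← cancel_mono ((pullback.diagonal f).residueFieldMap x), ← Scheme.residueFieldMap_comp,
    (pullback.fst f f).residueFieldMap_congr', (pullback.snd f f).residueFieldMap_congr'_assoc,
    Scheme.Hom.residueFieldMap_congr (pullback.diagonal_snd f),
    Scheme.Hom.residueFieldMap_congr (pullback.diagonal_fst f)]

end Groth.Agent.H54.WJ_PI
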